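import Cfsg.Agent.H989.OutOrth.Basic
import Cfsg.Agent.H989.OutOrth.Four
import Cfsg.Agent.AutOrth.Main
import Cfsg.Agent.LieClassical.OrthFinite
import Cfsg.Agent.H749.QuadSplit
import Cfsg.Agent.H181.StdBasis
import Cfsg.Agent.H953.Sympl
import Cfsg.Agent.H841.TwG_m3
import Cfsg.Agent.Lib.PackMatLin
import Cfsg.Agent.H834.U5Main
import Cfsg.Agent.H842.ThreeCl
import Cfsg.Agent.H841.Phi_m3
import Cfsg.Agent.FastGrp
import Cfsg.Agent.Prune
set_option linter.all false

section
prune_inst 0x7ffde9f9bbb8f9dfdfff7e7fa79ecdfdf9bbbfffa4dff9cbffe063ff0bbf4f00c945f3ad0bea90fe0ed7401410e87b43f97eca3fe26bd87ffffd1ff41ffbee0ffdf7b508519c88b40f340ffe03e0778e7f3fffffffffffffffffffffffffffbeffbfffffffff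

-- part: SB/D4/Defs
section
set_option linter.all false
open scoped Cfsg.Agent.FastGrp

/-!
# S5765, `PΩ₈⁺(q)` with triality: interface of the geometric boxes (helper97)

`L` is a group of semisimilitudes (the lifts of `S ⊓ PΓO`).  The conjugating elements are products `r_v r_u` of two
reflections of the same norm, `u` lying in a block of an orthogonal decomposition permuted by `L`.
See `notes/SB/d4.md`.
-/

set_option autoImplicit false

namespace Cfsg.Agent.SB.D4

open QuadraticMap Module Cfsg.Agent.LieClassical.OrthCore Cfsg.Agent.LieClassical.OrthTrans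
  Cfsg.Agent.ClassicalGeometry.OrthSemi Cfsg.Agent.ClassicalGeometry.OrthAut1 Cfsg.Agent.H989.OutOrth.Basic

section defs

variable {F V : Type} [Field F] [AddCommGroup V] [Module F V] (Q : QuadraticForm F V)

open Classical in
/-- the reflection in `v` (the identity if `v` is singular) -/
noncomputable def rr (v : V) : Gam Q := if h : Q v ≠ 0 then rf v h else 1

variable {Q}

theorem rr_eq {v : V} (h : Q v ≠ 0) : rr Q v = rf v h := dif_pos h

theorem rr_apply (v x : V) : (rr Q v).1 x = x - ((Q v)⁻¹ * polar Q v x) • v := by
  by_cases h : Q v = 0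
  · rw [rr, dif_neg (not_not.2 h), h, inv_zero, zero_mul, zero_smul, sub_zero]; rfl
  · rw [rr_eq h, rf_apply, refl_apply]

theorem rr_mul_self (v : V) : rr Q v * rr Q v = 1 := by
  by_cases h : Q v = 0
  · rw [rr, dif_neg (not_not.2 h), one_mul]
  · rw [rr_eq h, rf_mul_self]

theorem rr_inv (v : V) : (rr Q v)⁻¹ = rr Q v := inv_eq_of_mul_eq_one_left (rr_mul_self v)

theorem conj_rr (M : Gam Q) {v : V} (hv : Q v ≠ 0) : M * rr Q v * M⁻¹ = rr Q (M.1 v) := by
  rw [rr_eq hv, rr_eq (Q_ne M hv), conj_rf]

/-- `M` is a scalar -/
def IsScal (M : Gam Q) : Prop := ∃ c : F, ∀ x, M.1 x = c • x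

/-- `M` fixes the line spanned by `v` -/
def Fix (M : Gam Q) (v : V) : Prop := ∃ c : F, M.1 v = c • v

/-- conjugation by `r_v r_u` -/
noncomputable def cjv (v u : V) (M : Gam Q) : Gam Q := rr Q u * rr Q v * M * (rr Q v * rr Q u)

/-- two conjugates suffice -/
def Kill2 (L : Subgroup (Gam Q)) : Prop :=
  ∃ v₁ u₁ v₂ u₂ : V, Q v₁ ≠ 0 ∧ Q u₁ = Q v₁ ∧ Q v₂ ≠ 0 ∧ Q u₂ = Q v₂ ∧
    ∀ M ∈ L, cjv v₁ u₁ M ∈ L → cjv v₂ u₂ M ∈ L → IsScal M

/-- three conjugates suffice, the first intersection fixes a nonsingular point and contains a rotation `r_a r_b` -/
def Kill3 (L : Subgroup (Gam Q)) : Prop :=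
  ∃ v₁ u₁ v₂ u₂ v₃ u₃ a b : V, Q v₁ ≠ 0 ∧ Q u₁ = Q v₁ ∧ Q v₂ ≠ 0 ∧ Q u₂ = Q v₂ ∧ Q v₃ ≠ 0 ∧ Q u₃ = Q v₃ ∧
    Q a ≠ 0 ∧ Q b = Q a ∧ polar Q a b ^ 2 ≠ 4 * Q a ^ 2 ∧ rr Q a * rr Q b ∈ L ∧ cjv v₁ u₁ (rr Q a * rr Q b) ∈ L ∧
    (∀ M ∈ L, cjv v₁ u₁ M ∈ L → Fix M v₁) ∧
    ∀ M ∈ L, cjv v₁ u₁ M ∈ L → cjv v₂ u₂ M ∈ L → cjv v₃ u₃ M ∈ L → IsScal M

variable (Q) in
/-- an orthogonal decomposition -/
structure Dec {ι : Type} (P : ι → Submodule F V) : Prop where
  orth : ∀ i j, i ≠ j → ∀ x ∈ P i, ∀ y ∈ P j, polar Q x y = 0
  span : ⨆ i, P i = ⊤

/-- `L` permutes the blocks -/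
def Prm {ι : Type} (L : Subgroup (Gam Q)) (P : ι → Submodule F V) : Prop :=
  ∀ M ∈ L, ∀ i, ∃ j, ∀ x ∈ P i, M.1 x ∈ P j

variable (Q) in
/-- anisotropic -/
def Aniso (W : Submodule F V) : Prop := ∀ x ∈ W, Q x = 0 → x = 0

variable (Q) in
/-- `W` contains a totally singular plane -/
def HasTS (W : Submodule F V) : Prop :=
  ∃ e ∈ W, ∃ e' ∈ W, Q e = 0 ∧ Q e' = 0 ∧ polar Q e e' = 0 ∧ e ≠ 0 ∧ ∀ c : F, e' ≠ c • e

end defs

/-- four planes -/
def BoxA : Prop := ∀ (F V : Type) [Field F] [Finite F] [AddCommGroup V] [Module F V] [Finite V]
  (Q : QuadraticForm F V) (L : Subgroup (Gam Q)) (P : Fin 4 → Submodule F V), Nondeg Q → Dec Q P →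
  (∀ i, finrank F (P i) = 2) → Prm L P → (3 ≤ Nat.card F ∨ ∀ i, Aniso Q (P i)) →
  ((∃ a ∈ P 3, ∃ b ∈ P 3, Q a ≠ 0 ∧ Q b = Q a ∧ polar Q a b ^ 2 ≠ 4 * Q a ^ 2 ∧ rr Q a * rr Q b ∈ L) ∨
    ((2 : F) ≠ 0 ∧ ∀ a ∈ P 3, ∀ b ∈ P 2, Q a ≠ 0 → Q b = Q a → rr Q a * rr Q b ∈ L)) → Kill3 L

/-- eight lines -/
def BoxFr : Prop := ∀ (F V : Type) [Field F] [Finite F] [AddCommGroup V] [Module F V] [Finite V]
  (Q : QuadraticForm F V) (L : Subgroup (Gam Q)) (e : Fin 8 → V), Nondeg Q → finrank F V = 8 → (2 : F) ≠ 0 →
  (∀ i, Q (e i) ≠ 0) → (∀ i j, i ≠ j → polar Q (e i) (e j) = 0) →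
  (∀ M ∈ L, ∀ i, ∃ (j : Fin 8) (c : F), M.1 (e i) = c • e j) →
  (∀ i j, i ≠ j → ∀ c : F, Q (c • e j) = Q (e i) → rr Q (e i) * rr Q (c • e j) ∈ L) →
  (Nat.card F = 3 → ¬ ∃ i, ∀ j, j ≠ i → Q (e j) = - Q (e i)) → Kill3 L

/-- `GU₃(q) × O₂⁻(q)`, `q ≤ 3` -/
def BoxC : Prop := ∀ (F V : Type) [Field F] [Finite F] [AddCommGroup V] [Module F V] [Finite V]
  (Q : QuadraticForm F V) (L : Subgroup (Gam Q)) (W P : Submodule F V) (J : V ≃ₗ[F] V) (t : F), Nondeg Q →
  Nat.card F ≤ 3 → (∀ x ∈ W, ∀ y ∈ P, polar Q x y = 0) → W ⊔ P = ⊤ → finrank F W = 6 → finrank F P = 2 → Aniso Q P →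
  J ∈ O Q → (∀ x ∈ W, J x ∈ W) → (∀ x ∈ W, J (J x) = t • J x - x) → (∀ c : F, c ^ 2 - t * c + 1 ≠ 0) →
  (∀ M ∈ L, (∀ x ∈ W, M.1 x ∈ W) ∧ (∀ x ∈ P, M.1 x ∈ P) ∧
    ((∀ x ∈ W, M.1 (J x) = J (M.1 x)) ∨ ∀ x ∈ W, J (M.1 (J x)) = M.1 x)) →
  (∀ u ∈ W, Q u ≠ 0 → rr Q u * rr Q (J u) ∈ L) → Kill3 L

/-- `O₄⁺(2) ≀ S₂` -/
def BoxD2 : Prop := ∀ (F V : Type) [Field F] [Finite F] [AddCommGroup V] [Module F V] [Finite V]
  (Q : QuadraticForm F V) (L : Subgroup (Gam Q)) (P : Fin 4 → Submodule F V), Nondeg Q → Nat.card F = 2 → Dec Q P →
  (∀ i, finrank F (P i) = 2) → (∀ i, Aniso Q (P i)) → Prm L ![P 0 ⊔ P 1, P 2 ⊔ P 3] →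
  (∀ a ∈ P 3, ∀ b ∈ P 3, a ≠ 0 → b ≠ 0 → rr Q a * rr Q b ∈ L) → Kill3 L

/-- `O₄⁺(3) ≀ S₂` -/
def BoxD3 : Prop := ∀ (F V : Type) [Field F] [Finite F] [AddCommGroup V] [Module F V] [Finite V]
  (Q : QuadraticForm F V) (L : Subgroup (Gam Q)) (W : Fin 2 → Submodule F V), Nondeg Q → Nat.card F = 3 → Dec Q W →
  (∀ i, finrank F (W i) = 4) → (∀ i, HasTS Q (W i)) → Prm L W →
  (∀ a ∈ W 1, ∀ b ∈ W 1, Q a ≠ 0 → Q b = Q a → rr Q a * rr Q b ∈ L) → Kill3 L

/-- the torus `(q² + 1)²` -/
def BoxB : Prop := ∀ (F V : Type) [Field F] [Finite F] [AddCommGroup V] [Module F V] [Finite V]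
  (Q : QuadraticForm F V) (L : Subgroup (Gam Q)) (W : Fin 2 → Submodule F V) (X : Subgroup (V ≃ₗ[F] V)) (r : ℕ),
  Nondeg Q → Dec Q W → (∀ i, finrank F (W i) = 4) → Prm L W → X ≤ O Q → (∀ x ∈ X, ∀ y ∈ X, x * y = y * x) →
  (∀ x ∈ X, x ^ r = 1) → (∀ c : F, c ^ r = 1 → c = 1) → (∀ x ∈ X, ∀ i, ∀ w ∈ W i, x w ∈ W i) →
  (∀ i, ∃ x ∈ X, ∃ w ∈ W i, x w ≠ w) →
  (∀ i, ∀ U ≤ W i, (∀ x ∈ X, ∀ w ∈ U, x w ∈ U) → U = ⊥ ∨ U = W i) →
  (∀ x ∈ X, ∀ i, (∃ w ∈ W i, x w ≠ w) → ∀ U ≤ W i, (∀ w ∈ U, x w ∈ U) → U = ⊥ ∨ U = W i) →
  (∀ M ∈ L, ∀ x ∈ X, conjLin M x ∈ X) → Kill2 L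

/-- two opposite long root subgroups generate a non-solvable group if `q ≥ 4` -/
def BoxSL2 : Prop := ∀ (F V : Type) [Field F] [Finite F] [AddCommGroup V] [Module F V] [Finite V]
  (Q : QuadraticForm F V) (H : Subgroup (P Q)) (e e' f f' : V) (he : Q e = 0) (hf : Q f = 0), Good Q →
  4 ≤ Nat.card F → Q e' = 0 → Q f' = 0 → polar Q e e' = 0 → polar Q f f' = 0 →
  polar Q e f * polar Q e' f' - polar Q e f' * polar Q e' f ≠ 0 →
  (∀ (c : F) (h : polar Q e (c • e') = 0), ((⟨siegel Q e (c • e') he h, siegel_mem_E he h⟩ : E Q) : P Q) ∈ H) →
  (∀ (c : F) (h : polar Q f (c • f') = 0), ((⟨siegel Q f (c • f') hf h, siegel_mem_E hf h⟩ : E Q) : P Q) ∈ H) →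
  ¬ Group.IsSolvable H

/-- a non-degenerate subspace of dimension at least four with a quadratic isometry contains two opposite invariant
totally singular planes -/
def BoxU2 : Prop := ∀ (F V : Type) [Field F] [Finite F] [AddCommGroup V] [Module F V] [Finite V]
  (Q : QuadraticForm F V) (W : Submodule F V) (J : V ≃ₗ[F] V) (t : F), 4 ≤ finrank F W →
  (∀ x ∈ W, (∀ y ∈ W, polar Q x y = 0) → x = 0) → J ∈ O Q → (∀ x ∈ W, J x ∈ W) →
  (∀ x ∈ W, J (J x) = t • J x - x) → t ^ 2 ≠ 4 →
  ∃ e ∈ W, ∃ f ∈ W, Q e = 0 ∧ Q f = 0 ∧ polar Q e (J e) = 0 ∧ polar Q f (J f) = 0 ∧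
    polar Q e f * polar Q (J e) (J f) - polar Q e (J f) * polar Q (J e) f ≠ 0

/-- all geometric boxes -/
structure Geo : Prop where
  a : BoxA
  fr : BoxFr
  c : BoxC
  d2 : BoxD2
  d3 : BoxD3
  b : BoxB
  sl2 : BoxSL2
  u2 : BoxU2

end Cfsg.Agent.SB.D4

private theorem dce_1c40c66bd476 : _root_.True := by
  try have : _root_.True := by simp only [_root_.Cfsg.Agent.SB.D4.rr.eq_1]
  exact _root_.True.intro
end

-- part: SB/D4/Tri
section
prune_inst 0x21602444006200000018050610200044000004b200400000c8c00f440a00e06aa0852840143015120aa00cc160090068134c0010427000000e000400011d00000081100631500d08a20016800080000000000000000000000000000000000000000000000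
set_option linter.all false
open scoped Cfsg.Agent.FastGrp

/-!
# S5765, `PΩ₈⁺(q)`: symmetric form of triality (helper97)
-/

set_option autoImplicit false

namespace Cfsg.Agent.SB.D4

open QuadraticMap Module Cfsg.Agent.LieClassical.QuadForms Cfsg.Agent.LieClassical.OrthCore
  Cfsg.Agent.LieClassical.OrthTrans Cfsg.Agent.ClassicalGeometry.OrthSemi Cfsg.Agent.ClassicalGeometry.OrthAut1
  Cfsg.Agent.ClassicalGeometry.TrialityOct Cfsg.Agent.ClassicalGeometry.Triality
  Cfsg.Agent.H989.OutOrth.Basic Cfsg.Agent.H989.OutOrth.Tri

/-- the form -/
abbrev Q8 (F : Type) [Field F] : QuadraticForm F (V8 F) := plusForm 4 F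
/-- `Ω₈⁺` -/
abbrev E8 (F : Type) [Field F] : Type := ↥(E (Q8 F))
/-- `PΩ₈⁺` -/
abbrev G8 (F : Type) [Field F] : Type := P (Q8 F)
/-- `GL₈` -/
abbrev GL8 (F : Type) [Field F] : Type := V8 F ≃ₗ[F] V8 F

variable {F : Type} [Field F]

/-- the para-octonion product -/
def pm (x y : V8 F) : V8 F := omul (oconj x) (oconj y)

theorem oconj_add (x y : V8 F) : oconj (x + y) = oconj x + oconj y := (kap F).map_add x y
theorem oconj_smul (c : F) (x : V8 F) : oconj (c • x) = c • oconj x := (kap F).map_smul c x

theorem add_pm (x x' y : V8 F) : pm (x + x') y = pm x y + pm x' y := by rw [pm, oconj_add, add_omul]; rfl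
theorem pm_add (x y y' : V8 F) : pm x (y + y') = pm x y + pm x y' := by rw [pm, oconj_add, omul_add]; rfl
theorem smul_pm (c : F) (x y : V8 F) : pm (c • x) y = c • pm x y := by rw [pm, oconj_smul, smul_omul]; rfl
theorem pm_smul (c : F) (x y : V8 F) : pm x (c • y) = c • pm x y := by rw [pm, oconj_smul, omul_smul]; rfl

/-- left multiplication -/
def pl (x : V8 F) : V8 F →ₗ[F] V8 F where
  toFun := pm x
  map_add' := pm_add x
  map_smul' c y := pm_smul c x y

/-- right multiplication -/
def pr (y : V8 F) : V8 F →ₗ[F] V8 F where
  toFun x := pm x y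
  map_add' x x' := add_pm x x' y
  map_smul' c x := smul_pm c x y

theorem pl_apply (x y : V8 F) : pl x y = pm x y := rfl
theorem pr_apply (x y : V8 F) : pr y x = pm x y := rfl
theorem pm_zero (x : V8 F) : pm x 0 = 0 := (pl x).map_zero
theorem zero_pm (x : V8 F) : pm 0 x = 0 := (pr x).map_zero
theorem pm_neg (x y : V8 F) : pm x (-y) = - pm x y := (pl x).map_neg y
theorem neg_pm (x y : V8 F) : pm (-x) y = - pm x y := (pr y).map_neg x
theorem pm_sub (x y y' : V8 F) : pm x (y - y') = pm x y - pm x y' := (pl x).map_sub y y'
theorem sub_pm (x x' y : V8 F) : pm (x - x') y = pm x y - pm x' y := (pr y).map_sub x x'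

theorem norm_pm (x y : V8 F) : Q8 F (pm x y) = Q8 F x * Q8 F y := by
  rw [pm, norm_omul, norm_oconj, norm_oconj]

theorem pm_pm_left (x y : V8 F) : pm (pm x y) x = Q8 F x • y := by
  rw [pm, pm, oconj_omul, oconj_oconj, oconj_oconj, omul_omul_oconj]

theorem pm_pm_right (x y : V8 F) : pm x (pm y x) = Q8 F x • y := by
  rw [pm, pm, oconj_omul, oconj_oconj, oconj_oconj, oconj_omul_omul]

theorem pm_lin_left (x z y : V8 F) : pm (pm x y) z + pm (pm z y) x = polar (Q8 F) x z • y := by
  have h := pm_pm_left (x + z) y
  rw [add_pm, add_pm, pm_add, pm_add, pm_pm_left, pm_pm_left, Q_add, add_smul, add_smul] at h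
  linear_combination (exp := 1) h

theorem pm_lin_right (x z y : V8 F) : pm x (pm y z) + pm z (pm y x) = polar (Q8 F) x z • y := by
  have h := pm_pm_right (x + z) y
  rw [pm_add, add_pm, pm_add, pm_add, pm_pm_right, pm_pm_right, Q_add, add_smul, add_smul] at h
  linear_combination (exp := 1) h

theorem polar_pm (x y z : V8 F) : polar (Q8 F) (pm x y) z = polar (Q8 F) x (pm y z) := by
  have h : ∀ u v : V8 F, polar (Q8 F) (oconj u) (oconj v) = polar (Q8 F) u v := fun u v => polar_map kap_mem u v
  rw [pm, polar_omul, oconj_oconj, pm, ← oconj_omul, ← h x, oconj_oconj]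

theorem pl_injective {a : V8 F} (ha : Q8 F a ≠ 0) : Function.Injective (pl a) := by
  intro x y h
  have h1 := congrArg (fun z => pm z a) h
  simp only [pl_apply, pm_pm_left] at h1
  exact smul_right_injective _ ha h1

theorem pr_injective {a : V8 F} (ha : Q8 F a ≠ 0) : Function.Injective (pr a) := by
  intro x y h
  have h1 := congrArg (fun z => pm a z) h
  simp only [pr_apply, pm_pm_right] at h1
  exact smul_right_injective _ ha h1

/-- triples of linear maps -/
def Tr (a b c : GL8 F) : Prop := ∀ x y, a (pm x y) = pm (b x) (c y)

theorem tr_iff {a b c : GL8 F} : Tr a b c ↔ Tri a (kap F * b * kap F) (kap F * c * kap F) := by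
  constructor
  · intro h x y
    have h1 := h (oconj x) (oconj y)
    rw [pm, oconj_oconj, oconj_oconj] at h1
    exact h1
  · intro h x y
    have h1 : a (omul (oconj x) (oconj y)) = omul (oconj (b (oconj (oconj x)))) (oconj (c (oconj (oconj y)))) :=
      h (oconj x) (oconj y)
    rw [oconj_oconj, oconj_oconj] at h1
    exact h1

theorem Tr.mul {a b c a' b' c' : GL8 F} (h : Tr a b c) (h' : Tr a' b' c') : Tr (a * a') (b * b') (c * c') := by
  intro x y
  show a (a' (pm x y)) = pm (b (b' x)) (c (c' y))
  rw [h', h]

theorem Tr.one : Tr (1 : GL8 F) 1 1 := fun _ _ => rfl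

theorem Tr.inv {a b c : GL8 F} (h : Tr a b c) : Tr a⁻¹ b⁻¹ c⁻¹ := by
  intro x y
  obtain ⟨x, rfl⟩ := b.surjective x
  obtain ⟨y, rfl⟩ := c.surjective y
  rw [← h]
  show a.symm (a _) = pm (b.symm (b x)) (c.symm (c y))
  rw [LinearEquiv.symm_apply_apply, LinearEquiv.symm_apply_apply, LinearEquiv.symm_apply_apply]

theorem Tr.unique {a b c b' c' : GL8 F} (h : Tr a b c) (h' : Tr a b' c') :
    ∃ e : F, e ≠ 0 ∧ (∀ x, b' x = e • b x) ∧ ∀ x, c' x = e⁻¹ • c x := by
  obtain ⟨e, he, h1, h2⟩ := (tr_iff.1 h).unique (tr_iff.1 h')
  refine ⟨e, he, fun x => ?_, fun x => ?_⟩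
  · have h3 : oconj (b' (oconj (oconj x))) = e • oconj (b (oconj (oconj x))) := h1 (oconj x)
    rw [oconj_oconj, ← oconj_smul] at h3
    exact (kap F).injective h3
  · have h3 : oconj (c' (oconj (oconj x))) = e⁻¹ • oconj (c (oconj (oconj x))) := h2 (oconj x)
    rw [oconj_oconj, ← oconj_smul] at h3
    exact (kap F).injective h3

/-- triples in `Ω` -/
def T3 (a b c : E8 F) : Prop := Tr a.1 b.1 c.1

theorem t3_iff {a b c : E8 F} : T3 a b c ↔ TriE a.1 (kap F * b.1 * kap F) (kap F * c.1 * kap F) :=
  ⟨fun h => ⟨⟨a.2, kap_conj_mem b.2, kap_conj_mem c.2⟩, tr_iff.1 h⟩, fun h => tr_iff.2 h.2⟩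

theorem T3.rot {a b c : E8 F} (h : T3 a b c) : T3 b c a := by
  have h1 := (t3_iff.1 h).rot
  rw [kap_conj_conj] at h1
  exact t3_iff.2 h1

theorem T3.mul {a b c a' b' c' : E8 F} (h : T3 a b c) (h' : T3 a' b' c') : T3 (a * a') (b * b') (c * c') :=
  Tr.mul h h'

theorem T3.one : T3 (1 : E8 F) 1 1 := Tr.one

theorem T3.inv {a b c : E8 F} (h : T3 a b c) : T3 a⁻¹ b⁻¹ c⁻¹ := Tr.inv h

theorem T3.pow {a b c : E8 F} (h : T3 a b c) (n : ℕ) : T3 (a ^ n) (b ^ n) (c ^ n) := by
  induction n with
  | zero => simpa using T3.one
  | succ n ih => rw [pow_succ, pow_succ, pow_succ]; exact ih.mul h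

theorem sq_one_of_smul {a b : E8 F} {e : F} (h : ∀ x, b.1 x = e • a.1 x) : e * e = 1 := by
  have h1 := mem_O.1 (E_le_O b.2) (one8 F)
  rw [h, QuadraticMap.map_smul, mem_O.1 (E_le_O a.2), norm_one8] at h1
  simpa only [_root_.smul_eq_mul, _root_.mul_one] using h1

theorem T3.unique {a b c b' c' : E8 F} (h : T3 a b c) (h' : T3 a b' c') :
    ∃ e : F, e * e = 1 ∧ (∀ x, b'.1 x = e • b.1 x) ∧ ∀ x, c'.1 x = e • c.1 x := by
  obtain ⟨e, -, h1, h2⟩ := Tr.unique h h'
  have he := sq_one_of_smul h1
  exact ⟨e, he, h1, fun x => by rw [h2, inv_eq_of_mul_eq_one_left he]⟩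

/-- scalar elements -/
def Sc (a : E8 F) (e : F) : Prop := ∀ x, a.1 x = e • x

theorem Sc.sq {a : E8 F} {e : F} (h : Sc a e) : e * e = 1 := sq_one_of_smul (a := 1) h

theorem Sc.one : Sc (1 : E8 F) 1 := fun x => (one_smul F x).symm

theorem Sc.eq_one {a : E8 F} (h : Sc a 1) : a = 1 :=
  Subtype.ext (LinearEquiv.ext fun x => (h x).trans (one_smul F x))

theorem Sc.unique {a : E8 F} {e e' : F} (h : Sc a e) (h' : Sc a e') : e = e' :=
  smul_left_injective F (e8_ne (F := F)) ((h _).symm.trans (h' _))

theorem Sc.mul {a b : E8 F} {e e' : F} (h : Sc a e) (h' : Sc b e') : Sc (a * b) (e * e') := fun x => by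
  show a.1 (b.1 x) = _
  rw [h', h, smul_smul]

theorem T3.sc {a b c : E8 F} (h : T3 a b c) {e : F} (ha : Sc a e) : ∃ d d', Sc b d ∧ Sc c d' ∧ e = d * d' := by
  have he : e ≠ 0 := left_ne_zero_of_mul_eq_one ha.sq
  have h' : Tr a.1 (LinearEquiv.smulOfNeZero F (V8 F) e he) 1 := fun x y => by
    rw [ha]; exact (smul_pm e x y).symm
  obtain ⟨d, hd, h1, h2⟩ := Tr.unique h' h
  refine ⟨d * e, d⁻¹, fun x => ?_, h2, by field_simp⟩
  rw [h1, mul_smul]; rfl

section fin

variable [Fintype F]

theorem good8 : Good (Q8 F) := Cfsg.Agent.H989.OutOrth.Four.good4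

theorem exists_T3 (a : E8 F) : ∃ b c, T3 a b c := by
  obtain ⟨g₁, g₂, h⟩ := exists_triple good8 a.2
  refine ⟨⟨_, kap_conj_mem h.1.2.1⟩, ⟨_, kap_conj_mem h.1.2.2⟩, t3_iff.2 ?_⟩
  show TriE a.1 (kap F * (kap F * g₁ * kap F) * kap F) (kap F * (kap F * g₂ * kap F) * kap F)
  rwa [kap_conj_conj, kap_conj_conj]

theorem exists_T3₁ (b : E8 F) : ∃ a c, T3 a b c := by
  obtain ⟨c, a, h⟩ := exists_T3 b
  exact ⟨a, c, h.rot.rot⟩

theorem exists_T3₂ (c : E8 F) : ∃ a b, T3 a b c := by
  obtain ⟨a, b, h⟩ := exists_T3 c
  exact ⟨a, b, h.rot⟩

theorem mk_eq_one_iff {a : E8 F} : (a : G8 F) = 1 ↔ ∃ e, Sc a e := by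
  rw [QuotientGroup.eq_one_iff]
  exact ⟨center_scalar good8, fun ⟨_, h⟩ => mem_center_of_scalar h⟩

theorem mk_eq_iff {a b : E8 F} : (a : G8 F) = b ↔ ∃ e : F, e * e = 1 ∧ ∀ x, b.1 x = e • a.1 x := by
  rw [QuotientGroup.eq, ← QuotientGroup.eq_one_iff, mk_eq_one_iff]
  constructor
  · rintro ⟨e, he⟩
    refine ⟨e, he.sq, fun x => ?_⟩
    have h1 : a.1.symm (b.1 x) = e • x := he x
    rw [← a.1.apply_symm_apply (b.1 x), h1, map_smul]
  · rintro ⟨e, -, he⟩
    refine ⟨e, fun x => ?_⟩
    show a.1.symm (b.1 x) = e • x
    rw [he, map_smul, LinearEquiv.symm_apply_apply]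

omit [Fintype F] in
theorem rho_T3 {ρ : MulAut (G8 F)} (hρ : IsRho ρ) {a b c : E8 F} (h : T3 a b c) : ρ (a : G8 F) = b :=
  hρ a b _ _ (t3_iff.1 h) (kap_conj_conj _).symm

/-- `α` is `M` composed with triality -/
def Ty1 (α : MulAut (G8 F)) (M : Gam (Q8 F)) : Prop :=
  ∀ a b c : E8 F, T3 a b c → α (a : G8 F) = (conjE (Q8 F) M b : E8 F)

/-- `α` is `M` composed with the inverse of triality -/
def Ty2 (α : MulAut (G8 F)) (M : Gam (Q8 F)) : Prop :=
  ∀ a b c : E8 F, T3 a b c → α (a : G8 F) = (conjE (Q8 F) M c : E8 F)

theorem index_three : (Psi (Q8 F)).range.index = 3 := by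
  have h2 := Cfsg.Agent.AutOrth.Final.index_plus_four (F := F)
  rwa [Cfsg.Agent.AutOrth.Main.plusForm_eq] at h2

theorem three_cosets {A : Type*} [Group A] {N : Subgroup A} (hN : N.index = 3) {ρ : A} (h3 : ρ ^ 3 = 1) (hρ : ρ ∉ N)
    (α : A) : α ∈ N ∨ ρ⁻¹ * α ∈ N ∨ (ρ * ρ)⁻¹ * α ∈ N := by
  classical
  have h4 : ρ * ρ ∉ N := fun h => hρ (by
    have : ρ = (ρ * ρ) * (ρ * ρ) := by
      calc ρ = ρ ^ 3 * ρ := by rw [h3, one_mul]
        _ = _ := by rw [pow_succ, pow_two]; group
    rw [this]; exact mul_mem h h)
  have hfin : Finite (A ⧸ N) := Nat.finite_of_card_ne_zero (by rw [← Subgroup.index, hN]; norm_num)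
  have := Fintype.ofFinite (A ⧸ N)
  by_contra hc
  push Not at hc
  obtain ⟨h0, h1, h2⟩ := hc
  have h5 : ({((1 : A) : A ⧸ N), (ρ : A ⧸ N), ((ρ * ρ : A) : A ⧸ N), (α : A ⧸ N)} : Finset (A ⧸ N)).card = 4 := by
    rw [Finset.card_eq_four]
    refine ⟨_, _, _, _, ?_, ?_, ?_, ?_, ?_, ?_, rfl⟩ <;> rw [Ne, QuotientGroup.eq]
    · simpa using hρ
    · simpa using h4
    · simpa using h0
    · simpa using hρ
    · exact h1
    · exact h2
  have h6 := Finset.card_le_univ ({((1 : A) : A ⧸ N), (ρ : A ⧸ N), ((ρ * ρ : A) : A ⧸ N), (α : A ⧸ N)} : Finset (A ⧸ N))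
  rw [h5, ← Nat.card_eq_fintype_card, ← Subgroup.index, hN] at h6
  omega

theorem three_cosets' {A : Type*} [Group A] {N : Subgroup A} (hN : N.index = 3) {ρ : A} (h3 : ρ ^ 3 = 1) (hρ : ρ ∉ N)
    (α : A) : α ∈ N ∨ α * ρ⁻¹ ∈ N ∨ α * (ρ * ρ)⁻¹ ∈ N := by
  have h4 : ρ⁻¹ ^ 3 = 1 := by rw [inv_pow, h3, inv_one]
  rcases three_cosets hN h4 (fun h => hρ (by simpa using h)) α⁻¹ with h | h | h
  · exact Or.inl (by simpa using h)
  · exact Or.inr (Or.inl (by simpa using inv_mem h))
  · exact Or.inr (Or.inr (by simpa only [mul_assoc, _root_.mul_inv_rev, _root_.inv_inv] using inv_mem h))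

omit [Fintype F] in
theorem ty1_of {ρ α : MulAut (G8 F)} (hρ : IsRho ρ) (h : α * ρ⁻¹ ∈ (Psi (Q8 F)).range) : ∃ M, Ty1 α M := by
  obtain ⟨M, hM⟩ := h
  refine ⟨M, fun a b c ht => ?_⟩
  simp only [← Psi_mk, hM, ← rho_T3 hρ ht]
  simp only [_root_.MulAut.mul_apply, _root_.MulAut.inv_apply, _root_.MulEquiv.symm_apply_apply]

omit [Fintype F] in
theorem ty2_of {ρ α : MulAut (G8 F)} (hρ : IsRho ρ) (h : α * (ρ * ρ)⁻¹ ∈ (Psi (Q8 F)).range) : ∃ M, Ty2 α M := by
  obtain ⟨M, hM⟩ := h
  refine ⟨M, fun a b c ht => ?_⟩
  simp only [← Psi_mk, hM, ← rho_T3 hρ ht.rot, ← rho_T3 hρ ht]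
  simp only [_root_.mul_inv_rev, _root_.MulAut.mul_apply, _root_.MulAut.inv_apply, _root_.MulEquiv.symm_apply_apply]

/-- the three cosets -/
theorem cosets (α : MulAut (G8 F)) : ∃ M, Psi (Q8 F) M = α ∨ Ty1 α M ∨ Ty2 α M := by
  obtain ⟨ρ, hρ⟩ := exists_rho (good8 (F := F))
  rcases three_cosets' index_three ((hρ.cube good8 :)) (hρ.not_mem_range good8) α with ⟨M, h⟩ | h | h
  · exact ⟨M, Or.inl h⟩
  · obtain ⟨M, h⟩ := ty1_of hρ h
    exact ⟨M, Or.inr (Or.inl h)⟩
  · obtain ⟨M, h⟩ := ty2_of hρ h
    exact ⟨M, Or.inr (Or.inr h)⟩

/-- either `S` is conjugate to a group of semisimilitudes or it meets both non-trivial cosets -/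
theorem dichotomy (S : Subgroup (MulAut (G8 F))) :
    (∃ β : MulAut (G8 F), S.map (MulAut.conj β).toMonoidHom ≤ (Psi (Q8 F)).range) ∨
      ((∃ α ∈ S, ∃ M, Ty1 α M) ∧ ∃ α ∈ S, ∃ M, Ty2 α M) := by
  obtain ⟨ρ, hρ⟩ := exists_rho (good8 (F := F))
  have h3 := hρ.cube good8
  have hc := three_cosets' index_three h3 (hρ.not_mem_range good8)
  set N := (Psi (Q8 F)).range
  have key : ∀ σ τ : MulAut (G8 F), (∀ α, α ∈ N ∨ α * σ⁻¹ ∈ N ∨ α * τ⁻¹ ∈ N) → (∀ α ∈ S, α * σ⁻¹ ∉ N) →
      ∃ β : MulAut (G8 F), S.map (MulAut.conj β).toMonoidHom ≤ N := by
    intro σ τ hc h1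
    by_cases h0 : ∀ α ∈ S, α ∈ N
    · refine ⟨1, ?_⟩
      rintro _ ⟨s, hs, rfl⟩
      simpa only [_root_.map_one, _root_.MulEquiv.toMonoidHom_eq_coe, _root_.MonoidHom.coe_coe, _root_.MulAut.one_apply] using h0 s hs
    push Not at h0
    obtain ⟨s₀, hs₀, h0⟩ := h0
    have h2 : s₀ * τ⁻¹ ∈ N := ((hc s₀).resolve_left h0).resolve_left (h1 s₀ hs₀)
    refine ⟨σ, ?_⟩
    rintro _ ⟨s, hs, rfl⟩
    rcases hc (σ * s) with h | h | h
    · exfalso
      apply h1 s⁻¹ (inv_mem hs)
      simpa only [_root_.mul_inv_rev] using inv_mem h
    · exact h
    · exfalso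
      apply h1 (s₀ * s⁻¹) (mul_mem hs₀ (inv_mem hs))
      have h5 := mul_mem h2 (inv_mem h)
      simpa only [mul_assoc, _root_.mul_inv_rev, _root_.inv_inv, _root_.inv_mul_cancel_left] using h5
  by_cases h1 : ∀ α ∈ S, α * ρ⁻¹ ∉ N
  · exact Or.inl (key ρ (ρ * ρ) hc h1)
  by_cases h2 : ∀ α ∈ S, α * (ρ * ρ)⁻¹ ∉ N
  · exact Or.inl (key (ρ * ρ) ρ (fun α => by have := hc α; (clear * - this; tauto)) h2)
  push Not at h1 h2
  obtain ⟨α, hα, h1⟩ := h1
  obtain ⟨β, hβ, h2⟩ := h2
  exact Or.inr ⟨⟨α, hα, ty1_of hρ h1⟩, ⟨β, hβ, ty2_of hρ h2⟩⟩

end fin

end Cfsg.Agent.SB.D4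

private theorem dce_e99274321749 : _root_.True := by
  try have : _root_.True := by simp only [_root_.Cfsg.Agent.SB.D4.pm.eq_1]
  exact _root_.True.intro
end

-- part: SB/D4/GS
section
prune_inst 0x21202404702200000018000002200060400005220040000000c00f040b09a06a2080280102b005120a220c4120000068134c0010422000000a000000011d0000000110063100a008800010010000000000000000000000000000000000000000000000000
set_option linter.all false
open scoped Cfsg.Agent.FastGrp

/-!
# S5765, `PΩ₈⁺(q)`: the boxes `BoxSL2` and `BoxU2` (helper61)
-/

set_option autoImplicit false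

namespace Cfsg.Agent.SB.D4

open QuadraticMap Module Cfsg.Agent.LieClassical.OrthCore Cfsg.Agent.LieClassical.OrthTrans
  Cfsg.Agent.ClassicalGeometry.OrthSemi Cfsg.Agent.ClassicalGeometry.OrthAut1 Cfsg.Agent.H989.OutOrth.Basic
open scoped commutatorElement

namespace GS

/-! ### matrix units -/

section units

variable {F R : Type*} [Field F] [Ring R] [Algebra F R]

/-- the image of a `2 × 2` matrix -/
def Phi (N M : R) (a b c d : F) : R := 1 + (a - 1) • (N * M) + b • N + c • M + (d - 1) • (M * N)

theorem Phi_mul {N M : R} (hN : N * N = 0) (hM : M * M = 0) (h1 : N * (M * N) = N) (h2 : M * (N * M) = M)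
    (a b c d a' b' c' d' : F) :
    Phi N M a b c d * Phi N M a' b' c' d' =
      Phi N M (a * a' + b * c') (a * b' + b * d') (c * a' + d * c') (c * b' + d * d') := by
  have hN' : ∀ x, N * (N * x) = 0 := fun x => by rw [← mul_assoc, hN, zero_mul]
  have hM' : ∀ x, M * (M * x) = 0 := fun x => by rw [← mul_assoc, hM, zero_mul]
  simp only [Phi, mul_add, add_mul, one_mul, mul_one, smul_mul_assoc, mul_smul_comm, mul_assoc, hN, hM, hN', hM',
    h1, h2, mul_zero, smul_zero]
  module

end units

/-! ### two opposite root subgroups -/

section grp

variable {F G : Type*} [Field F] [Group G]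

theorem comm_mem {u v : F → G} (hu : ∀ a b, u (a + b) = u a * u b) (hv : ∀ a b, v (a + b) = v a * v b)
    {t : F} (ht : t ≠ 0) (ht2 : t ^ 2 ≠ 1) {h : G} (hh : ∀ D : Subgroup G, (∀ c, u c ∈ D) → (∀ c, v c ∈ D) → h ∈ D)
    (e1 : ∀ c, h * u c = u (t ^ 2 * c) * h) (e2 : ∀ c, h * v (t ^ 2 * c) = v c * h)
    (D : Subgroup G) (du : ∀ c, u c ∈ D) (dv : ∀ c, v c ∈ D) : (∀ c, u c ∈ ⁅D, D⁆) ∧ ∀ c, v c ∈ ⁅D, D⁆ := by
  have k : t ^ 2 - 1 ≠ 0 := sub_ne_zero.2 ht2
  constructor
  · intro c
    obtain ⟨b, rfl⟩ : ∃ b, c = (t ^ 2 - 1) * b := ⟨c / (t ^ 2 - 1), by field_simp⟩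
    have h1 : u (t ^ 2 * b) = u ((t ^ 2 - 1) * b) * u b := by rw [← hu]; congr 1; ring
    have h2 : u ((t ^ 2 - 1) * b) = ⁅h, u b⁆ := by
      rw [commutatorElement_def, e1, h1]; group
    rw [h2]
    exact Subgroup.commutator_mem_commutator (hh D du dv) (du b)
  · intro c
    obtain ⟨b, rfl⟩ : ∃ b, c = (t ^ 2 - 1) * b := ⟨c / (t ^ 2 - 1), by field_simp⟩
    have h1 : v (t ^ 2 * b) = v ((t ^ 2 - 1) * b) * v b := by rw [← hv]; congr 1; ring
    have h3 : v (t ^ 2 * b) = h⁻¹ * v b * h := by rw [mul_assoc, ← e2]; group
    have h2 : v ((t ^ 2 - 1) * b) = ⁅h⁻¹, v b⁆ := by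
      rw [commutatorElement_def, inv_inv, ← h3, h1]; group
    rw [h2]
    exact Subgroup.commutator_mem_commutator (D.inv_mem (hh D du dv)) (dv b)

theorem triv_of_solv {u v : F → G} (H : Subgroup G) [hs : Group.IsSolvable H] (du : ∀ c, u c ∈ H) (dv : ∀ c, v c ∈ H)
    (step : ∀ D : Subgroup G, (∀ c, u c ∈ D) → (∀ c, v c ∈ D) → (∀ c, u c ∈ ⁅D, D⁆) ∧ ∀ c, v c ∈ ⁅D, D⁆) (c : F) :
    u c = 1 := by
  have key : ∀ n, (∀ c, u c ∈ (derivedSeries H n).map H.subtype) ∧ ∀ c, v c ∈ (derivedSeries H n).map H.subtype := by
    intro n
    induction n with
    | zero => exact ⟨fun c => ⟨⟨_, du c⟩, trivial, rfl⟩, fun c => ⟨⟨_, dv c⟩, trivial, rfl⟩⟩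
    | succ n ih =>
      rw [derivedSeries_succ, Subgroup.map_commutator]
      exact step _ ih.1 ih.2
  obtain ⟨n, hn⟩ := hs.solvable
  have := (key n).1 c
  rwa [hn, Subgroup.map_bot, Subgroup.mem_bot] at this

end grp

theorem exists_t (F : Type*) [Field F] [Finite F] (h : 4 ≤ Nat.card F) : ∃ t : F, t ≠ 0 ∧ t ^ 2 ≠ 1 := by
  classical
  by_contra hc
  push Not at hc
  have := Fintype.ofFinite F
  have h1 : (Finset.univ : Finset F) ⊆ {0, 1, -1} := by
    intro t _
    by_cases ht : t = 0
    · simp [ht]
    · rcases sq_eq_one_iff.1 (hc t ht) with h | h <;> simp [h]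
  have h2 := Finset.card_le_card h1
  have h3 : ({0, 1, -1} : Finset F).card ≤ 3 := Finset.card_le_three
  rw [Finset.card_univ, ← Nat.card_eq_fintype_card] at h2
  omega

section sl2

variable {F V : Type} [Field F] [AddCommGroup V] [Module F V] {Q : QuadraticForm F V}

/-- the nilpotent part of a long root element -/
def nil (Q : QuadraticForm F V) (a b : V) : Module.End F V :=
  (polarBilin Q a).smulRight b - (polarBilin Q b).smulRight a

theorem nil_apply (a b x : V) : nil Q a b x = polar Q a x • b - polar Q b x • a := by
  simp only [nil, LinearMap.sub_apply, LinearMap.smulRight_apply, polarBilin_apply_apply]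

theorem nil_sq {a b : V} (ha : Q a = 0) (hb : Q b = 0) (hab : polar Q a b = 0) : nil Q a b * nil Q a b = 0 := by
  ext x
  have hba : polar Q b a = 0 := by rw [polar_comm]; exact hab
  simp only [Module.End.mul_apply, nil_apply, polar_sub_right, polar_smul_right, polar_self_of_sing ha,
    polar_self_of_sing hb, hab, hba, LinearMap.zero_apply, smul_zero, sub_zero, zero_smul]

theorem nil_nil_left (e e' f f' : V) :
    nil Q e e' (nil Q f f' e) = -(polar Q e f * polar Q e' f' - polar Q e f' * polar Q e' f) • e := by
  simp only [nil_apply, polar_sub_right, polar_smul_right, smul_eq_mul, polar_comm Q f e, polar_comm Q f' e]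
  module

theorem nil_nil_right (e e' f f' : V) :
    nil Q e e' (nil Q f f' e') = -(polar Q e f * polar Q e' f' - polar Q e f' * polar Q e' f) • e' := by
  simp only [nil_apply, polar_sub_right, polar_smul_right, smul_eq_mul, polar_comm Q f e', polar_comm Q f' e']
  module

theorem nil_three (e e' f f' : V) :
    nil Q e e' * (nil Q f f' * nil Q e e') =
      -(polar Q e f * polar Q e' f' - polar Q e f' * polar Q e' f) • nil Q e e' := by
  ext x
  rw [Module.End.mul_apply, Module.End.mul_apply, LinearMap.smul_apply, nil_apply e e' x, map_sub, map_smul, map_smul,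
    map_sub, map_smul, map_smul, nil_nil_left, nil_nil_right]
  module

/-- the underlying endomorphism -/
def rho (Q : QuadraticForm F V) : E Q →* Module.End F V where
  toFun g := (g.1 : V →ₗ[F] V)
  map_one' := rfl
  map_mul' _ _ := rfl

theorem rho_inj : Function.Injective (rho Q) := by
  intro g h e
  apply Subtype.ext
  ext x
  exact LinearMap.congr_fun e x

/-- a long root element -/
def rt {a b : V} (ha : Q a = 0) (hab : polar Q a b = 0) (c : F) : E Q :=
  ⟨siegel Q a (c • b) ha (by rw [polar_smul_right, hab, smul_zero]), siegel_mem_E _ _⟩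

theorem rho_rt {a b : V} (ha : Q a = 0) (hb : Q b = 0) (hab : polar Q a b = 0) (c : F) :
    rho Q (rt ha hab c) = 1 + c • nil Q a b := by
  ext x
  show siegelLin Q a (c • b) x = _
  rw [siegelLin_apply, LinearMap.add_apply, LinearMap.smul_apply, nil_apply, QuadraticMap.map_smul, hb, polar_smul_left,
    Module.End.one_apply]
  simp only [smul_eq_mul, mul_zero, zero_mul, zero_smul, sub_zero]
  module

end sl2

end GS

open GS in
theorem boxSL2 : BoxSL2 := by
  intro F V _ _ _ _ _ Q H e e' f f' he hf _ h4 he' hf' hee hff hd hu hv hs
  obtain ⟨t, ht, ht2⟩ := exists_t F h4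
  set d := polar Q e f * polar Q e' f' - polar Q e f' * polar Q e' f with hdd
  set N := nil Q e e' with hN
  set M := (-d)⁻¹ • nil Q f f' with hM
  have hd' : -d ≠ 0 := neg_ne_zero.2 hd
  have hNN : N * N = 0 := nil_sq he he' hee
  have hMM : M * M = 0 := by rw [hM, smul_mul_assoc, mul_smul_comm, nil_sq hf hf' hff, smul_zero, smul_zero]
  have h1 : N * (M * N) = N := by
    rw [hM, smul_mul_assoc, mul_smul_comm, hN, nil_three, ← hdd, smul_smul, inv_mul_cancel₀ hd', one_smul]
  have h2 : M * (N * M) = M := by
    have hd2 : polar Q f e * polar Q f' e' - polar Q f e' * polar Q f' e = d := by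
      rw [hdd, polar_comm Q f e, polar_comm Q f' e', polar_comm Q f e', polar_comm Q f' e]; ring
    rw [hM, smul_mul_assoc, mul_smul_comm, mul_smul_comm, hN, nil_three, hd2, smul_smul (-d)⁻¹ (-d),
      inv_mul_cancel₀ hd', one_smul]
  let u : F → E Q := fun c => rt he hee c
  let v : F → E Q := fun c => rt hf hff (c * (-d)⁻¹)
  have ru : ∀ c, rho Q (u c) = Phi N M 1 c 0 1 := fun c => by
    rw [rho_rt he he' hee, Phi]; simp only [sub_self, zero_smul, add_zero]; rfl
  have rv : ∀ c, rho Q (v c) = Phi N M 1 0 c 1 := fun c => by
    rw [rho_rt hf hf' hff, Phi]; simp only [sub_self, zero_smul, add_zero]; rw [hM, smul_smul]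
  have mul := @Phi_mul F _ _ _ _ N M hNN hMM h1 h2
  let h : E Q := u t * v (-t⁻¹) * u t * u (-1) * v 1 * u (-1)
  have rh : rho Q h = Phi N M t 0 0 t⁻¹ := by
    simp only [h, map_mul, ru, rv, mul]
    congr 1 <;> field_simp <;> ring
  let π := QuotientGroup.mk' (Subgroup.center (E Q))
  have hu1 : π (u 1) = 1 := by
    refine triv_of_solv (u := fun c => π (u c)) (v := fun c => π (v c)) H (fun c => hu c _) (fun c => hv _ _) ?_ 1
    refine comm_mem (t := t) (h := π h) ?_ ?_ ht ht2 ?_ ?_ ?_
    · intro a b
      rw [← map_mul]
      congr 1
      apply rho_inj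
      rw [map_mul, ru, ru, ru, mul]
      congr 1 <;> ring
    · intro a b
      rw [← map_mul]
      congr 1
      apply rho_inj
      rw [map_mul, rv, rv, rv, mul]
      congr 1 <;> ring
    · intro D du dv
      simp only [h, map_mul]
      exact D.mul_mem (D.mul_mem (D.mul_mem (D.mul_mem (D.mul_mem (du _) (dv _)) (du _)) (du _)) (dv _)) (du _)
    · intro c
      rw [← map_mul π h, ← map_mul π _ h]
      congr 1
      apply rho_inj
      rw [map_mul (rho Q) h, map_mul (rho Q) _ h, rh, ru, ru, mul, mul]
      congr 1 <;> field_simp <;> ring
    · intro c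
      rw [← map_mul π h, ← map_mul π _ h]
      congr 1
      apply rho_inj
      rw [map_mul (rho Q) h, map_mul (rho Q) _ h, rh, rv, rv, mul, mul]
      congr 1 <;> field_simp <;> ring
  have hc : u 1 ∈ Subgroup.center (E Q) := (QuotientGroup.eq_one_iff _).1 hu1
  have h3 := congrArg (rho Q) (Subgroup.mem_center_iff.1 hc (v 1))
  rw [map_mul, map_mul, ru, rv, mul, mul] at h3
  have h4 : N * M = M * N := by
    simp only [Phi] at h3
    have h5 : N * M - M * N = (1 + (1 * 1 + 1 * 1 - 1 : F) • (N * M) + (1 * 0 + 1 * 1 : F) • N +
        (0 * 1 + 1 * 1 : F) • M + (0 * 0 + 1 * 1 - 1 : F) • (M * N)) -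
        (1 + (1 * 1 + 0 * 0 - 1 : F) • (N * M) + (1 * 1 + 0 * 1 : F) • N + (1 * 1 + 1 * 0 : F) • M +
          (1 * 1 + 1 * 1 - 1 : F) • (M * N)) := by module
    rw [← h3, sub_self] at h5
    exact sub_eq_zero.1 h5
  have h5 : N = 0 := by rw [← h1, ← mul_assoc, h4, mul_assoc, hNN, mul_zero]
  have h6 := nil_nil_left (Q := Q) e e' f f'
  rw [← hN, h5, ← hdd, LinearMap.zero_apply] at h6
  have h7 : e = 0 := (smul_eq_zero.1 h6.symm).resolve_left hd'
  apply hd
  rw [hdd, h7, polar_zero_left, polar_zero_left]
  ring

namespace GS

section u2

variable {F V : Type} [Field F] [AddCommGroup V] [Module F V] {Q : QuadraticForm F V}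

theorem exists_perp2 (W : Submodule F V) (h3 : 3 ≤ finrank F W) (a b : V) :
    ∃ z ∈ W, z ≠ 0 ∧ polar Q a z = 0 ∧ polar Q b z = 0 := by
  have : Module.Finite F W := Module.finite_of_finrank_pos (by omega)
  let φ : W →ₗ[F] F × F := ((polarBilin Q a).prod (polarBilin Q b)).comp W.subtype
  have h1 : LinearMap.ker φ ≠ ⊥ := LinearMap.ker_ne_bot_of_finrank_lt (by
    rw [Module.finrank_prod, Module.finrank_self]; omega)
  obtain ⟨z, hz, hz0⟩ := Submodule.exists_mem_ne_zero_of_ne_bot h1
  have h2 : (polar Q a z, polar Q b z) = (0, 0) := LinearMap.mem_ker.1 hz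
  exact ⟨z, z.2, fun h => hz0 (Subtype.ext h), (Prod.mk.inj h2).1, (Prod.mk.inj h2).2⟩

theorem exists_one {W : Submodule F V} (hW : ∀ x ∈ W, (∀ y ∈ W, polar Q x y = 0) → x = 0) {x : V} (hx : x ∈ W)
    (h0 : x ≠ 0) : ∃ y ∈ W, polar Q x y = 1 := by
  by_contra hc
  apply h0
  refine hW x hx fun y hy => ?_
  by_contra h
  exact hc ⟨(polar Q x y)⁻¹ • y, W.smul_mem _ hy, by rw [polar_smul_right, smul_eq_mul, inv_mul_cancel₀ h]⟩

theorem polar_J {W : Submodule F V} {J : V ≃ₗ[F] V} {t : F} (hJ : J ∈ O Q) (hq : ∀ x ∈ W, J (J x) = t • J x - x)
    (ht : t ^ 2 ≠ 4) {x : V} (hx : x ∈ W) : polar Q x (J x) = t * Q x := by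
  have h1 : polar Q x (J x) = t * (2 * Q x) - polar Q x (J x) := by
    have := polar_map hJ x (J x)
    rw [hq x hx, polar_sub_right, polar_smul_right, polar_self', mem_O.1 hJ, polar_comm Q (J x) x, smul_eq_mul] at this
    exact this.symm
  have h2 : t * polar Q x (J x) = t ^ 2 * Q x := by
    have e1 : x + J (J x) = t • J x := by rw [hq x hx]; abel
    have e2 := congrArg Q e1
    rw [Q_add, QuadraticMap.map_smul, mem_O.1 hJ, mem_O.1 hJ, hq x hx, polar_sub_right, polar_smul_right,
      polar_self', smul_eq_mul, smul_eq_mul] at e2
    linear_combination e2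
  by_contra hc
  have h3 : polar Q x (J x) - t * Q x ≠ 0 := sub_ne_zero.2 hc
  have h4 : (2 : F) = 0 := by
    apply mul_right_cancel₀ h3
    linear_combination h1
  have h5 : t = 0 := by
    apply mul_right_cancel₀ h3
    linear_combination h2
  apply ht
  rw [h5]
  linear_combination (-2) * h4

theorem exists_noneig [Finite F] {W : Submodule F V} {J : V ≃ₗ[F] V} {t : F} (h3 : 3 ≤ finrank F W)
    (hW : ∀ x ∈ W, (∀ y ∈ W, polar Q x y = 0) → x = 0) (hJ : J ∈ O Q) (hJW : ∀ x ∈ W, J x ∈ W)
    (hq : ∀ x ∈ W, J (J x) = t • J x - x) (ht : t ^ 2 ≠ 4) :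
    ∃ e ∈ W, Q e = 0 ∧ e ≠ 0 ∧ ∀ c : F, J e ≠ c • e := by
  obtain ⟨e, heW, he0, he⟩ := LieClassical.OrthFinite.exists_sing_mem (Q := Q) W h3
  by_cases hc : ∀ c : F, J e ≠ c • e
  · exact ⟨e, heW, he, he0, hc⟩
  push Not at hc
  obtain ⟨l, hl⟩ := hc
  have hl1 : l * (t - l) = 1 := by
    have h1 := hq e heW
    rw [hl, map_smul, hl] at h1
    have h2 : (l * (t - l) - 1) • e = 0 := by
      have : (l * (t - l) - 1) • e = (t • l • e - e) - l • l • e := by module
      rw [this, h1, sub_self]
    exact sub_eq_zero.1 ((smul_eq_zero.1 h2).resolve_right he0)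
  have hne : l ≠ t - l := by
    intro h
    apply ht
    have h2 : t = 2 * l := by linear_combination -h
    rw [← h] at hl1
    rw [h2]
    linear_combination 4 * hl1
  have hl0 : l ≠ 0 := by rintro rfl; simp at hl1
  have hsq : l * l ≠ 1 := by
    intro h
    apply hne
    apply mul_left_cancel₀ hl0
    rw [h, hl1]
  have hsq' : (t - l) * (t - l) ≠ 1 := by
    intro h
    apply hsq
    have : l * l * ((t - l) * (t - l)) = 1 := by linear_combination (l * (t - l) + 1) * hl1
    rwa [h, mul_one] at this
  by_cases hx : ∃ x ∈ W, polar Q e x = 0 ∧ J x - l • x ≠ 0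
  · obtain ⟨x, hxW, hex, hy0⟩ := hx
    set y := J x - l • x with hy
    have hyW : y ∈ W := W.sub_mem (hJW x hxW) (W.smul_mem _ hxW)
    have hJy : J y = (t - l) • y := by
      rw [hy, map_sub, map_smul, hq x hxW]
      have : x = (l * (t - l)) • x := by rw [hl1, one_smul]
      nth_rewrite 2 [this]
      module
    have hQy : Q y = 0 := by
      have h1 := mem_O.1 hJ y
      rw [hJy, QuadraticMap.map_smul, smul_eq_mul] at h1
      apply mul_left_cancel₀ (sub_ne_zero.2 hsq')
      linear_combination h1
    have hey : polar Q e y = 0 := by
      have h1 := polar_map hJ e x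
      rw [hl, polar_smul_left, hex, smul_eq_mul] at h1
      rw [hy, polar_sub_right, polar_smul_right, hex, (mul_eq_zero.1 h1).resolve_left hl0, smul_zero, sub_zero]
    have key : ∀ c : F, J (e + y) = c • (e + y) → False := by
      intro c hc
      rw [map_add, hl, hJy] at hc
      have h1 : (l - c) • e + (t - l - c) • y = 0 := by
        have : (l - c) • e + (t - l - c) • y = (l • e + (t - l) • y) - c • (e + y) := by module
        rw [this, hc, sub_self]
      have h2 := congrArg J h1
      rw [map_add, map_smul, map_smul, hl, hJy, map_zero] at h2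
      have h3 : ((l - c) * (l - (t - l))) • e = 0 := by
        have : ((l - c) * (l - (t - l))) • e = ((l - c) • l • e + (t - l - c) • (t - l) • y) -
            (t - l) • ((l - c) • e + (t - l - c) • y) := by module
        rw [this, h1, h2, smul_zero, sub_zero]
      have h4 : l - c = 0 :=
        (mul_eq_zero.1 ((smul_eq_zero.1 h3).resolve_right he0)).resolve_right (sub_ne_zero.2 hne)
      rw [h4, zero_smul, zero_add] at h1
      have h5 := (smul_eq_zero.1 h1).resolve_right hy0
      apply hne
      linear_combination h4 - h5
    refine ⟨e + y, W.add_mem heW hyW, by rw [Q_add, he, hQy, hey]; ring, fun h => key 0 ?_, fun c h => key c h⟩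
    rw [h, map_zero, smul_zero]
  · exfalso
    push Not at hx
    have hx' : ∀ x ∈ W, polar Q e x = 0 → J x = l • x := fun x h1 h2 => sub_eq_zero.1 (hx x h1 h2)
    obtain ⟨u, huW, hu⟩ := exists_one hW heW he0
    obtain ⟨z, hzW, hz0, hez, huz⟩ := exists_perp2 (Q := Q) W h3 e u
    apply hz0
    refine hW z hzW fun w hw => ?_
    have h1 : polar Q e (w - polar Q e w • u) = 0 := by
      rw [polar_sub_right, polar_smul_right, hu, smul_eq_mul, mul_one, sub_self]
    have h2 := polar_map hJ z (w - polar Q e w • u)
    rw [hx' z hzW hez, hx' _ (W.sub_mem hw (W.smul_mem _ huW)) h1, polar_smul_left, polar_smul_right] at h2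
    have h3 : polar Q z (w - polar Q e w • u) = 0 := by
      apply mul_left_cancel₀ (sub_ne_zero.2 hsq)
      simp only [smul_eq_mul] at h2
      linear_combination h2
    rwa [polar_sub_right, polar_smul_right, polar_comm Q z u, huz, smul_zero, sub_zero] at h3

end u2

end GS

open GS in
theorem boxU2 : BoxU2 := by
  intro F V _ _ _ _ _ Q W J t h4 hW hJ hJW hq ht
  obtain ⟨e, heW, he, he0, hne⟩ := exists_noneig (by omega) hW hJ hJW hq ht
  have hJe0 : J e ≠ 0 := fun h => hne 0 (by rw [h, zero_smul])
  have heJ : polar Q e (J e) = 0 := by rw [polar_J hJ hq ht heW, he, mul_zero]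
  obtain ⟨u, huW, hu1, hu2⟩ : ∃ u ∈ W, polar Q e u = 1 ∧ polar Q (J e) u = 0 := by
    obtain ⟨u0, hu0W, hu0⟩ := exists_one hW (hJW e heW) hJe0
    have h1 : e - polar Q e u0 • J e ≠ 0 := by
      intro h
      have h2 : e = polar Q e u0 • J e := sub_eq_zero.1 h
      have h3 : polar Q e u0 ≠ 0 := fun h0 => he0 (by rw [h2, h0, zero_smul])
      apply hne (polar Q e u0)⁻¹
      nth_rewrite 3 [h2]
      rw [smul_smul, inv_mul_cancel₀ h3, one_smul]
    obtain ⟨w, hwW, hw⟩ := exists_one hW (W.sub_mem heW (W.smul_mem _ (hJW e heW))) h1
    refine ⟨w - polar Q (J e) w • u0, W.sub_mem hwW (W.smul_mem _ hu0W), ?_, ?_⟩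
    · rw [polar_sub_left, polar_smul_left, smul_eq_mul] at hw
      rw [polar_sub_right, polar_smul_right, smul_eq_mul]
      linear_combination hw
    · rw [polar_sub_right, polar_smul_right, hu0, smul_eq_mul, mul_one, sub_self]
  have hfW : u - Q u • e ∈ W := W.sub_mem huW (W.smul_mem _ heW)
  have hf : Q (u - Q u • e) = 0 := by
    rw [sub_eq_add_neg, Q_add, QuadraticMap.map_neg, QuadraticMap.map_smul, he, polar_neg_right, polar_smul_right,
      polar_comm Q u e, hu1]
    simp
  refine ⟨e, heW, u - Q u • e, hfW, he, hf, heJ, by rw [polar_J hJ hq ht hfW, hf, mul_zero], ?_⟩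
  rw [polar_map hJ, polar_sub_right Q e, polar_smul_right, polar_self_of_sing he, hu1, polar_sub_right Q (J e),
    polar_smul_right, hu2, polar_comm Q (J e) e, heJ]
  simp

end Cfsg.Agent.SB.D4

private theorem dce_89b1fc7db656 : _root_.True := by
  try have : _root_.True := by simp only [_root_.Cfsg.Agent.SB.D4.GS.nil.eq_1]
  try have : _root_.True := by simp only [_root_.Cfsg.Agent.SB.D4.GS.Phi.eq_1]
  exact _root_.True.intro
end

-- part: SB/D4/LA
section
prune_inst 0x21606044406202000018008403200044440005220043000028400d000908a04aa0840e4100b0011202b21cc100010068135c00900260000004000000010000000001100630400108800018010000000000000000000000000000000000000000000000000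
set_option linter.all false
open scoped Cfsg.Agent.FastGrp

/-!
# S5765, `PΩ₈⁺(q)` with triality: linear algebra for the geometric boxes (helper52)

* `Ind`, `ND`, `Pm` : independent pairs, non-degenerate subspaces, maps permuting blocks;
* `pm_rr` : `M, cjv v u M ∈ L` and `r_u` permuting the blocks give that `r_{M v} r_v` permutes the blocks;
* `Rot` : what is used of `w = r_{v'} r_v` if `v'` is not on the line of `v`;
* `fix_planes`, `fix_two` : `M` fixes the line of `v`;
* `hyp`, `fix_block`, `eig_comp`, `cjv_comm`.
-/

set_option autoImplicit false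
set_option linter.unusedSectionVars false

namespace Cfsg.Agent.SB.D4.G

open QuadraticMap Module Cfsg.Agent.LieClassical.OrthCore
  Cfsg.Agent.ClassicalGeometry.OrthSemi Cfsg.Agent.H989.OutOrth.Basic

variable {F V : Type} [Field F] [AddCommGroup V] [Module F V] {Q : QuadraticForm F V}

/-! ### independent pairs -/

variable (F) in
/-- independent -/
def Ind (x y : V) : Prop := ∀ a b : F, a • x + b • y = 0 → a = 0 ∧ b = 0

theorem Ind.symm {x y : V} (H : Ind F x y) : Ind F y x := fun a b hab => (H b a (by rwa [add_comm])).symm

theorem Ind.left_ne {x y : V} (H : Ind F x y) : x ≠ 0 := fun h0 =>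
  one_ne_zero (H 1 0 (by rw [h0]; simp)).1

theorem Ind.right_ne {x y : V} (H : Ind F x y) : y ≠ 0 := H.symm.left_ne

theorem Ind.add_ne {x y : V} (H : Ind F x y) : x + y ≠ 0 := fun h0 =>
  one_ne_zero (H 1 1 (by simpa using h0)).1

theorem Ind.add_right {x y : V} (H : Ind F x y) (t : F) : Ind F x (y + t • x) := fun a b hab => by
  obtain ⟨h1, h2⟩ := H (a + b * t) b (by rw [← hab]; module)
  subst h2
  exact ⟨by simpa using h1, rfl⟩

theorem ind_of_ne {x y : V} (hx : x ≠ 0) (hy : ∀ c : F, y ≠ c • x) : Ind F x y := by
  intro a b hab
  have hb : b = 0 := by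
    by_contra hb
    apply hy (-(b⁻¹ * a))
    have h1 : b • y = -(a • x) := eq_neg_of_add_eq_zero_right hab
    rw [neg_smul, mul_smul, ← smul_neg, ← h1, smul_smul, inv_mul_cancel₀ hb, one_smul]
  subst hb
  rw [zero_smul, add_zero] at hab
  exact ⟨(smul_eq_zero.1 hab).resolve_right hx, rfl⟩

theorem Ind.eig {x y : V} (H : Ind F x y) {a b c : F} (h : a • x + b • y = c • (x + y)) : a = c ∧ b = c := by
  obtain ⟨h1, h2⟩ := H (a - c) (b - c) (by rw [← sub_eq_zero] at h; rw [← h]; module)
  exact ⟨sub_eq_zero.1 h1, sub_eq_zero.1 h2⟩

/-- two independent vectors of `⟨v, v'⟩` span it -/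
theorem span_of_two {v v' n n' : V} {a b c d : F} (hn : n = a • v + b • v') (hn' : n' = c • v + d • v')
    (H : Ind F n n') : ∃ s t : F, v = s • n + t • n' := by
  have hdet : a * d - b * c ≠ 0 := by
    intro h0
    obtain ⟨h1, h2⟩ := H d (-b) (by
      rw [hn, hn']
      have e : d • (a • v + b • v') + -b • (c • v + d • v') = (a * d - b * c) • v := by module
      rw [e, h0, zero_smul])
    obtain ⟨h3, h4⟩ := H (-c) a (by
      rw [hn, hn']
      have e : -c • (a • v + b • v') + a • (c • v + d • v') = (a * d - b * c) • v' := by module
      rw [e, h0, zero_smul])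
    apply H.left_ne
    rw [hn, h4, neg_eq_zero.1 h2]
    simp
  refine ⟨(a * d - b * c)⁻¹ * d, -((a * d - b * c)⁻¹ * b), ?_⟩
  rw [hn, hn']
  have e : ((a * d - b * c)⁻¹ * d) • (a • v + b • v') + -((a * d - b * c)⁻¹ * b) • (c • v + d • v') =
    ((a * d - b * c)⁻¹ * (a * d - b * c)) • v := by module
  rw [e, inv_mul_cancel₀ hdet, one_smul]

theorem exists_ind {W : Submodule F V} (h2 : 2 ≤ finrank F W) (x : V) (hx : x ≠ 0) : ∃ y ∈ W, Ind F x y := by
  by_contra hcon
  push Not at hcon
  have h1 : W ≤ Submodule.span F {x} := by
    intro y hy
    by_contra h3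
    exact hcon y hy (ind_of_ne hx fun c hc => h3 (Submodule.mem_span_singleton.2 ⟨c, hc.symm⟩))
  have h3 := Submodule.finrank_mono h1
  rw [finrank_span_singleton hx] at h3
  omega

theorem exists_ne_zero {W : Submodule F V} (h2 : 1 ≤ finrank F W) : ∃ x ∈ W, x ≠ 0 := by
  by_contra hcon
  push Not at hcon
  have h1 : W = ⊥ := (Submodule.eq_bot_iff W).2 hcon
  rw [h1, finrank_bot] at h2
  omega

theorem span_two [Finite V] {W : Submodule F V} (h2 : finrank F W = 2) {x y : V} (hx : x ∈ W) (hy : y ∈ W)
    (H : Ind F x y) {z : V} (hz : z ∈ W) : ∃ s t : F, z = s • x + t • y := by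
  have h1 : LinearIndependent F ![x, y] := LinearIndependent.pair_iff.2 H
  have h3 : Submodule.span F (Set.range ![x, y]) = W := by
    apply Submodule.eq_of_le_of_finrank_eq
    · rw [Submodule.span_le]
      rintro _ ⟨i, rfl⟩
      fin_cases i
      exacts [hx, hy]
    · rw [finrank_span_eq_card h1, h2]
      rfl
  rw [← h3, Matrix.range_cons, Matrix.range_cons, Matrix.range_empty, Set.union_empty, Set.singleton_union,
    Submodule.mem_span_pair] at hz
  obtain ⟨s, t, h⟩ := hz
  exact ⟨s, t, h.symm⟩

/-! ### non-degenerate subspaces -/

variable (Q) in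
/-- non-degenerate -/
def ND (W : Submodule F V) : Prop := ∀ x ∈ W, (∀ y ∈ W, polar Q x y = 0) → x = 0

theorem ND.exists_ne {W : Submodule F V} (h : ND Q W) {x : V} (hx : x ∈ W) (h0 : x ≠ 0) :
    ∃ y ∈ W, polar Q x y ≠ 0 := by
  by_contra hcon
  push Not at hcon
  exact h0 (h x hx hcon)

theorem ND.exists_nonsing {W : Submodule F V} (h : ND Q W) (h1 : 1 ≤ finrank F W) : ∃ x ∈ W, Q x ≠ 0 := by
  by_contra hcon
  push Not at hcon
  obtain ⟨x, hx, hx0⟩ := exists_ne_zero h1
  obtain ⟨y, hy, hxy⟩ := h.exists_ne hx hx0
  have h2 := Q_add (Q := Q) x y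
  rw [hcon x hx, hcon y hy, hcon _ (add_mem hx hy), zero_add, zero_add] at h2
  exact hxy h2.symm

/-- binary forms are universal -/
theorem ND.exists_val [Finite F] {W : Submodule F V} (h : ND Q W) (h2 : 2 ≤ finrank F W) (c : F) :
    ∃ x ∈ W, Q x = c := by
  obtain ⟨x, hx⟩ := H749.exists_value (Q := Q.comp W.subtype)
    (fun x hx => Subtype.ext (h x x.2 fun y hy => hx ⟨y, hy⟩)) h2 c
  exact ⟨x, x.2, hx⟩

theorem exists_sing [Finite F] [Finite V] {W : Submodule F V} (h3 : 3 ≤ finrank F W) : ∃ x ∈ W, x ≠ 0 ∧ Q x = 0 := by
  obtain ⟨x, hx0, hx⟩ := H181.StdBasis.exists_singular (Q.comp W.subtype) h3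
  exact ⟨x, x.2, fun h => hx0 (Subtype.ext h), hx⟩

section dec

variable {ι : Type} {P : ι → Submodule F V}

theorem _root_.Cfsg.Agent.SB.D4.Dec.eq_zeroG (hQ : Nondeg Q) (hD : Dec Q P) {x : V} (h : ∀ i, ∀ y ∈ P i, polar Q x y = 0) : x = 0 := by
  refine hQ x fun y => ?_
  have hy : y ∈ ⨆ i, P i := by rw [hD.span]; trivial
  induction hy using Submodule.iSup_induction' with
  | mem i y hy => exact h i y hy
  | zero => exact polar_zero_right _ _
  | add y z _ _ hy hz => rw [polar_add_right, hy, hz, add_zero]

theorem _root_.Cfsg.Agent.SB.D4.Dec.ndG (hQ : Nondeg Q) (hD : Dec Q P) (i : ι) : ND Q (P i) := fun x hx h =>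
  hD.eq_zeroG hQ fun j y hy => by
    by_cases hij : i = j
    · exact h y (hij ▸ hy)
    · exact hD.orth i j hij x hx y hy

theorem _root_.Cfsg.Agent.SB.D4.Dec.infG (hQ : Nondeg Q) (hD : Dec Q P) {i j : ι} (hij : i ≠ j) {x : V} (hi : x ∈ P i) (hj : x ∈ P j) :
    x = 0 := hD.ndG hQ i x hi fun y hy => hD.orth j i hij.symm x hj y hy

theorem _root_.Cfsg.Agent.SB.D4.Dec.indG (hQ : Nondeg Q) (hD : Dec Q P) {i j : ι} (hij : i ≠ j) {x y : V} (hi : x ∈ P i) (hj : y ∈ P j)
    (hx : x ≠ 0) (hy : y ≠ 0) : Ind F x y := by
  intro a b hab
  have h1 : a • x = 0 := hD.infG hQ hij (Submodule.smul_mem _ _ hi) (by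
    rw [eq_neg_of_add_eq_zero_left hab]
    exact neg_mem (Submodule.smul_mem _ _ hj))
  rw [h1, zero_add] at hab
  exact ⟨(smul_eq_zero.1 h1).resolve_right hx, (smul_eq_zero.1 hab).resolve_right hy⟩

theorem _root_.Cfsg.Agent.SB.D4.Dec.sum_eq_zeroG [Fintype ι] (hQ : Nondeg Q) (hD : Dec Q P) {x : ι → V} (hx : ∀ i, x i ∈ P i)
    (h : ∑ i, x i = 0) (i : ι) : x i = 0 := by
  refine hD.ndG hQ i _ (hx i) fun y hy => ?_
  have h1 : polar Q (∑ j, x j) y = polar Q (x i) y := by
    rw [← polarBilin_apply_apply, map_sum, LinearMap.sum_apply, Finset.sum_eq_single i]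
    · rfl
    · exact fun j _ hj => hD.orth j i hj _ (hx j) y hy
    · exact fun h => absurd (Finset.mem_univ i) h
  rw [← h1, h, polar_zero_left]

end dec

/-! ### semisimilitudes -/

theorem gam_mul (M N : Gam Q) (x : V) : (M * N).1 x = M.1 (N.1 x) := rfl

theorem gam_add (M : Gam Q) (x y : V) : M.1 (x + y) = M.1 x + M.1 y := add_of_mem M.2 x y

theorem gam_zero (M : Gam Q) : M.1 0 = 0 := by
  obtain ⟨σ, c, h⟩ := M.2
  exact h.map_zero

theorem gam_ne (M : Gam Q) {x : V} (hx : x ≠ 0) : M.1 x ≠ 0 := fun h =>
  hx (M.1.injective (h.trans (gam_zero M).symm))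

theorem gam_inv (M : Gam Q) (x : V) : (M⁻¹).1 (M.1 x) = x := inv_apply M.1 x

theorem gam_inv' (M : Gam Q) (x : V) : M.1 ((M⁻¹).1 x) = x := apply_inv M.1 x

theorem gam_sum {ι : Type} [Fintype ι] (M : Gam Q) (x : ι → V) : M.1 (∑ i, x i) = ∑ i, M.1 (x i) :=
  map_sum (AddMonoidHom.mk' M.1 (gam_add M)) x Finset.univ

theorem gam_perp (M : Gam Q) {x y : V} (hx : polar Q x y = 0) : polar Q (M.1 x) (M.1 y) = 0 := by
  obtain ⟨σ, c, h⟩ := M.2
  rw [h.polar, hx, map_zero, mul_zero]

theorem eig_ne (M : Gam Q) {x : V} (hx : x ≠ 0) {c : F} (h : M.1 x = c • x) : c ≠ 0 := by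
  rintro rfl
  exact gam_ne M hx (by rw [h, zero_smul])

/-- the automorphisms of a field with at most three elements -/
theorem aut_small [Finite F] (h3 : Nat.card F ≤ 3) (σ : F ≃+* F) (a : F) : σ a = a := by
  classical
  by_contra h
  have h0 : a ≠ 0 := fun e => h (by rw [e, map_zero])
  have h1 : a ≠ 1 := fun e => h (by rw [e, map_one])
  have h2 : σ a ≠ 0 := fun e => h0 (σ.injective (by rw [e, map_zero]))
  have h4 : σ a ≠ 1 := fun e => h1 (σ.injective (by rw [e, map_one]))
  have h5 : ({σ a, a, 0, 1} : Set F).ncard = 4 := by
    rw [Set.ncard_insert_of_notMem, Set.ncard_insert_of_notMem, Set.ncard_pair zero_ne_one]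
    · simp [h0, h1]
    · simp [h, h2, h4]
  have h6 := Set.ncard_le_ncard (Set.subset_univ ({σ a, a, 0, 1} : Set F))
  rw [h5, Set.ncard_univ] at h6
  omega

theorem exists_gen (F : Type) [Field F] [Finite F] : ∃ g : F, g ≠ 0 ∧ ∀ σ : F ≃+* F, σ g = g → ∀ a, σ a = a := by
  obtain ⟨g, hg⟩ := IsCyclic.exists_generator (α := Fˣ)
  refine ⟨g, g.ne_zero, fun σ hσ a => ?_⟩
  by_cases ha : a = 0
  · rw [ha, map_zero]
  · obtain ⟨k, hk⟩ := Subgroup.mem_zpowers_iff.1 (hg (Units.mk0 a ha))
    have h4 : a = (g : F) ^ k := by
      have := congrArg Units.val hk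
      rw [Units.val_zpow_eq_zpow_val] at this
      exact this.symm
    rw [h4, map_zpow₀, hσ]

/-- the eigenspace of a linear similitude -/
def eigS (M : Gam Q) (hM : ∀ (a : F) (x : V), M.1 (a • x) = a • M.1 x) (c : F) : Submodule F V where
  carrier := {x | M.1 x = c • x}
  add_mem' {x y} hx hy := by
    show M.1 (x + y) = _
    rw [gam_add, hx, hy, smul_add]
  zero_mem' := by
    show M.1 0 = _
    rw [gam_zero, smul_zero]
  smul_mem' a x hx := by
    show M.1 (a • x) = _
    rw [hM, hx, smul_comm]

theorem mem_eigS {M : Gam Q} {hM : ∀ (a : F) (x : V), M.1 (a • x) = a • M.1 x} {c : F} {x : V} :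
    x ∈ eigS M hM c ↔ M.1 x = c • x := Iff.rfl

theorem scal_of_dec {ι : Type} {P : ι → Submodule F V} (hD : Dec Q P) {M : Gam Q}
    (hM : ∀ (a : F) (x : V), M.1 (a • x) = a • M.1 x) {c : F} (h : ∀ i, ∀ x ∈ P i, M.1 x = c • x) : IsScal M := by
  refine ⟨c, fun x => ?_⟩
  have h1 : (⨆ i, P i) ≤ eigS M hM c := iSup_le fun i x hx => h i x hx
  exact h1 (by rw [hD.span]; trivial)

/-! ### reflections -/

theorem rr_of_perp {v x : V} (h : polar Q v x = 0) : (rr Q v).1 x = x := by
  rw [rr_apply, h, mul_zero, zero_smul, sub_zero]

theorem rr_form (v x : V) : Q ((rr Q v).1 x) = Q x := by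
  by_cases h : Q v = 0
  · rw [rr_apply, h, inv_zero, zero_mul, zero_smul, sub_zero]
  · rw [rr_eq h, rf_apply]
    exact refl_mem_O h x

theorem rr_lin (v : V) (a b : F) (x y : V) : (rr Q v).1 (a • x + b • y) = a • (rr Q v).1 x + b • (rr Q v).1 y := by
  simp only [rr_apply, polar_add_right, polar_smul_right, smul_eq_mul]
  module

theorem rr_mem {W : Submodule F V} {v x : V} (hv : v ∈ W) (hx : x ∈ W) : (rr Q v).1 x ∈ W := by
  rw [rr_apply]
  exact sub_mem hx (Submodule.smul_mem _ _ hv)

theorem rr_comm {v a : V} (h : polar Q v a = 0) : Commute (rr Q v) (rr Q a) := by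
  have h' : polar Q a v = 0 := by rw [polar_comm]; exact h
  apply Subtype.ext
  ext x
  show (rr Q v).1 ((rr Q a).1 x) = (rr Q a).1 ((rr Q v).1 x)
  simp only [rr_apply, polar_sub_right, polar_smul_right, h, h', smul_zero, sub_zero]
  abel

theorem cjv_comm {v u a b : V} (h1 : polar Q v a = 0) (h2 : polar Q v b = 0) (h3 : polar Q u a = 0)
    (h4 : polar Q u b = 0) : cjv v u (rr Q a * rr Q b) = rr Q a * rr Q b := by
  have c1 : Commute (rr Q u * rr Q v) (rr Q a * rr Q b) :=
    ((rr_comm h3).mul_right (rr_comm h4)).mul_left ((rr_comm h1).mul_right (rr_comm h2))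
  rw [cjv, c1.eq, mul_assoc, mul_assoc (rr Q u), ← mul_assoc (rr Q v), rr_mul_self, one_mul, rr_mul_self, mul_one]

theorem cjv_inv (v u : V) (M : Gam Q) : (cjv v u M)⁻¹ = cjv v u M⁻¹ := by
  simp only [cjv, mul_inv_rev, rr_inv, mul_assoc]

theorem rr_eq_cjv {v : V} (hv : Q v ≠ 0) (u : V) (M : Gam Q) :
    rr Q (M.1 v) * rr Q v = M * (rr Q u * (cjv v u M)⁻¹ * rr Q u) := by
  have e : ∀ x : V, ∀ N : Gam Q, rr Q x * (rr Q x * N) = N := fun x N => by rw [← mul_assoc, rr_mul_self, one_mul]
  rw [← conj_rr M hv, cjv_inv, cjv]
  simp only [mul_assoc, e, rr_mul_self, mul_one]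

section blocks

variable {ι : Type} {P : ι → Submodule F V}

/-- `M` maps blocks into blocks -/
def Pm (P : ι → Submodule F V) (M : Gam Q) : Prop := ∀ i, ∃ j, ∀ x ∈ P i, M.1 x ∈ P j

theorem Pm.mul {M N : Gam Q} (hM : Pm P M) (hN : Pm P N) : Pm P (M * N) := fun i => by
  obtain ⟨j, hj⟩ := hN i
  obtain ⟨k, hk⟩ := hM j
  exact ⟨k, fun x hx => hk _ (hj x hx)⟩

theorem _root_.Cfsg.Agent.SB.D4.Dec.rr_memG (hD : Dec Q P) {k : ι} {u : V} (hu : u ∈ P k) (i : ι) : ∀ x ∈ P i, (rr Q u).1 x ∈ P i := by
  intro x hx
  by_cases h : k = i
  · exact G.rr_mem (h ▸ hu) hx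
  · rw [rr_of_perp (hD.orth k i h u hu x hx)]
    exact hx

theorem _root_.Cfsg.Agent.SB.D4.Dec.pm_rrG (hD : Dec Q P) {k : ι} {u : V} (hu : u ∈ P k) : Pm P (rr Q u) := fun i => ⟨i, hD.rr_memG hu i⟩

/-- **LA**: `r_{M v} r_v` permutes the blocks -/
theorem pm_rr {L : Subgroup (Gam Q)} (hL : Prm L P) {v u : V} (hv : Q v ≠ 0) (hu : Pm P (rr Q u)) {M : Gam Q}
    (hM : M ∈ L) (hc : cjv v u M ∈ L) : Pm P (rr Q (M.1 v) * rr Q v) := by
  rw [rr_eq_cjv hv u]
  exact Pm.mul (hL M hM) ((hu.mul (hL _ (inv_mem hc))).mul hu)

end blocks

variable (Q) in
/-- what is used of the product of two different reflections -/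
structure Rot (v v' : V) (w : V → V) : Prop where
  lin : ∀ (a b : F) (x y : V), w (a • x + b • y) = a • w x + b • w y
  form : ∀ x, Q (w x) = Q x
  sub : ∀ z, ∃ a b : F, w z - z = a • v + b • v'
  ne : ∀ z, polar Q v z ≠ 0 → w z - z ≠ 0

theorem rot_of {v v' : V} (hv : Q v ≠ 0) (h : ∀ c : F, v' ≠ c • v) : Rot Q v v' (rr Q v' * rr Q v).1 := by
  have hv0 : v ≠ 0 := fun h0 => hv (by rw [h0, map_zero])
  have e : ∀ z, (rr Q v' * rr Q v).1 z - z = (-((Q v)⁻¹ * polar Q v z)) • v +
      (-((Q v')⁻¹ * polar Q v' ((rr Q v).1 z))) • v' := by
    intro z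
    rw [gam_mul, rr_apply v']
    nth_rewrite 1 [rr_apply]
    module
  refine ⟨fun a b x y => by rw [gam_mul, gam_mul, gam_mul, rr_lin, rr_lin], fun x => by rw [gam_mul, rr_form, rr_form],
    fun z => ⟨_, _, e z⟩, fun z hz h0 => ?_⟩
  rw [e] at h0
  exact mul_ne_zero (inv_ne_zero hv) hz (neg_eq_zero.1 (ind_of_ne hv0 h _ _ h0).1)

/-- two vectors of the form `w z - z` -/
theorem Rot.span {v v' : V} {w : V → V} (R : Rot Q v v' w) {x y : V} (H : Ind F (w x - x) (w y - y)) :
    ∃ s t : F, v = s • (w x - x) + t • (w y - y) := by
  obtain ⟨a, b, h1⟩ := R.sub x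
  obtain ⟨c, d, h2⟩ := R.sub y
  exact span_of_two h1 h2 H

theorem Rot.comb {v v' : V} {w : V → V} (R : Rot Q v v' w) (a b : F) (x y : V) :
    a • (w x - x) + b • (w y - y) = w (a • x + b • y) - (a • x + b • y) := by
  rw [R.lin]; module

section blocks

variable {ι : Type} {P : ι → Submodule F V}

/-- a moved block -/
theorem Rot.moved {v v' : V} {w : V → V} (R : Rot Q v v' w) (hQ : Nondeg Q) (hD : Dec Q P) {i j : ι} (hij : i ≠ j)
    (h : ∀ x ∈ P i, w x ∈ P j) {x y : V} (hx : x ∈ P i) (hy : y ∈ P i) (H : Ind F x y) :
    Ind F (w x - x) (w y - y) := by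
  intro a b hab
  rw [R.comb, sub_eq_zero] at hab
  have h1 : a • x + b • y ∈ P i := add_mem (Submodule.smul_mem _ _ hx) (Submodule.smul_mem _ _ hy)
  exact H a b (hD.infG hQ hij h1 (hab ▸ h _ h1))

/-- **LA, blocks of dimension at least two**, `v` not orthogonal to three blocks -/
theorem la_planes (hQ : Nondeg Q) (hD : Dec Q P) (h2 : ∀ i, 2 ≤ finrank F (P i)) {v v' : V} (hv : Q v ≠ 0)
    {i₁ i₂ i₃ : ι} (h12 : i₁ ≠ i₂) (h13 : i₁ ≠ i₃) (h23 : i₂ ≠ i₃) (e1 : ∃ z ∈ P i₁, polar Q v z ≠ 0)
    (e2 : ∃ z ∈ P i₂, polar Q v z ≠ 0) (e3 : ∃ z ∈ P i₃, polar Q v z ≠ 0) (hw : Pm P (rr Q v' * rr Q v)) :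
    ∃ c : F, v' = c • v := by
  by_contra hcon
  push Not at hcon
  have R := rot_of hv hcon
  set w := (rr Q v' * rr Q v).1 with hwd
  have key : ∀ i j : ι, v ∉ P i ⊔ P j := by
    intro i j hv'
    have h1 : ∀ k, k ≠ i → k ≠ j → ¬ ∃ z ∈ P k, polar Q v z ≠ 0 := by
      rintro k hi hj ⟨z, hz, hz'⟩
      obtain ⟨a, ha, b, hb, rfl⟩ := Submodule.mem_sup.1 hv'
      rw [polar_add_left, hD.orth i k hi.symm a ha z hz, hD.orth j k hj.symm b hb z hz, add_zero] at hz'
      exact hz' rfl
    by_cases a1 : i₁ = i
    · by_cases a2 : i₂ = j
      · exact h1 i₃ (a1 ▸ h13.symm) (a2 ▸ h23.symm) e3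
      · exact h1 i₂ (a1 ▸ h12.symm) a2 e2
    by_cases a2 : i₁ = j
    · by_cases a3 : i₂ = i
      · exact h1 i₃ (a3 ▸ h23.symm) (a2 ▸ h13.symm) e3
      · exact h1 i₂ a3 (a2 ▸ h12.symm) e2
    · exact h1 i₁ a1 a2 e1
  by_cases hfix : ∀ i, ∀ x ∈ P i, w x ∈ P i
  · obtain ⟨x, hx, hx'⟩ := e1
    obtain ⟨y, hy, hy'⟩ := e2
    have m1 := sub_mem (hfix _ x hx) hx
    have m2 := sub_mem (hfix _ y hy) hy
    obtain ⟨s, t, h⟩ := R.span (hD.indG hQ h12 m1 m2 (R.ne x hx') (R.ne y hy'))
    refine key i₁ i₂ ?_
    rw [h]
    exact Submodule.add_mem_sup (Submodule.smul_mem _ _ m1) (Submodule.smul_mem _ _ m2)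
  · push Not at hfix
    obtain ⟨i, x₀, hx₀, hx₀'⟩ := hfix
    obtain ⟨j, hj⟩ := hw i
    have hij : i ≠ j := fun e => hx₀' (e ▸ hj x₀ hx₀)
    obtain ⟨x, hx, hx0⟩ := exists_ne_zero (W := P i) (by have := h2 i; omega)
    obtain ⟨y, hy, H⟩ := exists_ind (h2 i) x hx0
    obtain ⟨s, t, h⟩ := R.span (R.moved hQ hD hij hj hx hy H)
    refine key i j ?_
    have m : ∀ z ∈ P i, w z - z ∈ P i ⊔ P j := fun z hz =>
      sub_mem (Submodule.mem_sup_right (hj z hz)) (Submodule.mem_sup_left hz)
    rw [h]
    exact add_mem (Submodule.smul_mem _ _ (m x hx)) (Submodule.smul_mem _ _ (m y hy))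

theorem fix_planes (hQ : Nondeg Q) (hD : Dec Q P) (h2 : ∀ i, 2 ≤ finrank F (P i)) {L : Subgroup (Gam Q)}
    (hL : Prm L P) {v u : V} (hv : Q v ≠ 0) {k : ι} (hu : u ∈ P k)
    {i₁ i₂ i₃ : ι} (h12 : i₁ ≠ i₂) (h13 : i₁ ≠ i₃) (h23 : i₂ ≠ i₃) (e1 : ∃ z ∈ P i₁, polar Q v z ≠ 0)
    (e2 : ∃ z ∈ P i₂, polar Q v z ≠ 0) (e3 : ∃ z ∈ P i₃, polar Q v z ≠ 0) {M : Gam Q} (hM : M ∈ L)
    (hc : cjv v u M ∈ L) : Fix M v :=
  la_planes hQ hD h2 hv h12 h13 h23 e1 e2 e3 (pm_rr hL hv (hD.pm_rrG hu) hM hc)

/-- **LA, two fixed blocks**, one component singular -/
theorem la_two_fixed (hQ : Nondeg Q) (hD : Dec Q P) {i j : ι} (hij : i ≠ j) {a b v' : V} (ha : a ∈ P i) (hb : b ∈ P j)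
    (ha0 : a ≠ 0) (hQa : Q a = 0) (hQb : Q b ≠ 0) (h1 : ∀ x ∈ P i, (rr Q v' * rr Q (a + b)).1 x ∈ P i)
    (h2 : ∀ x ∈ P j, (rr Q v' * rr Q (a + b)).1 x ∈ P j) : ∃ c : F, v' = c • (a + b) := by
  by_contra hcon
  push Not at hcon
  have hv : Q (a + b) ≠ 0 := by rwa [Q_add, hQa, hD.orth i j hij a ha b hb, zero_add, add_zero]
  have R := rot_of hv hcon
  set w := (rr Q v' * rr Q (a + b)).1 with hwd
  obtain ⟨x, hx, hx'⟩ := (hD.ndG hQ i).exists_ne ha ha0
  obtain ⟨y, hy, hy'⟩ := (hD.ndG hQ j).exists_ne hb fun h0 => hQb (by rw [h0, map_zero])
  have m1 := sub_mem (h1 x hx) hx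
  have m2 := sub_mem (h2 y hy) hy
  have n1 := R.ne x (by rwa [polar_add_left, hD.orth j i hij.symm b hb x hx, add_zero])
  have n2 := R.ne y (by rwa [polar_add_left, hD.orth i j hij a ha y hy, zero_add])
  obtain ⟨s, t, h⟩ := R.span (hD.indG hQ hij m1 m2 n1 n2)
  have h3 : a - s • (w x - x) = 0 := hD.infG hQ hij (sub_mem ha (Submodule.smul_mem _ _ m1)) (by
    have e : a - s • (w x - x) = t • (w y - y) - b := by
      rw [sub_eq_sub_iff_add_eq_add, h, add_comm]
    rw [e]
    exact sub_mem (Submodule.smul_mem _ _ m2) hb)
  have hs : s ≠ 0 := by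
    rintro rfl
    exact ha0 (by simpa using h3)
  have h4 : w x = x + s⁻¹ • a := by
    rw [sub_eq_zero.1 h3, smul_smul, inv_mul_cancel₀ hs, one_smul, add_sub_cancel]
  have h5 := R.form x
  rw [h4, Q_add, QuadraticMap.map_smul, hQa, smul_zero, add_zero, polar_smul_right, add_eq_left, smul_eq_zero,
    polar_comm] at h5
  exact h5.elim (inv_ne_zero hs) hx'

/-- no block of dimension at least three is moved -/
theorem Rot.fixed [Finite V] {v v' : V} {w : V → V} (R : Rot Q v v' w) (hQ : Nondeg Q) (hD : Dec Q P) {i j : ι}
    (h3 : 3 ≤ finrank F (P i)) (h : ∀ x ∈ P i, w x ∈ P j) : i = j := by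
  by_contra hij
  let f : P i →ₗ[F] Submodule.span F {v, v'} :=
    { toFun := fun x => ⟨w x - x, by
        obtain ⟨a, b, e⟩ := R.sub x
        exact Submodule.mem_span_pair.2 ⟨a, b, e.symm⟩⟩
      map_add' := fun x y => Subtype.ext (by
        have e := R.comb 1 1 x y
        simp only [one_smul] at e
        exact e.symm)
      map_smul' := fun a x => Subtype.ext (by
        have e := R.comb a 0 x x
        simp only [zero_smul, add_zero] at e
        exact e.symm) }
  have hf : Function.Injective f := by
    rw [injective_iff_map_eq_zero]
    intro x hx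
    have h1 : w x - x = 0 := congrArg Subtype.val hx
    exact Subtype.ext (hD.infG hQ hij x.2 (sub_eq_zero.1 h1 ▸ h x x.2))
  have h1 := LinearMap.finrank_le_finrank_of_injective hf
  have h2 : finrank F (Submodule.span F ({v, v'} : Set V)) ≤ 2 := by
    classical
    refine (finrank_span_le_card ({v, v'} : Set V)).trans ?_
    rw [Set.toFinset_insert, Set.toFinset_singleton]
    exact Finset.card_le_two
  omega

/-- **LA, blocks of dimension at least three**, `v = a + b` with `a` singular -/
theorem fix_two [Finite V] (hQ : Nondeg Q) (hD : Dec Q P) (h3 : ∀ i, 3 ≤ finrank F (P i)) {L : Subgroup (Gam Q)}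
    (hL : Prm L P) {i j : ι} (hij : i ≠ j) {a b : V} (ha : a ∈ P i) (hb : b ∈ P j)
    (ha0 : a ≠ 0) (hQa : Q a = 0) (hQb : Q b ≠ 0) {M : Gam Q} (hM : M ∈ L) (hc : cjv (a + b) b M ∈ L) :
    Fix M (a + b) := by
  have hv : Q (a + b) ≠ 0 := by rwa [Q_add, hQa, hD.orth i j hij a ha b hb, zero_add, add_zero]
  have hw := pm_rr hL hv (hD.pm_rrG hb) hM hc
  by_contra hcon
  have R := rot_of (v' := M.1 (a + b)) hv fun c h => hcon ⟨c, h⟩
  have key : ∀ k, ∀ x ∈ P k, (rr Q (M.1 (a + b)) * rr Q (a + b)).1 x ∈ P k := by
    intro k
    obtain ⟨k', hk⟩ := hw k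
    rwa [← R.fixed hQ hD (h3 k) hk] at hk
  exact hcon (la_two_fixed hQ hD hij ha hb ha0 hQa hQb (key i) (key j))

/-- the image of a block is the whole block -/
theorem Pm.inv_mem (hQ : Nondeg Q) (hD : Dec Q P) {M : Gam Q} (hM' : Pm P M⁻¹) {i j : ι} (h0 : ∃ x ∈ P i, x ≠ 0)
    (h : ∀ x ∈ P i, M.1 x ∈ P j) : ∀ y ∈ P j, (M⁻¹).1 y ∈ P i := by
  obtain ⟨k, hk⟩ := hM' j
  obtain ⟨x, hx, hx0⟩ := h0
  have h1 := hk _ (h x hx)
  rw [gam_inv] at h1
  by_cases e : i = k
  · exact e ▸ hk
  · exact absurd (hD.infG hQ e hx h1) hx0

/-- the zero pattern of a fixed vector -/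
theorem fix_block (hQ : Nondeg Q) (hD : Dec Q P) {M : Gam Q} (hM : Pm P M) (hM' : Pm P M⁻¹) {v : V} (hv : Fix M v)
    {i : ι} (h0 : ∃ x ∈ P i, x ≠ 0) (h1 : ∀ y ∈ P i, polar Q v y = 0) (h2 : ∀ j, j ≠ i → ∃ z ∈ P j, polar Q v z ≠ 0) :
    ∀ x ∈ P i, M.1 x ∈ P i := by
  obtain ⟨j, hj⟩ := hM i
  by_cases e : j = i
  · exact e ▸ hj
  exfalso
  obtain ⟨z, hz, hz'⟩ := h2 j e
  obtain ⟨c, hc⟩ := hv
  have h3 := gam_perp M (h1 _ (hM'.inv_mem hQ hD h0 hj z hz))
  rw [gam_inv', hc, polar_smul_left, smul_eq_zero] at h3
  exact h3.elim (eig_ne M (fun h => hz' (by rw [h, polar_zero_left])) hc) hz'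

/-- components of an eigenvector -/
theorem eig_comp [Fintype ι] (hQ : Nondeg Q) (hD : Dec Q P) {M : Gam Q} (hM : ∀ i, ∀ x ∈ P i, M.1 x ∈ P i)
    {x : ι → V} (hx : ∀ i, x i ∈ P i) {c : F} (h : M.1 (∑ i, x i) = c • ∑ i, x i) (i : ι) : M.1 (x i) = c • x i := by
  rw [← sub_eq_zero]
  refine hD.sum_eq_zeroG hQ (x := fun i => M.1 (x i) - c • x i)
    (fun i => sub_mem (hM i _ (hx i)) (Submodule.smul_mem _ _ (hx i))) ?_ i
  rw [Finset.sum_sub_distrib, ← gam_sum, h, Finset.smul_sum, sub_self]

/-- two components -/
theorem eig_two (hQ : Nondeg Q) (hD : Dec Q P) {M : Gam Q} {i j : ι} (hij : i ≠ j) (hi : ∀ x ∈ P i, M.1 x ∈ P i)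
    (hj : ∀ x ∈ P j, M.1 x ∈ P j) {a b : V} (ha : a ∈ P i) (hb : b ∈ P j) {c : F} (h : M.1 (a + b) = c • (a + b)) :
    M.1 a = c • a ∧ M.1 b = c • b := by
  rw [gam_add, smul_add] at h
  have h1 : M.1 a - c • a = 0 := hD.infG hQ hij (sub_mem (hi a ha) (Submodule.smul_mem _ _ ha)) (by
    have e : M.1 a - c • a = c • b - M.1 b := by rw [sub_eq_sub_iff_add_eq_add, h, add_comm]
    rw [e]
    exact sub_mem (Submodule.smul_mem _ _ hb) (hj b hb))
  have h2 := sub_eq_zero.1 h1
  rw [h2] at h
  exact ⟨h2, add_left_cancel h⟩

end blocks

/-- two blocks are not interchanged by a map fixing `a + b`, `a` singular, `b` nonsingular -/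
theorem no_swap {P : Fin 2 → Submodule F V} (hQ : Nondeg Q) (hD : Dec Q P) {M : Gam Q} (hM : Pm P M) (hM' : Pm P M⁻¹)
    {a b : V} (ha : a ∈ P 0) (hb : b ∈ P 1) (ha0 : a ≠ 0) (hQa : Q a = 0) (hQb : Q b ≠ 0) (hv : Fix M (a + b)) :
    ∀ i, ∀ x ∈ P i, M.1 x ∈ P i := by
  have hb0 : b ≠ 0 := fun h0 => hQb (by rw [h0, map_zero])
  have h01 : (0 : Fin 2) ≠ 1 := by decide
  obtain ⟨j, hj⟩ := hM 0
  obtain ⟨k, hk⟩ := hM 1
  have hjk : j ≠ k := by
    rintro rfl
    have h1 := hM'.inv_mem hQ hD ⟨a, ha, ha0⟩ hj _ (hk b hb)
    rw [gam_inv] at h1
    exact hb0 (hD.infG hQ h01 h1 hb)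
  have key : (j = 0 ∧ k = 1) ∨ (j = 1 ∧ k = 0) := by omega
  rcases key with ⟨rfl, rfl⟩ | ⟨rfl, rfl⟩
  · intro i
    fin_cases i
    exacts [hj, hk]
  exfalso
  obtain ⟨c, hc⟩ := hv
  rw [gam_add, smul_add] at hc
  have h1 : M.1 b - c • a = 0 := hD.infG hQ h01 (sub_mem (hk b hb) (Submodule.smul_mem _ _ ha)) (by
    have e : M.1 b - c • a = c • b - M.1 a := by rw [sub_eq_sub_iff_add_eq_add, add_comm, hc, add_comm]
    rw [e]
    exact sub_mem (Submodule.smul_mem _ _ hb) (hj a ha))
  apply Q_ne M hQb
  rw [sub_eq_zero.1 h1, QuadraticMap.map_smul, hQa, smul_zero]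

/-- **HYP** -/
theorem hyp {W : Submodule F V} (hW : ND Q W) {M : Gam Q} {c : F} (hM : IsSS Q (RingEquiv.refl F) (c * c) M.1)
    (hMW : ∀ x ∈ W, M.1 x ∈ W) {u : V} (hu : u ∈ W) (hQu : Q u = 0)
    (h : ∀ x ∈ W, polar Q u x = 0 → M.1 x = c • x) : ∀ x ∈ W, M.1 x = c • x := by
  intro z hz
  by_cases hzu : polar Q u z = 0
  · exact h z hz hzu
  have hc : c ≠ 0 := left_ne_zero_of_mul hM.ne
  have h1 : ∀ y ∈ W, polar Q u y = 0 → polar Q (M.1 z - c • z) y = 0 := by
    intro y hy hy'
    have h2 := hM.polar z y
    rw [h y hy hy', polar_smul_right, RingEquiv.refl_apply, smul_eq_mul, mul_assoc] at h2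
    rw [polar_sub_left, mul_left_cancel₀ hc h2, polar_smul_left, smul_eq_mul, sub_self]
  have hn : M.1 z - c • z ∈ W := sub_mem (hMW z hz) (Submodule.smul_mem _ _ hz)
  have h2 : M.1 z - c • z - (polar Q (M.1 z - c • z) z / polar Q u z) • u = 0 := by
    refine hW _ (sub_mem hn (Submodule.smul_mem _ _ hu)) fun y hy => ?_
    have h3 := h1 (y - (polar Q u y / polar Q u z) • z) (sub_mem hy (Submodule.smul_mem _ _ hz)) (by
      rw [polar_sub_right, polar_smul_right, smul_eq_mul, div_mul_cancel₀ _ hzu, sub_self])
    rw [polar_sub_right, polar_smul_right, smul_eq_mul, sub_eq_zero] at h3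
    rw [polar_sub_left, polar_smul_left, h3, smul_eq_mul]
    ring
  generalize polar Q (M.1 z - c • z) z / polar Q u z = κ at h2
  have h3 : M.1 z = c • z + κ • u := by rw [sub_sub, sub_eq_zero] at h2; exact h2
  have h4 := hM.form z
  rw [h3, Q_add, QuadraticMap.map_smul, QuadraticMap.map_smul, hQu, smul_zero, add_zero, polar_smul_left,
    polar_smul_right, RingEquiv.refl_apply, smul_eq_mul, add_eq_left, smul_eq_zero, smul_eq_zero, polar_comm] at h4
  rw [h3, (h4.resolve_left hc).resolve_right hzu, zero_smul, add_zero]

/-- the multiplier of a linear similitude with a nonsingular eigenvector -/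
theorem isSS_of_eig {M : Gam Q} {σ : F ≃+* F} {m : F} (hM : IsSS Q σ m M.1) (hσ : ∀ a, σ a = a) {x : V} (hx : Q x ≠ 0)
    {c : F} (h : M.1 x = c • x) : IsSS Q (RingEquiv.refl F) (c * c) M.1 := by
  have h1 := hM.form x
  rw [h, QuadraticMap.map_smul, hσ, smul_eq_mul] at h1
  obtain rfl : σ = RingEquiv.refl F := RingEquiv.ext hσ
  rwa [mul_right_cancel₀ hx h1]

end Cfsg.Agent.SB.D4.G

private theorem dce_3fb2c88fff59 : _root_.True := by
  try have : _root_.True := by simp only [_root_.Cfsg.Agent.SB.D4.cjv.eq_1]
  exact _root_.True.intro
end

-- part: SB/D4/GF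
section
prune_inst 0x21606444406200000018008403200044400005220000000068000e04030922422080004002a00112028a044100010068135c0080426000000e000000011e00000000100420400000000010010000000000000000000000000000000000000004000000000
set_option linter.all false
open scoped Cfsg.Agent.FastGrp

/-!
# S5765, `PΩ₈⁺(q)`: the box `BoxFr` (eight lines) (helper61)
-/

set_option autoImplicit false
set_option linter.unusedSectionVars false

namespace Cfsg.Agent.SB.D4

open QuadraticMap Module Cfsg.Agent.LieClassical.OrthCore
  Cfsg.Agent.ClassicalGeometry.OrthSemi Cfsg.Agent.H989.OutOrth.Basic Cfsg.Agent.SB.D4.G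

namespace GF

variable {F V : Type} [Field F] [AddCommGroup V] [Module F V] {Q : QuadraticForm F V} {e : Fin 8 → V}

/-- an orthogonal family of nonsingular vectors in odd characteristic -/
structure OB (Q : QuadraticForm F V) (e : Fin 8 → V) : Prop where
  two : (2 : F) ≠ 0
  ne : ∀ i, Q (e i) ≠ 0
  orth : ∀ i j, i ≠ j → polar Q (e i) (e j) = 0

/-- monomial maps -/
def Mon (e : Fin 8 → V) (M : Gam Q) : Prop := ∀ i, ∃ (j : Fin 8) (c : F), M.1 (e i) = c • e j

theorem Mon.mul {M N : Gam Q} (hM : Mon e M) (hN : Mon e N) : Mon e (M * N) := fun i => by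
  obtain ⟨j, c, hj⟩ := hN i
  obtain ⟨k, d, hk⟩ := hM j
  obtain ⟨σ, m, h⟩ := M.2
  exact ⟨k, σ c * d, by rw [gam_mul, hj, h.smul, hk, smul_smul]⟩

theorem OB.self (h : OB Q e) (i : Fin 8) : polar Q (e i) (e i) ≠ 0 := by
  rw [polar_self']; exact mul_ne_zero h.two (h.ne i)

theorem OB.ne0 (h : OB Q e) (i : Fin 8) : e i ≠ 0 := fun h0 => h.ne i (by rw [h0, map_zero])

/-- the vector with given coordinates -/
def vec (e : Fin 8 → V) (x : Fin 8 → F) : V := ∑ i, x i • e i

theorem OB.polar_vec (h : OB Q e) (x : Fin 8 → F) (j : Fin 8) : polar Q (vec e x) (e j) = x j * polar Q (e j) (e j) := by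
  rw [vec, ← polarBilin_apply_apply, map_sum, LinearMap.sum_apply, Finset.sum_eq_single j]
  · rw [polarBilin_apply_apply, polar_smul_left, smul_eq_mul]
  · intro i _ hi
    rw [polarBilin_apply_apply, polar_smul_left, h.orth i j hi, smul_zero]
  · exact fun h => absurd (Finset.mem_univ j) h

theorem OB.Q_vec (h : OB Q e) (x : Fin 8 → F) : Q (vec e x) = ∑ i, x i ^ 2 * Q (e i) := by
  apply mul_left_cancel₀ h.two
  rw [← polar_self', Finset.mul_sum]
  nth_rewrite 2 [vec]
  rw [← polarBilin_apply_apply, map_sum]
  refine Finset.sum_congr rfl fun i _ => ?_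
  rw [map_smul, polarBilin_apply_apply, h.polar_vec, polar_self', smul_eq_mul]
  ring

theorem OB.span (h : OB Q e) (h8 : finrank F V = 8) : Submodule.span F (Set.range e) = ⊤ := by
  have h1 : LinearIndependent F e := by
    rw [Fintype.linearIndependent_iff]
    intro x hx j
    have h2 := h.polar_vec x j
    rw [vec, hx, polar_zero_left] at h2
    exact (mul_eq_zero.1 h2.symm).resolve_right (h.self j)
  exact h1.span_eq_top_of_card_eq_finrank (by rw [h8]; rfl)

/-- **LA for lines** -/
theorem la_lines (h : OB Q e) {v v' : V} (hv : Q v ≠ 0) (S : Finset (Fin 8)) (h5 : 5 ≤ S.card)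
    (hS : ∀ j ∈ S, polar Q v (e j) ≠ 0) (hw : Mon e (rr Q v' * rr Q v)) : ∃ c : F, v' = c • v := by
  classical
  by_contra hcon
  push Not at hcon
  have R := rot_of hv hcon
  set w := (rr Q v' * rr Q v).1 with hwd
  choose π μ hπ using hw
  have hz : ∀ j k, k ≠ j → k ≠ π j → polar Q (w (e j) - e j) (e k) = 0 := fun j k h1 h2 => by
    rw [hπ, polar_sub_left, polar_smul_left, h.orth _ _ h2.symm, h.orth _ _ h1.symm, smul_zero, sub_zero]
  obtain ⟨j₁, hj₁⟩ : S.Nonempty := Finset.card_pos.1 (by omega)
  obtain ⟨j₂, hj₂, hj₂'⟩ := Finset.exists_mem_notMem_of_card_lt_card (s := {j₁, π j₁}) (t := S)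
    (lt_of_le_of_lt Finset.card_le_two (by omega))
  obtain ⟨k, hk, hk'⟩ := Finset.exists_mem_notMem_of_card_lt_card (s := {j₁, π j₁, j₂, π j₂}) (t := S)
    (lt_of_le_of_lt Finset.card_le_four (by omega))
  simp only [Finset.mem_insert, Finset.mem_singleton, not_or] at hj₂' hk'
  have n1 := R.ne _ (hS j₁ hj₁)
  have n2 := R.ne _ (hS j₂ hj₂)
  have p2 : polar Q (w (e j₂) - e j₂) (e j₂) ≠ 0 := by
    by_cases hf : π j₂ = j₂
    · have e1 : w (e j₂) - e j₂ = (μ j₂ - 1) • e j₂ := by rw [hπ, hf]; module
      rw [e1] at n2 ⊢
      rw [polar_smul_left, smul_eq_mul]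
      exact mul_ne_zero (fun h0 => n2 (by rw [h0, zero_smul])) (h.self _)
    · rw [hπ, polar_sub_left, polar_smul_left, h.orth _ _ hf, smul_zero, zero_sub]
      exact neg_ne_zero.2 (h.self _)
  have H : Ind F (w (e j₁) - e j₁) (w (e j₂) - e j₂) := by
    intro a b hab
    have h1 := congrArg (fun x => polar Q x (e j₂)) hab
    simp only [polar_add_left, polar_smul_left, hz j₁ j₂ hj₂'.1 hj₂'.2, smul_zero, zero_add, polar_zero_left,
      smul_eq_mul] at h1
    have hb : b = 0 := by
      rcases mul_eq_zero.1 (by simpa only [_root_.QuadraticMap.polar_sub_left, _root_.QuadraticMap.polar_self, _root_.nsmul_eq_mul, _root_.Nat.cast_ofNat, _root_.mul_eq_zero, _root_.MulZeroClass.mul_zero, _root_.zero_add] using h1 : b * polar Q (w (e j₂) - e j₂) (e j₂) = 0) with h0 | h0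
      exacts [h0, absurd h0 p2]
    rw [hb, zero_smul, add_zero] at hab
    exact ⟨(smul_eq_zero.1 hab).resolve_right n1, hb⟩
  obtain ⟨s, t, hst⟩ := R.span H
  apply hS k hk
  rw [hst, polar_add_left, polar_smul_left, polar_smul_left, hz j₁ k hk'.1 hk'.2.1, hz j₂ k hk'.2.2.1 hk'.2.2.2,
    smul_zero, smul_zero, add_zero]

theorem fix_lines (h : OB Q e) {L : Subgroup (Gam Q)} (hL : ∀ M ∈ L, Mon e M) {x : Fin 8 → F} {u : V}
    (hv : Q (vec e x) ≠ 0) (hu : Mon e (rr Q u)) (S : Finset (Fin 8)) (h5 : 5 ≤ S.card) (hS : ∀ j ∈ S, x j ≠ 0)
    {M : Gam Q} (hM : M ∈ L) (hc : cjv (vec e x) u M ∈ L) : Fix M (vec e x) := by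
  refine la_lines h hv S h5 (fun j hj => ?_) ?_
  · rw [h.polar_vec]; exact mul_ne_zero (hS j hj) (h.self j)
  · rw [rr_eq_cjv hv u]
    exact Mon.mul (hL M hM) ((hu.mul (hL _ (inv_mem hc))).mul hu)

theorem mon_one (h : OB Q e) (c : F) (j : Fin 8) : Mon e (rr Q (c • e j)) := fun i => by
  by_cases hi : j = i
  · subst hi
    exact ⟨j, 1 - (Q (c • e j))⁻¹ * polar Q (c • e j) (e j) * c, by rw [rr_apply]; module⟩
  · exact ⟨i, 1, by rw [rr_of_perp (by rw [polar_smul_left, h.orth _ _ hi, smul_zero]), one_smul]⟩

theorem Q_two (h : OB Q e) {i j : Fin 8} (hij : i ≠ j) {a b : F} (hab : a ^ 2 * Q (e i) = b ^ 2 * Q (e j)) :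
    Q (a • e i + b • e j) = 2 * (a ^ 2 * Q (e i)) := by
  rw [Q_add, QuadraticMap.map_smul, QuadraticMap.map_smul, polar_smul_left, polar_smul_right, h.orth _ _ hij]
  simp only [smul_eq_mul]
  linear_combination -hab

theorem mon_two (h : OB Q e) {i j : Fin 8} (hij : i ≠ j) {a b : F} (ha : a ≠ 0)
    (hab : a ^ 2 * Q (e i) = b ^ 2 * Q (e j)) : Mon e (rr Q (a • e i + b • e j)) := fun k => by
  have hb : b ≠ 0 := by
    rintro rfl
    exact mul_ne_zero (pow_ne_zero 2 ha) (h.ne i) (by rw [hab]; ring)
  have h2 := h.two
  have hi := h.ne i
  have hj := h.ne j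
  by_cases h1 : i = k
  · subst h1
    refine ⟨j, -(a⁻¹ * b), ?_⟩
    rw [rr_apply, Q_two h hij hab, polar_add_left, polar_smul_left, polar_smul_left, h.orth _ _ hij.symm, polar_self']
    simp only [smul_eq_mul]
    match_scalars <;> field_simp <;> ring
  by_cases h3 : j = k
  · subst h3
    refine ⟨i, -(b⁻¹ * a), ?_⟩
    rw [rr_apply, Q_two h hij hab, hab, polar_add_left, polar_smul_left, polar_smul_left, h.orth _ _ hij, polar_self']
    simp only [smul_eq_mul]
    match_scalars <;> field_simp <;> ring
  · refine ⟨k, 1, ?_⟩
    rw [rr_of_perp, one_smul]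
    rw [polar_add_left, polar_smul_left, polar_smul_left, h.orth _ _ h1, h.orth _ _ h3, smul_zero, smul_zero, add_zero]

/-- two of three non-zero elements lie in the same square class -/
theorem sq_three [Finite F] {a b c : F} (ha : a ≠ 0) (hb : b ≠ 0) (hc : c ≠ 0) :
    IsSquare (a * b) ∨ IsSquare (a * c) ∨ IsSquare (b * c) := by
  classical
  have := Fintype.ofFinite F
  rw [← quadraticChar_one_iff_isSquare (mul_ne_zero ha hb), ← quadraticChar_one_iff_isSquare (mul_ne_zero ha hc),
    ← quadraticChar_one_iff_isSquare (mul_ne_zero hb hc), map_mul, map_mul, map_mul]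
  rcases quadraticChar_dichotomy ha with h1 | h1 <;> rcases quadraticChar_dichotomy hb with h2 | h2 <;>
    rcases quadraticChar_dichotomy hc with h3 | h3 <;> simp [h1, h2, h3]

theorem of_sq {a b : F} (hb : b ≠ 0) (h : IsSquare (a * b)) : ∃ c : F, c ^ 2 * b = a := by
  obtain ⟨r, hr⟩ := h
  exact ⟨r / b, by field_simp; linear_combination -hr⟩

theorem pair_three [Finite F] (h : OB Q e) {i j k : Fin 8} (hij : i ≠ j) (hik : i ≠ k) (hjk : j ≠ k) :
    ∃ s ∈ ({i, j, k} : Finset (Fin 8)), ∃ t ∈ ({i, j, k} : Finset (Fin 8)), s ≠ t ∧ ∃ c : F, c ^ 2 * Q (e t) = Q (e s) := by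
  rcases sq_three (h.ne i) (h.ne j) (h.ne k) with h1 | h1 | h1
  · exact ⟨i, by simp, j, by simp, hij, of_sq (h.ne _) h1⟩
  · exact ⟨i, by simp, k, by simp, hik, of_sq (h.ne _) h1⟩
  · exact ⟨j, by simp, k, by simp, hjk, of_sq (h.ne _) h1⟩

/-- a value of a monomial reflection supported on the lines `0, 1, k` -/
def Val (Q : QuadraticForm F V) (e : Fin 8 → V) (k : Fin 8) (x : F) : Prop :=
  x ≠ 0 ∧ ∃ u : V, Q u = x ∧ Mon e (rr Q u) ∧ ∀ j, j ≠ 0 → j ≠ 1 → j ≠ k → polar Q u (e j) = 0

theorem val_of_nonsq [Finite F] (h : OB Q e) (h2 : ¬ IsSquare (2 : F)) {k : Fin 8} (h0 : 0 ≠ k) (h1 : 1 ≠ k) {x : F}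
    (hx : x ≠ 0) : Val Q e k x := by
  obtain ⟨s, hs, t, ht, hst, c, hc⟩ := pair_three h (i := 0) (j := 1) (by decide) h0 h1
  have hm : ∀ r ∈ ({0, 1, k} : Finset (Fin 8)), ∀ j, j ≠ 0 → j ≠ 1 → j ≠ k → polar Q (e r) (e j) = 0 := by
    intro r hr j a0 a1 a2
    refine h.orth _ _ ?_
    rintro rfl
    simp only [a0, a1, a2, _root_.Fin.isValue, _root_.Finset.mem_insert, _root_.Finset.mem_singleton, _root_.or_self] at hr
  refine ⟨hx, ?_⟩
  rcases sq_three hx (h.ne s) (mul_ne_zero h.two (h.ne s)) with h3 | h3 | h3
  · obtain ⟨a, ha⟩ := of_sq (h.ne s) h3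
    refine ⟨a • e s, by rw [QuadraticMap.map_smul, ← ha, smul_eq_mul]; ring, mon_one h a s, fun j a0 a1 a2 => ?_⟩
    rw [polar_smul_left, hm s hs j a0 a1 a2, smul_zero]
  · obtain ⟨a, ha⟩ := of_sq (mul_ne_zero h.two (h.ne s)) h3
    have ha0 : a ≠ 0 := by rintro rfl; exact hx (by rw [← ha]; ring)
    have hab : a ^ 2 * Q (e s) = (a * c) ^ 2 * Q (e t) := by rw [← hc]; ring
    refine ⟨a • e s + (a * c) • e t, by rw [Q_two h hst hab, ← ha]; ring, mon_two h hst ha0 hab,
      fun j a0 a1 a2 => ?_⟩
    rw [polar_add_left, polar_smul_left, polar_smul_left, hm s hs j a0 a1 a2, hm t ht j a0 a1 a2, smul_zero, smul_zero,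
      add_zero]
  · exfalso
    apply h2
    obtain ⟨r, hr⟩ := h3
    have := h.ne s
    exact ⟨r / Q (e s), by field_simp; linear_combination hr⟩

theorem exists_hyper [Finite F] (h2 : (2 : F) ≠ 0) (h6 : 6 ≤ Nat.card F) (κ : F) :
    ∃ c δ : F, c ≠ 0 ∧ δ ≠ 0 ∧ δ ^ 2 = κ + c ^ 2 := by
  classical
  by_cases hκ : κ = 0
  · exact ⟨1, 1, one_ne_zero, one_ne_zero, by rw [hκ, zero_add]⟩
  have := Fintype.ofFinite F
  have hc : ∀ a : F, (Finset.univ.filter fun s : F => s ^ 2 = a).card ≤ 2 := fun a => by
    by_cases h : ∃ r : F, r ^ 2 = a
    · obtain ⟨r, rfl⟩ := h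
      refine le_trans (Finset.card_le_card (t := {r, -r}) fun s hs => ?_) Finset.card_le_two
      rcases sq_eq_sq_iff_eq_or_eq_neg.1 (Finset.mem_filter.1 hs).2 with h | h <;> simp [h]
    · rw [Finset.filter_eq_empty_iff.2 fun s _ hs => h ⟨s, hs⟩]; simp
  obtain ⟨s, -, hs⟩ := Finset.exists_mem_notMem_of_card_lt_card (t := Finset.univ)
    (s := insert 0 ((Finset.univ.filter fun s : F => s ^ 2 = κ) ∪ Finset.univ.filter fun s : F => s ^ 2 = -κ)) (by
      have h1 := Finset.card_insert_le (0 : F)
        ((Finset.univ.filter fun s : F => s ^ 2 = κ) ∪ Finset.univ.filter fun s : F => s ^ 2 = -κ)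
      have h3 := Finset.card_union_le (Finset.univ.filter fun s : F => s ^ 2 = κ)
        (Finset.univ.filter fun s : F => s ^ 2 = -κ)
      have h4 := hc κ
      have h5 := hc (-κ)
      rw [Finset.card_univ, ← Nat.card_eq_fintype_card]
      omega)
  simp only [Finset.mem_insert, Finset.mem_union, Finset.mem_filter, Finset.mem_univ, true_and, not_or] at hs
  obtain ⟨s0, s1, s2⟩ := hs
  refine ⟨(κ - s ^ 2) / (2 * s), (κ + s ^ 2) / (2 * s), div_ne_zero (sub_ne_zero.2 (Ne.symm s1)) (mul_ne_zero h2 s0),
    div_ne_zero (fun h => s2 (by linear_combination h)) (mul_ne_zero h2 s0), ?_⟩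
  field_simp
  ring

theorem val_big [Finite F] (h : OB Q e) (h5 : 5 ≤ Nat.card F) {k : Fin 8} (h0 : 0 ≠ k) (h1 : 1 ≠ k) (A : F) :
    ∃ c : F, c ≠ 0 ∧ Val Q e k (A + c ^ 2 * Q (e k)) := by
  classical
  have hk := h.ne k
  by_cases h6 : 6 ≤ Nat.card F
  · obtain ⟨c, δ, hc, hδ, hh⟩ := exists_hyper h.two h6 (A / Q (e k))
    have e1 : A + c ^ 2 * Q (e k) = δ ^ 2 * Q (e k) := by rw [hh]; field_simp
    refine ⟨c, hc, by rw [e1]; exact mul_ne_zero (pow_ne_zero 2 hδ) hk, δ • e k,
      by rw [e1, QuadraticMap.map_smul, smul_eq_mul]; ring, mon_one h δ k, fun j _ _ a2 => ?_⟩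
    rw [polar_smul_left, h.orth _ _ a2.symm, smul_zero]
  have := Fintype.ofFinite F
  have hc : Fintype.card F = 5 := by rw [← Nat.card_eq_fintype_card]; omega
  have h2 : ¬ IsSquare (2 : F) := by rw [FiniteField.isSquare_two_iff, hc]; decide
  by_cases hA : A + 1 ^ 2 * Q (e k) = 0
  · refine ⟨2, h.two, val_of_nonsq h h2 h0 h1 fun hB => ?_⟩
    have h3 : ((5 : ℕ) : F) = 0 := by rw [← hc]; exact FiniteField.cast_card_eq_zero F
    push_cast at h3
    apply mul_ne_zero h.two hk
    linear_combination hA - hB + Q (e k) * h3
  · exact ⟨1, one_ne_zero, val_of_nonsq h h2 h0 h1 hA⟩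

theorem coord (h : OB Q e) {M : Gam Q} {σ : F ≃+* F} {m : F} (hM : IsSS Q σ m M.1) {π : Fin 8 → Fin 8}
    {μ : Fin 8 → F} (hπ : ∀ i, M.1 (e i) = μ i • e (π i)) (hinj : Function.Injective π) {x : Fin 8 → F} {l : F}
    (hx : M.1 (vec e x) = l • vec e x) (i : Fin 8) : σ (x i) * μ i = l * x (π i) := by
  have h1 : polar Q (M.1 (vec e x)) (e (π i)) = polar Q (l • vec e x) (e (π i)) := by rw [hx]
  rw [polar_smul_left, h.polar_vec, vec, gam_sum, ← polarBilin_apply_apply, map_sum, LinearMap.sum_apply,
    Finset.sum_eq_single i] at h1
  · rw [polarBilin_apply_apply, hM.smul, hπ, smul_smul, polar_smul_left, smul_eq_mul, smul_eq_mul, ← mul_assoc] at h1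
    exact mul_right_cancel₀ (h.self _) h1
  · intro j _ hj
    rw [polarBilin_apply_apply, hM.smul, hπ, smul_smul, polar_smul_left, h.orth _ _ fun h0 => hj (hinj h0), smul_zero]
  · exact fun h => absurd (Finset.mem_univ i) h

theorem pat : ∀ i j : Fin 8, (![true, true, false, true, true, true, false, false] i =
      ![true, true, false, true, true, true, false, false] j) →
    (![true, true, true, false, true, false, true, false] i = ![true, true, true, false, true, false, true, false] j) →
    (![true, true, true, true, false, false, false, true] i = ![true, true, true, true, false, false, false, true] j) →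
    j = i ∨ (i = 0 ∧ j = 1) ∨ (i = 1 ∧ j = 0) := by decide

theorem scal (h : OB Q e) (h8 : finrank F V = 8) {g c₁ c₂ c₃ : F} (g0 : g ≠ 0) (g1 : g ≠ 1)
    (hg : ∀ σ : F ≃+* F, σ g = g → ∀ a, σ a = a) (n1 : c₁ ≠ 0) (n2 : c₂ ≠ 0) (n3 : c₃ ≠ 0) {M : Gam Q} (hM : Mon e M)
    (f1 : Fix M (vec e ![1, 1, 0, 1, 1, c₁, 0, 0])) (f2 : Fix M (vec e ![1, g, 1, 0, 1, 0, c₂, 0]))
    (f3 : Fix M (vec e ![1, 1, 1, 1, 0, 0, 0, c₃])) : IsScal M := by
  choose π μ hπ using hM
  obtain ⟨σ, m, hs⟩ := M.2
  have hμ : ∀ i, μ i ≠ 0 := fun i h0 => gam_ne M (h.ne0 i) (by rw [hπ, h0, zero_smul])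
  have hinj : Function.Injective π := by
    intro i j hij
    by_contra hne
    have h1 := gam_perp M (h.orth i j hne)
    rw [hπ, hπ, hij, polar_smul_left, polar_smul_right, smul_eq_mul, smul_eq_mul] at h1
    exact mul_ne_zero (hμ i) (mul_ne_zero (hμ j) (h.self _)) h1
  obtain ⟨l₁, f1⟩ := f1
  obtain ⟨l₂, f2⟩ := f2
  obtain ⟨l₃, f3⟩ := f3
  have k1 := coord h hs hπ hinj f1
  have k2 := coord h hs hπ hinj f2
  have k3 := coord h hs hπ hinj f3
  have key : ∀ (x : Fin 8 → F) (p : Fin 8 → Bool) (l : F), x 0 ≠ 0 → (∀ i, p i = true ↔ x i ≠ 0) →
      (∀ i, σ (x i) * μ i = l * x (π i)) → ∀ i, p i = p (π i) := by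
    intro x p l x0 hp k i
    have hl : l ≠ 0 := by
      rintro rfl
      exact mul_ne_zero ((map_ne_zero σ).2 x0) (hμ 0) (by rw [k 0, zero_mul])
    rw [Bool.eq_iff_iff, hp, hp, not_iff_not]
    constructor
    · intro h0
      have := k i
      rw [h0, map_zero, zero_mul] at this
      exact (mul_eq_zero.1 this.symm).resolve_left hl
    · intro h0
      have := k i
      rw [h0, mul_zero] at this
      exact (map_eq_zero σ).1 ((mul_eq_zero.1 this).resolve_right (hμ i))
  have hp : ∀ i, π i = i ∨ (i = 0 ∧ π i = 1) ∨ (i = 1 ∧ π i = 0) := fun i =>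
    pat i (π i) (key _ _ _ (by simp) (fun i => by (revert i; simp only [n1, _root_.Fin.forall_fin_succ, _root_.Nat.succ_eq_add_one, Nat.reduceAdd, _root_.ne_eq, Fin.isValue, _root_.Matrix.cons_val_zero, _root_.one_ne_zero, _root_.not_false_eq_true, _root_.Matrix.cons_val_succ, _root_.Bool.false_eq_true, _root_.not_true_eq_false, _root_.Matrix.cons_val_fin_one, _root_.implies_true, _root_.and_self])) k1 i)
      (key _ _ _ (by simp) (fun i => by (revert i; simp only [n2, g0, _root_.Fin.forall_fin_succ, _root_.Nat.succ_eq_add_one, Nat.reduceAdd, _root_.ne_eq, Fin.isValue, _root_.Matrix.cons_val_zero, _root_.one_ne_zero, _root_.not_false_eq_true, _root_.Matrix.cons_val_succ, _root_.Bool.false_eq_true, _root_.not_true_eq_false, _root_.Matrix.cons_val_fin_one, _root_.implies_true, _root_.and_self])) k2 i)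
      (key _ _ _ (by simp) (fun i => by (revert i; simp only [n3, _root_.Fin.forall_fin_succ, _root_.Nat.succ_eq_add_one, Nat.reduceAdd, _root_.ne_eq, Fin.isValue, _root_.Matrix.cons_val_zero, _root_.one_ne_zero, _root_.not_false_eq_true, _root_.Matrix.cons_val_succ, _root_.Bool.false_eq_true, _root_.not_true_eq_false, _root_.Matrix.cons_val_fin_one, _root_.implies_true, _root_.and_self])) k3 i)
  have p2 : π 2 = 2 := by simpa using hp 2
  have p3 : π 3 = 3 := by simpa using hp 3
  have p4 : π 4 = 4 := by simpa using hp 4
  have p5 : π 5 = 5 := by simpa using hp 5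
  have p6 : π 6 = 6 := by simpa using hp 6
  have p7 : π 7 = 7 := by simpa using hp 7
  have m3 : μ 3 = l₁ := by simpa [p3] using k1 3
  have m4 : μ 4 = l₁ := by simpa [p4] using k1 4
  have m4' : μ 4 = l₂ := by simpa [p4] using k2 4
  have m2 : μ 2 = l₂ := by simpa [p2] using k2 2
  have m2' : μ 2 = l₃ := by simpa [p2] using k3 2
  have e2 : l₂ = l₁ := m4'.symm.trans m4
  have e3 : l₃ = l₁ := m2'.symm.trans (m2.trans e2)
  subst e3
  subst e2
  have hl : l₂ ≠ 0 := m3 ▸ hμ 3
  have p1 : π 1 = 1 := by
    rcases hp 1 with h1 | h1 | h1
    · exact h1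
    · exact absurd h1.1 (by decide)
    · exfalso
      have a1 : μ 1 = l₂ := by simpa [h1.2] using k1 1
      have a2 : σ g * μ 1 = l₂ := by simpa [h1.2] using k2 1
      rw [a1] at a2
      apply g1
      apply σ.injective
      rw [map_one]
      exact mul_right_cancel₀ hl (by rw [a2, one_mul])
  have p0 : π 0 = 0 := by
    rcases hp 0 with h1 | h1 | h1
    · exact h1
    · exact absurd (hinj (h1.2.trans p1.symm)) (by decide)
    · exact absurd h1.1 (by decide)
  have m0 : μ 0 = l₂ := by simpa [p0] using k1 0
  have m1 : μ 1 = l₂ := by simpa [p1] using k1 1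
  have hσ : ∀ a, σ a = a := by
    apply hg
    have a2 : σ g * μ 1 = l₂ * g := by simpa [p1] using k2 1
    rw [m1, mul_comm] at a2
    exact mul_left_cancel₀ hl a2
  have m5 : μ 5 = l₂ := by
    have a : σ c₁ * μ 5 = l₂ * c₁ := by simpa [p5] using k1 5
    rw [hσ, mul_comm] at a
    exact mul_right_cancel₀ n1 a
  have m6 : μ 6 = l₂ := by
    have a : σ c₂ * μ 6 = l₂ * c₂ := by simpa [p6] using k2 6
    rw [hσ, mul_comm] at a
    exact mul_right_cancel₀ n2 a
  have m7 : μ 7 = l₂ := by
    have a : σ c₃ * μ 7 = l₂ * c₃ := by simpa [p7] using k3 7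
    rw [hσ, mul_comm] at a
    exact mul_right_cancel₀ n3 a
  have hlin : ∀ (a : F) (x : V), M.1 (a • x) = a • M.1 x := fun a x => by rw [hs.smul, hσ]
  refine ⟨l₂, fun x => ?_⟩
  have h1 : Submodule.span F (Set.range e) ≤ eigS M hlin l₂ := by
    rw [Submodule.span_le]
    rintro _ ⟨i, rfl⟩
    show M.1 (e i) = l₂ • e i
    rw [hπ]
    fin_cases i
    · show μ 0 • e (π 0) = _; rw [m0, p0]; rfl
    · show μ 1 • e (π 1) = _; rw [m1, p1]; rfl
    · show μ 2 • e (π 2) = _; rw [m2, p2]; rfl
    · show μ 3 • e (π 3) = _; rw [m3, p3]; rfl
    · show μ 4 • e (π 4) = _; rw [m4, p4]; rfl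
    · show μ 5 • e (π 5) = _; rw [m5, p5]; rfl
    · show μ 6 • e (π 6) = _; rw [m6, p6]; rfl
    · show μ 7 • e (π 7) = _; rw [m7, p7]; rfl
  exact h1 (by rw [h.span h8]; trivial)

theorem core [Finite F] (h : OB Q e) (h8 : finrank F V = 8) {L : Subgroup (Gam Q)} (hL : ∀ M ∈ L, Mon e M)
    (hy : ∀ i j, i ≠ j → ∀ c : F, Q (c • e j) = Q (e i) → rr Q (e i) * rr Q (c • e j) ∈ L)
    {g c₁ c₂ c₃ : F} (g0 : g ≠ 0) (g1 : g ≠ 1)
    (hg : ∀ σ : F ≃+* F, σ g = g → ∀ a, σ a = a) (n1 : c₁ ≠ 0) (n2 : c₂ ≠ 0) (n3 : c₃ ≠ 0)
    (v1 : Val Q e 5 (Q (e 0) + Q (e 1) + Q (e 3) + Q (e 4) + c₁ ^ 2 * Q (e 5)))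
    (v2 : Val Q e 6 (Q (e 0) + g ^ 2 * Q (e 1) + Q (e 2) + Q (e 4) + c₂ ^ 2 * Q (e 6)))
    (v3 : Val Q e 7 (Q (e 0) + Q (e 1) + Q (e 2) + Q (e 3) + c₃ ^ 2 * Q (e 7))) : Kill3 L := by
  have q1 : Q (vec e ![1, 1, 0, 1, 1, c₁, 0, 0]) = Q (e 0) + Q (e 1) + Q (e 3) + Q (e 4) + c₁ ^ 2 * Q (e 5) := by
    rw [h.Q_vec, Fin.sum_univ_eight]; simp
  have q2 : Q (vec e ![1, g, 1, 0, 1, 0, c₂, 0]) =
      Q (e 0) + g ^ 2 * Q (e 1) + Q (e 2) + Q (e 4) + c₂ ^ 2 * Q (e 6) := by
    rw [h.Q_vec, Fin.sum_univ_eight]; simp
  have q3 : Q (vec e ![1, 1, 1, 1, 0, 0, 0, c₃]) = Q (e 0) + Q (e 1) + Q (e 2) + Q (e 3) + c₃ ^ 2 * Q (e 7) := by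
    rw [h.Q_vec, Fin.sum_univ_eight]; simp
  rw [← q1] at v1
  rw [← q2] at v2
  rw [← q3] at v3
  obtain ⟨a1, u₁, b1, d1, z1⟩ := v1
  obtain ⟨a2, u₂, b2, d2, -⟩ := v2
  obtain ⟨a3, u₃, b3, d3, -⟩ := v3
  obtain ⟨s, hs, t, ht, hst, c, hc⟩ := pair_three h (i := 2) (j := 6) (k := 7) (by decide) (by decide) (by decide)
  have hc' : Q (c • e t) = Q (e s) := by rw [QuadraticMap.map_smul, ← hc, smul_eq_mul]; ring
  have zv : ∀ r ∈ ({2, 6, 7} : Finset (Fin 8)), polar Q (vec e ![1, 1, 0, 1, 1, c₁, 0, 0]) (e r) = 0 := by
    intro r hr
    rw [h.polar_vec]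
    simp only [Finset.mem_insert, Finset.mem_singleton] at hr
    rcases hr with rfl | rfl | rfl <;> simp
  have zu : ∀ r ∈ ({2, 6, 7} : Finset (Fin 8)), polar Q u₁ (e r) = 0 := by
    intro r hr
    simp only [Finset.mem_insert, Finset.mem_singleton] at hr
    rcases hr with rfl | rfl | rfl <;> exact z1 _ (by decide) (by decide) (by decide)
  have F1 := @fix_lines _ _ _ _ _ _ _ h L hL _ _ a1 d1 {0, 1, 3, 4, 5} (by decide) (fun j hj => by
    simp only [Finset.mem_insert, Finset.mem_singleton] at hj
    rcases hj with rfl | rfl | rfl | rfl | rfl <;> simp [n1])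
  have F2 := @fix_lines _ _ _ _ _ _ _ h L hL _ _ a2 d2 {0, 1, 2, 4, 6} (by decide) (fun j hj => by
    simp only [Finset.mem_insert, Finset.mem_singleton] at hj
    rcases hj with rfl | rfl | rfl | rfl | rfl <;> simp [n2, g0])
  have F3 := @fix_lines _ _ _ _ _ _ _ h L hL _ _ a3 d3 {0, 1, 2, 3, 7} (by decide) (fun j hj => by
    simp only [Finset.mem_insert, Finset.mem_singleton] at hj
    rcases hj with rfl | rfl | rfl | rfl | rfl <;> simp [n3])
  refine ⟨_, u₁, _, u₂, _, u₃, e s, c • e t, a1, b1, a2, b2, a3, b3, h.ne s, hc', ?_, hy s t hst c hc', ?_,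
    fun M hM h1 => F1 hM h1, fun M hM h1 h2 h3 =>
      scal h h8 g0 g1 hg n1 n2 n3 (hL M hM) (F1 hM h1) (F2 hM h2) (F3 hM h3)⟩
  · rw [polar_smul_right, h.orth _ _ hst, smul_zero]
    intro h0
    apply mul_ne_zero (mul_ne_zero h.two h.two) (pow_ne_zero 2 (h.ne s))
    linear_combination -h0
  · rw [cjv_comm (zv s hs) (by rw [polar_smul_right, zv t ht, smul_zero]) (zu s hs)
      (by rw [polar_smul_right, zu t ht, smul_zero])]
    exact hy s t hst c hc'

/-- the sign -/
def sgn (b : Bool) : ℤ := if b then 1 else -1

/-- orderings for the field with three elements -/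
def prm : List (Fin 8 → Fin 8) :=
  [![5, 6, 0, 1, 7, 2, 3, 4], ![3, 6, 1, 2, 4, 5, 7, 0], ![4, 7, 1, 2, 5, 6, 0, 3], ![0, 1, 2, 3, 5, 6, 7, 4],
   ![1, 5, 0, 2, 4, 7, 3, 6], ![1, 3, 0, 4, 6, 5, 2, 7], ![3, 7, 2, 4, 5, 0, 1, 6], ![3, 5, 0, 2, 7, 1, 6, 4],
   ![1, 2, 0, 4, 6, 7, 5, 3], ![0, 6, 1, 3, 7, 4, 5, 2], ![5, 7, 0, 1, 4, 3, 6, 2], ![2, 6, 0, 3, 4, 1, 5, 7],
   ![2, 4, 0, 1, 3, 6, 5, 7], ![1, 6, 0, 2, 4, 3, 5, 7], ![2, 5, 0, 3, 4, 6, 1, 7], ![0, 4, 1, 3, 7, 5, 6, 2],
   ![4, 6, 0, 3, 5, 7, 1, 2], ![0, 5, 2, 3, 7, 4, 6, 1], ![0, 3, 1, 4, 6, 5, 2, 7], ![2, 7, 0, 3, 6, 5, 1, 4],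
   ![3, 4, 0, 2, 7, 6, 1, 5], ![1, 4, 0, 2, 3, 5, 7, 6], ![6, 7, 1, 3, 5, 2, 0, 4], ![1, 7, 0, 5, 6, 2, 4, 3],
   ![0, 7, 1, 2, 6, 4, 3, 5], ![0, 2, 3, 6, 7, 1, 5, 4], ![4, 5, 0, 1, 3, 6, 2, 7], ![2, 3, 1, 5, 6, 7, 4, 0]]

theorem prm_inj' : (prm.all fun π => decide (∀ i j, π i = π j → i = j)) = true := by decide +kernel

theorem prm_inj : ∀ π ∈ prm, ∀ i j, π i = π j → i = j := fun π h =>
  of_decide_eq_true (List.all_eq_true.1 prm_inj' π h)

/-- the three rows have non-zero norm -/
def Rows (s : Fin 8 → Bool) (π : Fin 8 → Fin 8) : Prop :=
  ¬ (3 : ℤ) ∣ sgn (s (π 0)) + sgn (s (π 1)) + sgn (s (π 3)) + sgn (s (π 4)) + sgn (s (π 5)) ∧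
  ¬ (3 : ℤ) ∣ sgn (s (π 0)) + sgn (s (π 1)) + sgn (s (π 2)) + sgn (s (π 4)) + sgn (s (π 6)) ∧
  ¬ (3 : ℤ) ∣ sgn (s (π 0)) + sgn (s (π 1)) + sgn (s (π 2)) + sgn (s (π 3)) + sgn (s (π 7))

theorem prm_cover' : ∀ b0 b1 b2 b3 b4 b5 b6 b7 : Bool,
    (∃ i, ∀ j, j ≠ i → ![b0, b1, b2, b3, b4, b5, b6, b7] j = !(![b0, b1, b2, b3, b4, b5, b6, b7] i)) ∨
      ∃ π ∈ prm, Rows ![b0, b1, b2, b3, b4, b5, b6, b7] π := by
  unfold Rows
  decide +kernel

theorem prm_cover (s : Fin 8 → Bool) : (∃ i, ∀ j, j ≠ i → s j = !(s i)) ∨ ∃ π ∈ prm, Rows s π := by
  have h : s = ![s 0, s 1, s 2, s 3, s 4, s 5, s 6, s 7] := by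
    funext i; fin_cases i <;> rfl
  rw [h]
  exact prm_cover' _ _ _ _ _ _ _ _

end GF

open GF in
theorem boxFr : BoxFr := by
  intro F V _ _ _ _ _ Q L e _ h8 h2 hne horth hL hy h3
  classical
  have h : OB Q e := ⟨h2, hne, horth⟩
  have := Fintype.ofFinite F
  have hcard : Nat.card F = 3 ∨ 5 ≤ Nat.card F := by
    have h1 : (Nat.card F : F) = 0 := by rw [Nat.card_eq_fintype_card]; exact FiniteField.cast_card_eq_zero F
    have h4 : 1 < Nat.card F := Finite.one_lt_card
    by_contra hc
    have h5 : Nat.card F = 2 ∨ Nat.card F = 4 := by omega
    rcases h5 with h5 | h5 <;> rw [h5] at h1 <;> push_cast at h1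
    · exact h2 h1
    · exact mul_ne_zero h2 h2 (by linear_combination h1)
  rcases hcard with hc | hc
  · have hc' : Fintype.card F = 3 := by rw [← Nat.card_eq_fintype_card, hc]
    have : Fact (Nat.Prime 3) := ⟨Nat.prime_three⟩
    have hch : CharP F 3 := charP_of_card_eq_prime hc'
    have hd : ∀ i, Q (e i) = ((sgn (decide (Q (e i) = 1)) : ℤ) : F) := fun i => by
      by_cases h1 : Q (e i) = 1
      · simp [sgn, h1]
      · have h4 := FiniteField.pow_card_sub_one_eq_one _ (hne i)
        rw [hc'] at h4
        rcases sq_eq_one_iff.1 h4 with h5 | h5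
        · exact absurd h5 h1
        · rw [decide_eq_false h1, h5]; simp [sgn]
    rcases prm_cover fun i => decide (Q (e i) = 1) with ⟨i, hi⟩ | ⟨π, hπ, r1, r2, r3⟩
    · exfalso
      refine h3 hc ⟨i, fun j hj => ?_⟩
      rw [hd j, hd i, hi j hj]
      cases decide (Q (e i) = 1) <;> simp [sgn]
    have hinj : Function.Injective π := prm_inj π hπ
    have h' : OB Q (e ∘ π) := ⟨h2, fun i => hne _, fun i j hij => horth _ _ fun h0 => hij (hinj h0)⟩
    have hn2 : ¬ IsSquare (2 : F) := by rw [FiniteField.isSquare_two_iff, hc']; decide
    have hz : ∀ n : ℤ, ¬ (3 : ℤ) ∣ n → (n : F) ≠ 0 := fun n hn h0 => hn ((CharP.intCast_eq_zero_iff F 3 n).1 h0)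
    refine core h' h8 (fun M hM i => ?_) (fun i j hij => hy _ _ fun h0 => hij (hinj h0)) (g := -1) (c₁ := 1) (c₂ := 1)
      (c₃ := 1) (neg_ne_zero.2 one_ne_zero) (fun h0 => h2 (by linear_combination -h0))
      (fun σ _ => aut_small hc.le σ) one_ne_zero one_ne_zero one_ne_zero
      (val_of_nonsq h' hn2 (by decide) (by decide) ?_) (val_of_nonsq h' hn2 (by decide) (by decide) ?_)
      (val_of_nonsq h' hn2 (by decide) (by decide) ?_)
    · obtain ⟨j, c, hj⟩ := hL M hM (π i)
      obtain ⟨k, rfl⟩ := Finite.injective_iff_surjective.1 hinj j
      exact ⟨k, c, hj⟩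
    · have := hz _ r1
      push_cast at this
      simp only [← hd] at this
      simpa only [_root_.Fin.isValue, _root_.Function.comp_apply, _root_.one_pow, _root_.one_mul, _root_.ne_eq] using this
    · have := hz _ r2
      push_cast at this
      simp only [← hd] at this
      simpa only [_root_.Fin.isValue, _root_.Function.comp_apply, _root_.even_two, _root_.Even.neg_pow, _root_.one_pow, _root_.one_mul, _root_.ne_eq] using this
    · have := hz _ r3
      push_cast at this
      simp only [← hd] at this
      simpa only [_root_.Fin.isValue, _root_.Function.comp_apply, _root_.one_pow, _root_.one_mul, _root_.ne_eq] using this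
  · obtain ⟨g, hg⟩ := IsCyclic.exists_generator (α := Fˣ)
    have hg' : ∀ σ : F ≃+* F, σ g = g → ∀ a, σ a = a := fun σ hσ a => by
      by_cases ha : a = 0
      · rw [ha, map_zero]
      · obtain ⟨k, hk⟩ := Subgroup.mem_zpowers_iff.1 (hg (Units.mk0 a ha))
        have h4 : a = (g : F) ^ k := by
          have := congrArg Units.val hk
          rw [Units.val_zpow_eq_zpow_val] at this
          exact this.symm
        rw [h4, map_zpow₀, hσ]
    have g1 : (g : F) ≠ 1 := by
      intro h1
      obtain ⟨k, hk⟩ := Subgroup.mem_zpowers_iff.1 (hg (-1))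
      have h4 := congrArg Units.val hk
      rw [Units.val_zpow_eq_zpow_val, h1, one_zpow, Units.val_neg, Units.val_one] at h4
      exact h2 (by linear_combination h4)
    obtain ⟨c₁, n1, v1⟩ := val_big h hc (k := 5) (by decide) (by decide) (Q (e 0) + Q (e 1) + Q (e 3) + Q (e 4))
    obtain ⟨c₂, n2, v2⟩ := val_big h hc (k := 6) (by decide) (by decide)
      (Q (e 0) + (g : F) ^ 2 * Q (e 1) + Q (e 2) + Q (e 4))
    obtain ⟨c₃, n3, v3⟩ := val_big h hc (k := 7) (by decide) (by decide) (Q (e 0) + Q (e 1) + Q (e 2) + Q (e 3))
    exact core h h8 hL hy g.ne_zero g1 hg' n1 n2 n3 v1 v2 v3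

end Cfsg.Agent.SB.D4

private theorem dce_01b2092e79ad : _root_.True := by
  try have : _root_.True := by simp only [_root_.Cfsg.Agent.SB.D4.GF.sgn.eq_1]
  try have : _root_.True := by simp only [_root_.Cfsg.Agent.SB.D4.GF.vec.eq_1]
  exact _root_.True.intro
end

-- part: SB/D4/Blk
section
prune_inst 0x20602044404002000018000400000040400001820040000028c00f440b09a0488001000116100512089280c04008000810100000004000000400040000000020808012041040a00886000f010000000000000000000000000000000000000000000000000
set_option linter.all false
open scoped Cfsg.Agent.FastGrp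

/-!
# S5765, `PΩ₈⁺(q)`: blocks of an abelian group of isometries (helper97)
-/

set_option autoImplicit false
set_option linter.unusedSectionVars false

namespace Cfsg.Agent.SB.D4

open QuadraticMap Module Polynomial Cfsg.Agent.LieClassical.OrthCore Cfsg.Agent.LieClassical.OrthTrans
  Cfsg.Agent.ClassicalGeometry.OrthSemi

variable {F V : Type} [Field F] [AddCommGroup V] [Module F V] {Q : QuadraticForm F V}

variable (Q) in
/-- non-degenerate subspaces -/
def Nd (W : Submodule F V) : Prop := ∀ x ∈ W, (∀ y ∈ W, polar Q x y = 0) → x = 0

section dec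

variable {ι : Type} {P : ι → Submodule F V}

theorem Dec.perp (hQ : Nondeg Q) (h : Dec Q P) {x : V} (hx : ∀ i, ∀ y ∈ P i, polar Q x y = 0) : x = 0 := by
  refine hQ x fun y => ?_
  have h1 : ⨆ i, P i ≤ LinearMap.ker (polarBilin Q x) := iSup_le fun i y hy => hx i y hy
  exact h1 (h.span ▸ Submodule.mem_top)

theorem Dec.nd (hQ : Nondeg Q) (h : Dec Q P) (i : ι) : Nd Q (P i) := fun x hx h1 =>
  h.perp hQ fun j y hy => by
    by_cases hij : i = j
    · exact h1 y (hij ▸ hy)
    · exact h.orth i j hij x hx y hy

theorem Dec.indep (hQ : Nondeg Q) (h : Dec Q P) : iSupIndep P := by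
  intro i
  rw [Submodule.disjoint_def]
  intro x hx hx'
  refine h.nd hQ i x hx fun y hy => ?_
  have h1 : ⨆ j, ⨆ (_ : j ≠ i), P j ≤ LinearMap.ker (polarBilin Q y) :=
    iSup_le fun j => iSup_le fun hj z hz => h.orth i j hj.symm y hy z hz
  rw [polar_comm]
  exact h1 hx'

theorem finrank_iSup_le [Fintype ι] [FiniteDimensional F V] (P : ι → Submodule F V) :
    finrank F ↥(⨆ i, P i) ≤ ∑ i, finrank F (P i) := by
  classical
  have h : ∀ s : Finset ι, finrank F ↥(⨆ i ∈ s, P i) ≤ ∑ i ∈ s, finrank F (P i) := by
    intro s
    induction s using Finset.induction_on with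
    | empty => simp only [_root_.Finset.sum_empty, _root_.nonpos_iff_eq_zero, _root_.Submodule.finrank_eq_zero, _root_.Finset.notMem_empty, _root_.not_false_eq_true, _root_.iSup_neg, _root_.iSup_bot]
    | insert i s hi ih =>
      rw [Finset.iSup_insert, Finset.sum_insert hi]
      exact (Submodule.finrank_add_le_finrank_add_finrank _ _).trans (by omega)
  have h1 := h Finset.univ
  have h2 : ⨆ i ∈ (Finset.univ : Finset ι), P i = ⨆ i, P i := by simp only [_root_.Finset.mem_univ, _root_.iSup_pos]
  rwa [h2] at h1

theorem Dec.sum_finrank [Fintype ι] [FiniteDimensional F V] (hQ : Nondeg Q) (h : Dec Q P) :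
    ∑ i, finrank F (P i) = finrank F V := by
  classical
  have h1 := DirectSum.isInternal_submodule_of_iSupIndep_of_iSup_eq_top (h.indep hQ) h.span
  rw [← (LinearEquiv.ofBijective (DirectSum.coeLinearMap P) h1).finrank_eq, Module.finrank_directSum]

theorem Dec.reindex {κ : Type} (h : Dec Q P) (f : κ → ι) (hf : Function.Injective f)
    (hs : ∀ i, P i ≠ ⊥ → ∃ k, f k = i) : Dec Q (P ∘ f) := by
  refine ⟨fun i j hij => h.orth _ _ fun e => hij (hf e), ?_⟩
  rw [eq_top_iff, ← h.span]
  refine iSup_le fun i => ?_
  by_cases h0 : P i = ⊥
  · rw [h0]; exact bot_le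
  · obtain ⟨k, rfl⟩ := hs i h0
    exact le_iSup (P ∘ f) k

theorem Prm.reindex {κ : Type} {L : Subgroup (Gam Q)} (h : Prm L P) (f : κ → ι)
    (hs : ∀ i, P i ≠ ⊥ → ∃ k, f k = i) : Prm L (P ∘ f) := by
  intro M hM k
  obtain ⟨j, hj⟩ := h M hM (f k)
  by_cases h0 : P j = ⊥
  · refine ⟨k, fun x hx => ?_⟩
    have h1 := hj x hx
    rw [h0, Submodule.mem_bot] at h1
    rw [h1]
    exact zero_mem _
  · obtain ⟨k', rfl⟩ := hs j h0
    exact ⟨k', hj⟩

end dec

theorem Nd.exists_nonsing {W : Submodule F V} (h : Nd Q W) (h0 : W ≠ ⊥) : ∃ a ∈ W, Q a ≠ 0 := by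
  by_contra hc
  push Not at hc
  obtain ⟨x, hx, hx0⟩ := (Submodule.ne_bot_iff W).1 h0
  refine hx0 (h x hx fun y hy => ?_)
  have h1 := Q_add (Q := Q) x y
  rw [hc _ (add_mem hx hy), hc x hx, hc y hy] at h1
  simpa using h1.symm

/-- a totally singular subspace of a non-degenerate space has at most half the dimension -/
theorem Nd.two_mul_le [FiniteDimensional F V] {W U : Submodule F V} (h : Nd Q W) (hU : U ≤ W)
    (hs : ∀ x ∈ U, ∀ y ∈ U, polar Q x y = 0) : 2 * finrank F U ≤ finrank F W := by
  let f : W →ₗ[F] Module.Dual F U := (polarBilin Q).compl₁₂ W.subtype U.subtype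
  have h1 : Function.Injective f.flip := by
    rw [← LinearMap.ker_eq_bot, eq_bot_iff]
    intro u hu
    refine Subtype.ext (h u (hU u.2) fun y hy => ?_)
    rw [polar_comm]
    exact LinearMap.congr_fun hu ⟨y, hy⟩
  have h2 : Function.Surjective f := LinearMap.flip_injective_iff₁.1 h1
  have h3 := f.finrank_range_add_finrank_ker
  rw [LinearMap.range_eq_top.2 h2, finrank_top, Subspace.dual_finrank_eq] at h3
  have h4 : U.comap W.subtype ≤ LinearMap.ker f := fun u hu => LinearMap.ext fun y => hs u hu y y.2
  have h5 := Submodule.finrank_mono h4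
  rw [(Submodule.comapSubtypeEquivOfLe hU).finrank_eq] at h5
  omega

/-- parity -/
theorem Nd.even [FiniteDimensional F V] {W : Submodule F V} (h : Nd Q W) {s : V →ₗ[F] V} (hs : ∀ x ∈ W, s x ∈ W)
    (halt : ∀ x ∈ W, polar Q x (s x) = 0) (hinj : ∀ x ∈ W, s x = 0 → x = 0) : Even (finrank F W) := by
  let s' : W →ₗ[F] W := s.restrict hs
  have h1 : Function.Injective s' := by
    rw [← LinearMap.ker_eq_bot, eq_bot_iff]
    exact fun u hu => Subtype.ext (hinj u u.2 (congrArg Subtype.val hu))
  have h2 := LinearMap.surjective_of_injective h1
  refine H953.even_finrank_of_alt ((polarBilin Q).compl₁₂ W.subtype (W.subtype ∘ₗ s')) (fun x => halt x x.2)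
    fun u hu => Subtype.ext (h u u.2 fun y hy => ?_)
  obtain ⟨z, hz⟩ := h2 ⟨y, hy⟩
  have h3 : polar Q u (s' z : V) = 0 := hu z
  rwa [hz] at h3

/-! ### semilinear images -/

/-- the image of a subspace under a semisimilitude -/
def gmap (M : Gam Q) (U : Submodule F V) : Submodule F V where
  carrier := {v | M⁻¹.1 v ∈ U}
  add_mem' := fun {a b} ha hb => by
    show M⁻¹.1 (a + b) ∈ U
    rw [add_of_mem M⁻¹.2]
    exact add_mem ha hb
  zero_mem' := by
    obtain ⟨σ, c, h⟩ := M⁻¹.2
    show M⁻¹.1 0 ∈ U
    rw [h.map_zero]
    exact zero_mem _
  smul_mem' := fun a v hv => by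
    obtain ⟨σ, c, h⟩ := M⁻¹.2
    show M⁻¹.1 (a • v) ∈ U
    rw [h.smul]
    exact U.smul_mem _ hv

theorem mem_gmap {M : Gam Q} {U : Submodule F V} {v : V} : v ∈ gmap M U ↔ M⁻¹.1 v ∈ U := Iff.rfl

theorem apply_mem_gmap {M : Gam Q} {U : Submodule F V} {v : V} : M.1 v ∈ gmap M U ↔ v ∈ U := by
  rw [mem_gmap]
  exact Iff.of_eq (congrArg (· ∈ U) (_root_.Cfsg.Agent.ClassicalGeometry.OrthSemi.inv_apply M.1 v))

theorem finrank_le_of_maps [Finite F] [Finite V] (M : Gam Q) {U W : Submodule F V} (h : ∀ x ∈ U, M.1 x ∈ W) :
    finrank F U ≤ finrank F W := by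
  have h1 : Nat.card U ≤ Nat.card W :=
    Nat.card_le_card_of_injective (fun x : U => (⟨M.1 x, h x x.2⟩ : W)) fun x y e =>
      Subtype.ext (M.1.injective (congrArg Subtype.val e))
  rw [Module.natCard_eq_pow_finrank (K := F) (V := U), Module.natCard_eq_pow_finrank (K := F) (V := W)] at h1
  exact (Nat.pow_le_pow_iff_right Finite.one_lt_card).1 h1

theorem finrank_gmap [Finite F] [Finite V] (M : Gam Q) (U : Submodule F V) : finrank F (gmap M U) = finrank F U :=
  le_antisymm (finrank_le_of_maps M⁻¹ fun _ hx => hx) (finrank_le_of_maps M fun _ hx => apply_mem_gmap.2 hx)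

/-! ### blocks -/

theorem sum_proj [Fintype F] : ∑ c : F, (1 - (X - C c) ^ (Fintype.card F - 1) : F[X]) = 1 := by
  classical
  have hq : 1 < Fintype.card F := Fintype.one_lt_card
  rw [← sub_eq_zero]
  refine Polynomial.eq_zero_of_natDegree_lt_card_of_eval_eq_zero _ (f := fun c : F => c) (fun _ _ h => h) (fun d => ?_) ?_
  · rw [eval_sub, eval_finsetSum, eval_one, Finset.sum_eq_single d]
    · simp only [show Fintype.card F - 1 ≠ 0 by omega, _root_.Polynomial.eval_sub, _root_.Polynomial.eval_one, _root_.Polynomial.eval_pow, _root_.Polynomial.eval_X, _root_.Polynomial.eval_C, _root_.sub_self, _root_.ne_eq, _root_.not_false_eq_true, _root_.zero_pow, _root_.sub_zero]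
    · intro c _ hc
      simp only [FiniteField.pow_card_sub_one_eq_one (d - c) (sub_ne_zero.2 hc.symm), _root_.Polynomial.eval_sub, _root_.Polynomial.eval_one, _root_.Polynomial.eval_pow, _root_.Polynomial.eval_X, _root_.Polynomial.eval_C, _root_.sub_self]
    · simp only [_root_.Finset.mem_univ, _root_.not_true_eq_false, _root_.Polynomial.eval_sub, _root_.Polynomial.eval_one, _root_.Polynomial.eval_pow, _root_.Polynomial.eval_X, _root_.Polynomial.eval_C, _root_.sub_self, _root_.IsEmpty.forall_iff]
  · refine lt_of_le_of_lt (b := Fintype.card F - 1) ?_ (by omega)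
    refine (natDegree_sub_le _ _).trans (max_le ?_ (by simp))
    refine natDegree_sum_le_of_forall_le _ _ fun c _ => (natDegree_sub_le _ _).trans (max_le (by simp) ?_)
    exact natDegree_pow_le.trans (by simp)

theorem mul_proj [Fintype F] (c : F) :
    (X - C c) * (1 - (X - C c) ^ (Fintype.card F - 1) : F[X]) = X - X ^ Fintype.card F := by
  have hq : 1 < Fintype.card F := Fintype.one_lt_card
  obtain ⟨p, hp⟩ := CharP.exists F
  have hp' : Fact p.Prime := ⟨CharP.char_is_prime F p⟩
  obtain ⟨n, -, hn⟩ := FiniteField.card F p
  rw [mul_sub, mul_one, ← pow_succ', Nat.sub_add_cancel hq.le]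
  have h1 : (X - C c : F[X]) ^ Fintype.card F = X ^ Fintype.card F - C c := by
    rw [hn, sub_pow_char_pow, ← map_pow, ← hn, FiniteField.pow_card]
  rw [h1]
  ring

theorem aeval_mem {y : Module.End F V} {U : Submodule F V} (hU : ∀ v ∈ U, y v ∈ U) (f : F[X]) {v : V} (hv : v ∈ U) :
    aeval y f v ∈ U := by
  induction f using Polynomial.induction_on' with
  | add p q hp hq => rw [map_add]; exact add_mem hp hq
  | monomial n a =>
    rw [aeval_monomial, Module.End.mul_apply, Module.algebraMap_end_apply]
    refine U.smul_mem _ ?_
    induction n with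
    | zero => exact hv
    | succ n ih => rw [pow_succ', Module.End.mul_apply]; exact hU _ ih

theorem le_iSup_eig [Fintype F] {y : Module.End F V} (hy : y ^ Fintype.card F = y) {U : Submodule F V}
    (hU : ∀ v ∈ U, y v ∈ U) : U ≤ ⨆ c : F, U ⊓ LinearMap.ker (y - c • 1) := by
  intro v hv
  have h1 : v = ∑ c : F, aeval y (1 - (X - C c) ^ (Fintype.card F - 1) : F[X]) v := by
    rw [← LinearMap.sum_apply, ← map_sum, sum_proj, map_one, Module.End.one_apply]
  rw [h1]
  refine Submodule.sum_mem_iSup fun c => ⟨aeval_mem hU _ hv, ?_⟩
  have h2 := congrArg (aeval y) (mul_proj c)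
  have h3 : aeval y (X - X ^ Fintype.card F : F[X]) = 0 := by simp [hy]
  rw [h3, map_mul, map_sub (aeval y) X (C c), aeval_X, aeval_C, Algebra.algebraMap_eq_smul_one] at h2
  exact LinearMap.congr_fun h2 v

/-- `a + a⁻¹` -/
def sym (a : V ≃ₗ[F] V) : Module.End F V := a.toLinearMap + (a⁻¹ : V ≃ₗ[F] V).toLinearMap

theorem sym_apply (a : V ≃ₗ[F] V) (v : V) : sym a v = a v + a⁻¹ v := rfl

/-- the joint eigenspaces of the maps `a + a⁻¹` -/
def Bl (X : Subgroup (V ≃ₗ[F] V)) (θ : X → F) : Submodule F V :=
  ⨅ a : X, LinearMap.ker (sym a.1 - θ a • (1 : Module.End F V))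

theorem mem_Bl {X : Subgroup (V ≃ₗ[F] V)} {θ : X → F} {v : V} :
    v ∈ Bl X θ ↔ ∀ a : X, a.1 v + a.1⁻¹ v = θ a • v := by
  simp only [Bl, Submodule.mem_iInf, LinearMap.mem_ker, LinearMap.sub_apply, sub_eq_zero]
  rfl

section blocks

variable {X : Subgroup (V ≃ₗ[F] V)}

theorem comm_apply (hc : ∀ a ∈ X, ∀ b ∈ X, a * b = b * a) {a b : V ≃ₗ[F] V} (ha : a ∈ X) (hb : b ∈ X) (v : V) :
    a (b v) = b (a v) := LinearEquiv.congr_fun (hc a ha b hb) v

theorem Bl_inv (hc : ∀ a ∈ X, ∀ b ∈ X, a * b = b * a) (θ : X → F) {b : V ≃ₗ[F] V} (hb : b ∈ X) {v : V}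
    (hv : v ∈ Bl X θ) : b v ∈ Bl X θ := by
  rw [mem_Bl] at hv ⊢
  intro a
  rw [comm_apply hc a.2 hb, comm_apply hc (inv_mem a.2) hb, ← map_add, hv, map_smul]

theorem le_iSup_Bl [Fintype F] [Finite X] (hc : ∀ a ∈ X, ∀ b ∈ X, a * b = b * a)
    (hq : ∀ a ∈ X, sym a ^ Fintype.card F = sym a)
    {U : Submodule F V} (hU : ∀ a ∈ X, ∀ v ∈ U, a v ∈ U) : U ≤ ⨆ θ, U ⊓ Bl X θ := by
  classical
  have := Fintype.ofFinite X
  have h : ∀ s : Finset X, U ≤ ⨆ θ : X → F, U ⊓ ⨅ a ∈ s,
      LinearMap.ker (sym a.1 - θ a • (1 : Module.End F V)) := by
    intro s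
    induction s using Finset.induction_on with
    | empty => exact le_iSup_of_le 0 (by simp only [_root_.Finset.notMem_empty, _root_.Pi.zero_apply, _root_.zero_smul, _root_.sub_zero, _root_.not_false_eq_true, _root_.iInf_neg, _root_.iInf_top, _root_.le_top, _root_.inf_of_le_left, _root_.Std.le_refl])
    | insert b s hb ih =>
      refine ih.trans (iSup_le fun θ => (le_iSup_eig (hq b b.2) ?_).trans (iSup_le fun c => ?_))
      · rintro v ⟨hv, hv'⟩
        refine ⟨add_mem (hU _ b.2 v hv) (hU _ (inv_mem b.2) v hv), ?_⟩
        simp only [SetLike.mem_coe, Submodule.mem_iInf, LinearMap.mem_ker, LinearMap.sub_apply, sym_apply,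
          sub_eq_zero, LinearMap.smul_apply, Module.End.one_apply] at hv' ⊢
        intro a ha
        rw [map_add, map_add, comm_apply hc a.2 b.2, comm_apply hc a.2 (inv_mem b.2), comm_apply hc (inv_mem a.2) b.2,
          comm_apply hc (inv_mem a.2) (inv_mem b.2), add_add_add_comm, ← map_add, ← map_add, hv' a ha, map_smul,
          map_smul, smul_add]
      · refine le_iSup_of_le (Function.update θ b c) ?_
        rintro v ⟨⟨hv, hv'⟩, hv''⟩
        refine ⟨hv, ?_⟩
        simp only [SetLike.mem_coe, Submodule.mem_iInf] at hv' ⊢
        intro a ha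
        rcases Finset.mem_insert.1 ha with rfl | ha'
        · rwa [Function.update_self]
        · rw [Function.update_of_ne (by rintro rfl; exact hb ha')]
          exact hv' a ha'
  simpa only [Bl, _root_.ge_iff_le, _root_.Finset.mem_univ, _root_.iInf_pos] using h Finset.univ

theorem polar_inv {a : V ≃ₗ[F] V} (ha : a ∈ O Q) (x y : V) : polar Q (a x) y = polar Q x (a⁻¹ y) := by
  conv_lhs => rw [← a.apply_symm_apply y, polar_map ha]
  rfl

theorem dec_Bl [Fintype F] [Finite X] (hO : X ≤ O Q) (hc : ∀ a ∈ X, ∀ b ∈ X, a * b = b * a)
    (hq : ∀ a ∈ X, sym a ^ Fintype.card F = sym a) :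
    Dec Q (Bl X) := by
  refine ⟨fun θ θ' h x hx y hy => ?_, ?_⟩
  · obtain ⟨a, ha⟩ := Function.ne_iff.1 h
    have h1 := congrArg (fun z => polar Q z y) (mem_Bl.1 hx a)
    have h2 := congrArg (fun z => polar Q x z) (mem_Bl.1 hy a)
    simp only [polar_add_left, polar_add_right, polar_smul_left, polar_smul_right, smul_eq_mul] at h1 h2
    rw [polar_inv (hO a.2), polar_inv (hO (inv_mem a.2)), inv_inv, add_comm, h2] at h1
    exact (mul_eq_zero.1 (show (θ a - θ' a) * polar Q x y = 0 by linear_combination -h1)).resolve_left (sub_ne_zero.2 ha)
  · rw [eq_top_iff]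
    exact (le_iSup_Bl hc hq (U := ⊤) fun _ _ _ _ => Submodule.mem_top).trans (iSup_mono fun _ => inf_le_right)

theorem conjLin_inv_left (M : Gam Q) (a : V ≃ₗ[F] V) : conjLin M (conjLin M⁻¹ a) = a := by
  rw [← conjLin_mul_left, mul_inv_cancel, conjLin_one_left]

theorem prm_Bl {L : Subgroup (Gam Q)} (hL : ∀ M ∈ L, ∀ a ∈ X, conjLin M a ∈ X) : Prm L (Bl X) := by
  intro M hM θ
  obtain ⟨σ, c, h⟩ := M.2
  refine ⟨fun a => σ (θ ⟨_, hL M⁻¹ (inv_mem hM) a a.2⟩), fun x hx => mem_Bl.2 fun a => ?_⟩
  rw [← h.smul, ← mem_Bl.1 hx, h.add, ← conjLin_apply', ← conjLin_apply', conjLin_inv, conjLin_inv_left]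

theorem finrank_le_sum [Fintype F] [Fintype X] [DecidableEq X] [FiniteDimensional F V]
    (hc : ∀ a ∈ X, ∀ b ∈ X, a * b = b * a)
    (hq : ∀ a ∈ X, sym a ^ Fintype.card F = sym a)
    {U : Submodule F V} (hU : ∀ a ∈ X, ∀ v ∈ U, a v ∈ U) : finrank F U ≤ ∑ θ, finrank F ↥(U ⊓ Bl X θ) :=
  (Submodule.finrank_mono (le_iSup_Bl hc hq hU)).trans (finrank_iSup_le _)

end blocks

end Cfsg.Agent.SB.D4

private theorem dce_5199af1d76fb : _root_.True := by
  try have : _root_.True := by simp only [_root_.Cfsg.Agent.SB.D4.Bl.eq_1]
  exact _root_.True.intro
end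

-- part: SB/Mon/F24/Mod
section
set_option linter.all false
open scoped Cfsg.Agent.FastGrp

/-!
# S5765, the row `Fi24'`: the linear model of `C(z) = Q : S`, `Q / ⟨z⟩ = F₃¹⁰` (helper96)

`Mod` : the data; `Rep g A` : the packed matrix `A` describes the action of `g ∈ S` on `Q / ⟨z⟩`.
-/

set_option autoImplicit false
set_option maxRecDepth 100000

namespace Cfsg.Agent.SB.F24.Md

open Subgroup
open Matrix (vecMul_vecMul vecMul_one)
open scoped Matrix
open Cfsg.Agent.H841.Ext (ES)
open Cfsg.Agent.Lib.PackMat Cfsg.Agent.Lib.PackMatGroup Cfsg.Agent.Lib.PackMatMul Cfsg.Agent.Lib.PackMatLin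

/-! ### packed arithmetic -/

def C : Cfg := ⟨10, 12, 3, 2, 0, 2, 43, 7⟩

theorem good : C.good = true := by decide +kernel

theorem gd : Good C := good_of_check good

abbrev V : Type := Fin C.n → ZMod C.p

def cGM : ℕ := 17214275726049718940670388590169810146070648041843835958818258113099336182150833974194839304932963347115607536737545886988881784684793049373291407963488447078293916834847316884394505883638377739243950574489261824413876129583680560212140772137834493714128008865506131653189388061635441482380834419561016707567377769065361315078203024090156448256958055708832563200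
def cFM : ℕ := 5444517870735015415413993718908291383295
def cHT : ℕ := 10062531836222806363862764070498335
def cH2 : ℕ := 130347463528194937523831186465844126981923728231723904169409118756635643816482079170042007485791802532815017946273701885579031195608135895427286912421145357187898561079691261857735061487697608996605733576798718513595046701664336421369150131073791688431450719669822332927998030823263429256340528436338726278690009302841126312493053236230741476804229266269138975
/-- the identity matrix -/
def c1 : ℕ := 4203730336031677396989105882825350459859152168129056799351805311570611272989354375711921174797212319945974818821439896597650466897751428989596943826957518449235623536339759253203880007531936540711497626611371515857755407474379032857375558140729427988316692794303928472586256062210292859552875060508153599832791711136649120088915485693049237740248897666678785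

theorem cGM_eq : GMc C = cGM := Nat.eq_of_beq_eq_true (by decide +kernel)
theorem cFM_eq : FMc C = cFM := Nat.eq_of_beq_eq_true (by decide +kernel)
theorem cHT_eq : HTc C = cHT := Nat.eq_of_beq_eq_true (by decide +kernel)
theorem cH2_eq : HT2 C = cH2 := Nat.eq_of_beq_eq_true (by decide +kernel)
theorem c1_eq : oneM C = c1 := Nat.eq_of_beq_eq_true (by decide +kernel)

/-- product of matrices -/
noncomputable def mu (A B : ℕ) : ℕ := mulMK 10 12 3 2 43 7 0 cGM cFM 0 0 cH2 A B

/-- row times matrix -/
noncomputable def st (R A : ℕ) : ℕ := stepK 3 2 43 7 0 cGM cFM 0 0 cHT R A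

theorem mu_eq (A B : ℕ) : mu A B = mulM C A B := by
  unfold mulM
  rw [cGM_eq, cFM_eq, cH2_eq]
  rfl

theorem st_eq (R A : ℕ) : st R A = step C R A := by
  unfold step
  rw [cGM_eq, cFM_eq, cHT_eq]
  rfl

theorem mu_spec {A B : ℕ} (hA : RedG C A) (hB : RedG C B) : RedG C (mu A B) ∧ mat C (mu A B) = mat C A * mat C B := by
  rw [mu_eq]
  exact mulM_spec gd hA hB

theorem st_spec {R A : ℕ} (hR : OkR C R) (hA : RedG C A) :
    OkR C (st R A) ∧ rowVec C (st R A) = rowVec C R ᵥ* mat C A := by
  rw [st_eq]
  exact step_spec gd hR (hA.okG gd)

theorem c1_spec : RedG C c1 ∧ mat C c1 = 1 := by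
  have h := codesR_one gd (by decide)
  rw [c1_eq] at h
  exact ⟨h.1, h.2.symm⟩

/-- a row times a word -/
noncomputable def rn (L : List ℕ) (w : List ℕ) : ℕ → ℕ :=
  List.rec (motive := fun _ => ℕ → ℕ) (fun R => R) (fun i _ ih R => force (st R (get L i)) fun R' => ih R') w

theorem rn_cons (L : List ℕ) (i : ℕ) (w : List ℕ) (R : ℕ) : rn L (i :: w) R = rn L w (st R (get L i)) := rfl

/-- `f` holds on the list -/
noncomputable def allL {α : Type} (f : α → Bool) (l : List α) : Bool :=
  List.rec true (fun a _ ih => bif f a then ih else false) l

theorem allL_spec {α : Type} {f : α → Bool} {l : List α} (h : allL f l = true) : ∀ a ∈ l, f a = true := by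
  induction l with
  | nil => intro a ha; simp at ha
  | cons b l ih =>
    have h' : (bif f b then allL f l else false) = true := h
    rcases hb : f b with _ | _
    · rw [hb] at h'; simp at h'
    rw [hb, cond_true] at h'
    intro a ha
    rcases List.mem_cons.mp ha with rfl | ha
    · exact hb
    · exact ih h' a ha

/-- the rows supported on the last five coordinates -/
def enc (m : ℕ) : ℕ :=
  m % 3 + m / 3 % 3 * 4096 + m / 9 % 3 * 16777216 + m / 27 % 3 * 68719476736 + m / 81 % 3 * 281474976710656

theorem encB_true : allBelow (fun m => okR C (enc m) && decide ((List.range 10).map (dg 12 (enc m)) =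
    [m % 3, m / 3 % 3, m / 9 % 3, m / 27 % 3, m / 81 % 3, 0, 0, 0, 0, 0])) 243 = true := by
  decide +kernel

theorem enc_surj {y : V} (hy : ∀ j : Fin C.n, j.val < 5 → y j = 0) :
    ∃ m < 243, OkR C (enc m) ∧ rowVec C (enc m) = y := by
  have : NeZero C.p := ⟨by decide⟩
  obtain ⟨a, ha⟩ : ∃ a, a = (y ⟨9, by decide⟩).val := ⟨_, rfl⟩
  obtain ⟨b, hb⟩ : ∃ a, a = (y ⟨8, by decide⟩).val := ⟨_, rfl⟩
  obtain ⟨c, hc⟩ : ∃ a, a = (y ⟨7, by decide⟩).val := ⟨_, rfl⟩
  obtain ⟨d, hd⟩ : ∃ a, a = (y ⟨6, by decide⟩).val := ⟨_, rfl⟩
  obtain ⟨e, he⟩ : ∃ a, a = (y ⟨5, by decide⟩).val := ⟨_, rfl⟩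
  have a1 : a < 3 := ha ▸ ZMod.val_lt _
  have a2 : b < 3 := hb ▸ ZMod.val_lt _
  have a3 : c < 3 := hc ▸ ZMod.val_lt _
  have a4 : d < 3 := hd ▸ ZMod.val_lt _
  have a5 : e < 3 := he ▸ ZMod.val_lt _
  obtain ⟨m, hm⟩ : ∃ m, m = a + 3 * b + 9 * c + 27 * d + 81 * e := ⟨_, rfl⟩
  have h := allBelow_spec encB_true m (by omega)
  rw [Bool.and_eq_true, decide_eq_true_eq, show m % 3 = a by omega, show m / 3 % 3 = b by omega,
    show m / 9 % 3 = c by omega, show m / 27 % 3 = d by omega, show m / 81 % 3 = e by omega] at h
  refine ⟨m, by omega, okR_spec h.1, ?_⟩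
  have h2 := h.2
  simp only [List.range_succ, List.range_zero, List.nil_append, List.cons_append, List.map_cons, List.map_nil,
    List.cons.injEq, and_true] at h2
  obtain ⟨k0, k1, k2, k3, k4, k5, k6, k7, k8, k9⟩ := h2
  have key : ∀ (j : ℕ) (hj : j < C.n) (n : ℕ), dg 12 (enc m) (9 - j) = n → ((n : ℕ) : ZMod C.p) = y ⟨j, hj⟩ →
      rowVec C (enc m) ⟨j, hj⟩ = y ⟨j, hj⟩ := by
    intro j hj n h1 h2
    rw [← h2, ← h1]
    rfl
  funext ⟨j, hj⟩
  have hj' : j < 10 := hj
  interval_cases j
  · exact key 0 _ _ k9 (by rw [hy _ (by simp), Nat.cast_zero])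
  · exact key 1 _ _ k8 (by rw [hy _ (by simp), Nat.cast_zero])
  · exact key 2 _ _ k7 (by rw [hy _ (by simp), Nat.cast_zero])
  · exact key 3 _ _ k6 (by rw [hy _ (by simp), Nat.cast_zero])
  · exact key 4 _ _ k5 (by rw [hy _ (by simp), Nat.cast_zero])
  · exact key 5 _ _ k4 (by rw [he, ZMod.natCast_zmod_val])
  · exact key 6 _ _ k3 (by rw [hd, ZMod.natCast_zmod_val])
  · exact key 7 _ _ k2 (by rw [hc, ZMod.natCast_zmod_val])
  · exact key 8 _ _ k1 (by rw [hb, ZMod.natCast_zmod_val])
  · exact key 9 _ _ k0 (by rw [ha, ZMod.natCast_zmod_val])

/-- the first five columns vanish -/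
def col5 (A : ℕ) : Bool := Nat.beq (A % 2 ^ 600) 0

theorem col5_spec {A : ℕ} (h : col5 A = true) (v : V) (j : Fin C.n) (hj : j.val < 5) : (v ᵥ* mat C A) j = 0 := by
  have h1 : A % 2 ^ 600 = 0 := Nat.eq_of_beq_eq_true h
  have h2 : ∀ i : Fin C.n, mat C A i j = 0 := by
    intro i
    have hi : i.val < 10 := i.isLt
    rw [mat_def]
    have h3 : dg C.s A (i + C.n * j) = 0 := by
      show dg 12 A (i + 10 * j) = 0
      have h4 := dg_E (s := 12) (f := dg 12 A) (L := 50) (i := i + 10 * j) (fun i _ => dg_lt _ _ _) (by omega)
      rw [E_dg_mod, show 12 * 50 = 600 from rfl, h1] at h4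
      rw [← h4, dg_def, Nat.zero_div, Nat.zero_mod]
    rw [h3, Nat.cast_zero]
  simp [Matrix.vecMul, dotProduct, h2]

theorem three_eq : (3 : ZMod C.p) = 0 := by decide

theorem two_eq : ((2 : ℕ) : ZMod C.p) = -1 := by decide

/-! ### the model -/

structure Mod (G : Type) [Group G] where
  z : G
  Q : Subgroup G
  S : Subgroup G
  vec : G → V
  z3 : z ^ 3 = 1
  z1 : z ≠ 1
  es : ES (zpowers z) Q
  add : ∀ {x y}, x ∈ Q → y ∈ Q → vec (x * y) = vec x + vec y
  ker : ∀ {x}, x ∈ Q → (vec x = 0 ↔ x ∈ zpowers z)
  surj : ∀ v, ∃ x ∈ Q, vec x = v
  norm : ∀ {g x}, Commute z g → x ∈ Q → g⁻¹ * x * g ∈ Q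
  comm : ∀ {s}, s ∈ S → Commute z s
  dec : ∀ {g}, Commute z g → ∃ s ∈ S, ∃ x ∈ Q, g = s * x
  split : ∀ {s x}, s ∈ S → x ∈ Q → vec (s⁻¹ * x * s) = vec x → Commute s x
  faith : ∀ {s}, s ∈ S → (∀ x ∈ Q, Commute s x) → s = 1
  card : Nat.card S = 27371520

namespace Mod

variable {G : Type} [Group G] (D : Mod G)

theorem z_mem : D.z ∈ D.Q := D.es.le (mem_zpowers _)

theorem cQ {x : G} (hx : x ∈ D.Q) : Commute D.z x := D.es.cen _ (mem_zpowers _) x hx

theorem mem_Z {a : G} : a ∈ zpowers D.z ↔ a = 1 ∨ a = D.z ∨ a = D.z⁻¹ := by
  constructor
  · rintro ⟨k, rfl⟩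
    have h3 : D.z ^ (3 : ℤ) = 1 := by exact_mod_cast D.z3
    have e : D.z ^ k = D.z ^ (k % 3) := by
      conv_lhs => rw [← Int.emod_add_mul_ediv k 3, zpow_add, zpow_mul, h3, one_zpow, mul_one]
    have h2 : D.z ^ (2 : ℤ) = D.z⁻¹ := by
      rw [eq_inv_iff_mul_eq_one, ← zpow_add_one]; exact h3
    have : k % 3 = 0 ∨ k % 3 = 1 ∨ k % 3 = 2 := by omega
    show D.z ^ k = 1 ∨ D.z ^ k = D.z ∨ D.z ^ k = D.z⁻¹
    rcases this with h | h | h <;> rw [e, h]
    · exact Or.inl (zpow_zero _)
    · exact Or.inr (Or.inl (zpow_one _))
    · exact Or.inr (Or.inr h2)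
  · rintro (h | h | h) <;> rw [h]
    exacts [one_mem _, mem_zpowers _, inv_mem (mem_zpowers _)]

theorem cZ {g a : G} (hg : Commute D.z g) (ha : a ∈ zpowers D.z) : Commute a g := by
  obtain ⟨k, rfl⟩ := ha
  exact hg.zpow_left k

theorem vec_one : D.vec 1 = 0 := (D.ker (one_mem _)).2 (one_mem _)

theorem vec_inv {x : G} (hx : x ∈ D.Q) : D.vec x⁻¹ = -D.vec x := by
  have h := D.add hx (inv_mem hx)
  rw [mul_inv_cancel, D.vec_one] at h
  exact (neg_eq_of_add_eq_zero_right h.symm).symm

theorem vec_eq {x y : G} (hx : x ∈ D.Q) (hy : y ∈ D.Q) (h : D.vec x = D.vec y) : ∃ a ∈ zpowers D.z, x = y * a := by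
  refine ⟨y⁻¹ * x, (D.ker (mul_mem (inv_mem hy) hx)).1 ?_, by group⟩
  rw [D.add (inv_mem hy) hx, D.vec_inv hy, h, neg_add_cancel]

theorem vec_conj {x y : G} (hx : x ∈ D.Q) (hy : y ∈ D.Q) : D.vec (y⁻¹ * x * y) = D.vec x := by
  rw [D.add (mul_mem (inv_mem hy) hx) hy, D.add (inv_mem hy) hx, D.vec_inv hy]
  abel

theorem norm' {g x : G} (hg : Commute D.z g) (hx : x ∈ D.Q) : g * x * g⁻¹ ∈ D.Q := by
  have h := D.norm hg.inv_right hx
  rwa [inv_inv] at h

theorem nS {s x : G} (hs : s ∈ D.S) (hx : x ∈ D.Q) : s⁻¹ * x * s ∈ D.Q := D.norm (D.comm hs) hx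

theorem inf_eq {s : G} (hs : s ∈ D.S) (hq : s ∈ D.Q) : s = 1 :=
  D.faith hs fun _ hx => D.split hs hx (D.vec_conj hx hq)

/-- conjugation respects the classes modulo `⟨z⟩` -/
theorem vec_congr {g x y : G} (hg : Commute D.z g) (hx : x ∈ D.Q) (hy : y ∈ D.Q) (h : D.vec x = D.vec y) :
    D.vec (g⁻¹ * x * g) = D.vec (g⁻¹ * y * g) := by
  obtain ⟨a, ha, rfl⟩ := D.vec_eq hx hy h
  have e : g⁻¹ * (y * a) * g = (g⁻¹ * y * g) * a := by
    rw [mul_assoc g⁻¹, mul_assoc y, (D.cZ hg ha).eq]; group
  rw [e, D.add (D.norm hg hy) (D.es.le ha), (D.ker (D.es.le ha)).2 ha, add_zero]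

/-- the three elements `w a`, `a ∈ ⟨z⟩`, are conjugate -/
theorem conj_Z {w y : G} (hy : Commute D.z y) (h : y * w * y⁻¹ * w⁻¹ ∈ zpowers D.z) (hw : Commute D.z w)
    (hn : y * w ≠ w * y) {a : G} (ha : a ∈ zpowers D.z) : ∃ g, g * w * g⁻¹ = w * a := by
  set b := y * w * y⁻¹ * w⁻¹ with hb
  have b1 : b ≠ 1 := fun h => hn (by rw [hb, mul_inv_eq_one, mul_inv_eq_iff_eq_mul] at h; exact h)
  have e1 : y * w * y⁻¹ = w * b := by rw [← (D.cZ hw h).eq, hb]; group
  have e2 : y⁻¹ * w * y⁻¹⁻¹ = w * b⁻¹ := by
    have h1 : y * (w * b⁻¹) * y⁻¹ = w := by
      calc y * (w * b⁻¹) * y⁻¹ = (y * w * y⁻¹) * (y * b⁻¹ * y⁻¹) := by group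
        _ = w := by rw [e1, ← (D.cZ hy (inv_mem h)).eq]; group
    conv_lhs => rw [← h1]
    group
  rcases D.mem_Z.1 ha with rfl | rfl | rfl
  · exact ⟨1, by group⟩
  · rcases D.mem_Z.1 h with k | k | k
    · exact absurd k b1
    · exact ⟨y, by rw [e1, k]⟩
    · exact ⟨y⁻¹, by rw [e2, k, inv_inv]⟩
  · rcases D.mem_Z.1 h with k | k | k
    · exact absurd k b1
    · exact ⟨y⁻¹, by rw [e2, k]⟩
    · exact ⟨y, by rw [e1, k]⟩

/-- elements of `Q` with the same nonzero vector are conjugate -/
theorem conj_vec {x y : G} (hx : x ∈ D.Q) (hy : y ∈ D.Q) (h : D.vec x = D.vec y) (h0 : D.vec y ≠ 0) :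
    ∃ g, g * y * g⁻¹ = x := by
  obtain ⟨a, ha, rfl⟩ := D.vec_eq hx hy h
  have h1 : ¬ ∀ u ∈ D.Q, Commute y u := fun k => h0 ((D.ker hy).2 (D.es.nd y hy k))
  push Not at h1
  obtain ⟨u, hu, hc⟩ := h1
  exact D.conj_Z (D.cQ hu) (D.es.com u hu y hy) (D.cQ hy) (fun k => hc k.symm) ha

/-! ### matrices -/

/-- `A` is the matrix of `g ∈ S` -/
def Rep (g : G) (A : ℕ) : Prop :=
  g ∈ D.S ∧ RedG C A ∧ ∀ x ∈ D.Q, D.vec (g⁻¹ * x * g) = D.vec x ᵥ* mat C A

variable {D}

theorem Rep.mul {g h : G} {A B : ℕ} (hg : D.Rep g A) (hh : D.Rep h B) : D.Rep (g * h) (mu A B) := by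
  obtain ⟨k1, k2⟩ := mu_spec hg.2.1 hh.2.1
  refine ⟨mul_mem hg.1 hh.1, k1, fun x hx => ?_⟩
  rw [show (g * h)⁻¹ * x * (g * h) = h⁻¹ * (g⁻¹ * x * g) * h by group, hh.2.2 _ (D.nS hg.1 hx), hg.2.2 x hx, k2,
    vecMul_vecMul]

theorem rep_one : D.Rep 1 c1 :=
  ⟨one_mem _, c1_spec.1, fun x _ => by rw [c1_spec.2, vecMul_one, inv_one, one_mul, mul_one]⟩

theorem Rep.eq {g h : G} {A : ℕ} (hg : D.Rep g A) (hh : D.Rep h A) : g = h := by
  have k : g * h⁻¹ ∈ D.S := mul_mem hg.1 (inv_mem hh.1)
  rw [← mul_inv_eq_one]
  refine D.faith k fun x hx => D.split k hx ?_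
  have h1 : D.vec (g⁻¹ * x * g) = D.vec (h⁻¹ * x * h) := by rw [hg.2.2 x hx, hh.2.2 x hx]
  have h2 := D.vec_congr (D.comm (inv_mem hh.1)) (D.nS hg.1 hx) (D.nS hh.1 hx) h1
  rw [show h⁻¹⁻¹ * (h⁻¹ * x * h) * h⁻¹ = x by group] at h2
  rw [← h2]
  congr 1
  group

theorem Rep.eq' {g h : G} {A B : ℕ} (hg : D.Rep g A) (hh : D.Rep h B) (e : Nat.beq A B = true) : g = h := by
  rw [Nat.eq_of_beq_eq_true e] at hg
  exact hg.eq hh

theorem Rep.of_beq {g : G} {A B : ℕ} (hg : D.Rep g A) (e : Nat.beq A B = true) : D.Rep g B :=
  Nat.eq_of_beq_eq_true e ▸ hg

theorem Rep.code {g : G} {A B : ℕ} (hA : D.Rep g A) (hB : D.Rep g B) : A = B := by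
  apply redG_inj hA.2.1 hB.2.1
  apply vecMul_ext
  intro i
  obtain ⟨x, hx, e⟩ := D.surj (Pi.single i 1)
  rw [← e, ← hA.2.2 x hx, ← hB.2.2 x hx]

theorem rep_get {LG : List G} {L : List ℕ} (h : List.Forall₂ D.Rep LG L) {i : ℕ} (hi : i < L.length) :
    D.Rep (LG.getD i 1) (get L i) := by
  induction h generalizing i with
  | nil => simp at hi
  | cons h _ ih =>
    rcases i with _ | i
    · exact h
    · exact ih (by simpa using hi)

theorem rep_evL {LG : List G} {L : List ℕ} (h : List.Forall₂ D.Rep LG L) {w : List ℕ} (hw : okW L.length w = true) :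
    ∀ {g : G} {A : ℕ}, D.Rep g A → D.Rep (g * evG LG w) (evL mu L w A) := by
  induction w with
  | nil => intro g A hg; rw [evG_nil, mul_one]; exact hg
  | cons i w ih =>
    intro g A hg
    obtain ⟨h1, h2⟩ := okW_cons hw
    rw [evG_cons, ← mul_assoc, evL_cons]
    exact ih h2 (hg.mul (rep_get h h1))

theorem rep_ev {LG : List G} {L : List ℕ} (h : List.Forall₂ D.Rep LG L) {w : List ℕ} (hw : okW L.length w = true) :
    D.Rep (evG LG w) (evL mu L w c1) := by
  have k := rep_evL h hw (rep_one (D := D))
  rwa [one_mul] at k

theorem Rep.st {g : G} {A R : ℕ} (hg : D.Rep g A) (hR : OkR C R) {x : G} (hx : x ∈ D.Q) (e : D.vec x = rowVec C R) :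
    D.vec (g⁻¹ * x * g) = rowVec C (st R A) := by
  rw [hg.2.2 x hx, e, (st_spec hR hg.2.1).2]

theorem rep_rn {LG : List G} {L : List ℕ} (h : List.Forall₂ D.Rep LG L) {w : List ℕ} (hw : okW L.length w = true) :
    ∀ {R : ℕ}, OkR C R → evG LG w ∈ D.S ∧ OkR C (rn L w R) ∧ ∀ x ∈ D.Q, D.vec x = rowVec C R →
      D.vec ((evG LG w)⁻¹ * x * evG LG w) = rowVec C (rn L w R) := by
  induction w with
  | nil => intro R hR; exact ⟨one_mem _, hR, fun x _ e => by rw [evG_nil, inv_one, one_mul, mul_one]; exact e⟩
  | cons i w ih =>
    intro R hR
    obtain ⟨h1, h2⟩ := okW_cons hw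
    have k := rep_get h h1
    obtain ⟨k1, k2, k3⟩ := ih h2 (st_spec hR k.2.1).1
    rw [rn_cons, evG_cons]
    refine ⟨mul_mem k.1 k1, k2, fun x hx e => ?_⟩
    rw [← k3 _ (D.nS k.1 hx) (k.st hR hx e)]
    congr 1
    group

/-- a fixed vector gives a centralised element -/
theorem Rep.comm {g : G} {A R : ℕ} (hg : D.Rep g A) (hR : OkR C R) (h : Nat.beq (Md.st R A) R = true) {x : G}
    (hx : x ∈ D.Q) (e : D.vec x = rowVec C R) : Commute g x :=
  D.split hg.1 hx (by rw [hg.st hR hx e, Nat.eq_of_beq_eq_true h, e])

theorem Rep.commute {g h : G} {A B : ℕ} (hg : D.Rep g A) (hh : D.Rep h B) (e : Nat.beq (mu A B) (mu B A) = true) :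
    Commute g h := (hg.mul hh).eq' (hh.mul hg) e

theorem Rep.cube {g : G} {A : ℕ} (hg : D.Rep g A) (e : Nat.beq (mu (mu A A) A) c1 = true) : g ^ 3 = 1 := by
  rw [pow_three']
  exact ((hg.mul hg).mul hg).eq' rep_one e

end Mod

end Cfsg.Agent.SB.F24.Md
end
end

-- part: SB/Mon/F24/VecA
section
set_option linter.all false
open scoped Cfsg.Agent.FastGrp

/-!
# S5765, the row `Fi24'`: coordinates on `Q / ⟨z⟩` (helper96)
-/

set_option autoImplicit false

namespace Cfsg.Agent.SB.F24.Md

open Subgroup
open scoped Matrix
open Cfsg.Agent.H841.Ext (ES)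
open Cfsg.Agent.Lib.PackMat

variable {G : Type} [Group G]

/-- coordinates with respect to the generators `β` -/
structure VD (z : G) (Q : Subgroup G) (β : ℕ → G) (vec : G → V) : Prop where
  es : ES (zpowers z) Q
  mem : ∀ j < 10, β j ∈ Q
  gen : Q ≤ closure {g | ∃ j < 10, g = β j}
  add : ∀ {x y}, x ∈ Q → y ∈ Q → vec (x * y) = vec x + vec y
  ker : ∀ {x}, x ∈ Q → (vec x = 0 ↔ x ∈ zpowers z)
  surj : ∀ v, ∃ x ∈ Q, vec x = v
  bas : ∀ j : Fin C.n, vec (β j) = Pi.single j 1

theorem exists_lin' {B : Type} [AddCommGroup B] [Module (ZMod C.p) B] (hc : Nat.card B = 3 ^ 10)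
    (b : Fin C.n → B) (hb : ∀ W : AddSubgroup B, (∀ j, b j ∈ W) → ∀ a, a ∈ W) :
    ∃ e : B → V, Function.Bijective e ∧ (∀ x y, e (x + y) = e x + e y) ∧ e 0 = 0 ∧ ∀ j, e (b j) = Pi.single j 1 := by
  classical
  have : NeZero C.p := ⟨by decide⟩
  let φ : V →ₗ[ZMod C.p] B := Fintype.linearCombination (ZMod C.p) b
  have φs : ∀ j : Fin C.n, φ (Pi.single j 1) = b j := fun j => by
    rw [Fintype.linearCombination_apply_single, one_smul]
  have h2 : Function.Surjective φ := fun a => hb (LinearMap.range φ).toAddSubgroup (fun j => ⟨_, φs j⟩) a
  have h5 : Nat.card V = 3 ^ 10 := by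
    rw [Nat.card_fun, Nat.card_zmod, Nat.card_eq_fintype_card, Fintype.card_fin]
    rfl
  let e := LinearEquiv.ofBijective φ (h2.bijective_of_nat_card_le (by rw [h5, hc]))
  refine ⟨e.symm, e.symm.bijective, map_add _, map_zero _, fun j => ?_⟩
  rw [LinearEquiv.symm_apply_eq]
  exact (φs j).symm

theorem exists_lin {A : Type} [CommGroup A] (h3 : ∀ a : A, a ^ 3 = 1) (hc : Nat.card A = 3 ^ 10)
    (b : Fin C.n → A) (hb : ∀ W : Subgroup A, (∀ j, b j ∈ W) → ∀ a, a ∈ W) :
    ∃ e : A → V, Function.Bijective e ∧ (∀ x y, e (x * y) = e x + e y) ∧ e 1 = 0 ∧ ∀ j, e (b j) = Pi.single j 1 := by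
  have : NeZero C.p := ⟨by decide⟩
  exact @exists_lin' (Additive A) _ (AddCommGroup.zmodModule (fun a => h3 a.toMul)) hc b
    (fun W hW a => hb (AddSubgroup.toSubgroup' W) hW a)

theorem exists_vec [Finite G] {z : G} {Q : Subgroup G} (es : ES (zpowers z) Q) (hz : Nat.card (zpowers z) = 3)
    (hQ : Nat.card Q = 3 ^ 11) (β : ℕ → G) (hβ : ∀ j < 10, β j ∈ Q) (hg : Q ≤ closure {g | ∃ j < 10, g = β j}) :
    ∃ vec, VD z Q β vec := by
  classical
  let N : Subgroup Q := (zpowers z).subgroupOf Q
  have hN : N.Normal := ⟨fun a ha g => by
    have h1 := (es.cen a ha g g.2).eq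
    show (g : G) * a * (g : G)⁻¹ ∈ zpowers z
    rw [← h1, mul_inv_cancel_right]
    exact ha⟩
  let cg : CommGroup (Q ⧸ N) :=
    { (inferInstance : Group (Q ⧸ N)) with
      mul_comm := fun a b => by
        obtain ⟨a, rfl⟩ := QuotientGroup.mk_surjective a
        obtain ⟨b, rfl⟩ := QuotientGroup.mk_surjective b
        rw [← QuotientGroup.mk_mul, ← QuotientGroup.mk_mul, QuotientGroup.eq]
        have h1 := es.com _ (inv_mem b.2) _ (inv_mem a.2)
        show ((a : G) * b)⁻¹ * ((b : G) * a) ∈ zpowers z
        rwa [show ((a : G) * b)⁻¹ * ((b : G) * a) = (b : G)⁻¹ * (a : G)⁻¹ * (b : G)⁻¹⁻¹ * (a : G)⁻¹⁻¹ by group] }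
  have h3 : Nat.card (Q ⧸ N) = 3 ^ 10 := by
    have h4 := card_eq_card_quotient_mul_card_subgroup N
    rw [hQ, Nat.card_congr (subgroupOfEquivOfLe es.le).toEquiv, hz] at h4
    omega
  obtain ⟨e, e1, e2, e3, e4⟩ := @exists_lin (Q ⧸ N) cg (fun a => by
      obtain ⟨x, rfl⟩ := QuotientGroup.mk_surjective a
      refine (QuotientGroup.mk_pow N x 3).symm.trans ((QuotientGroup.eq_one_iff _).2 ?_)
      show (x : G) ^ 3 ∈ zpowers z
      rw [es.cub x x.2]
      exact one_mem _) h3 (fun j => QuotientGroup.mk ⟨β j, hβ j j.isLt⟩) (fun W hW a => by
      have h1 : ∀ x ∈ closure {g | ∃ j < 10, g = β j}, ∃ hx : x ∈ Q, (QuotientGroup.mk ⟨x, hx⟩ : Q ⧸ N) ∈ W := by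
        intro x hx
        induction hx using closure_induction with
        | mem x hx =>
          obtain ⟨j, hj, rfl⟩ := hx
          exact ⟨hβ j hj, hW ⟨j, hj⟩⟩
        | one => exact ⟨one_mem _, one_mem W⟩
        | mul x y _ _ ihx ihy => exact ⟨mul_mem ihx.1 ihy.1, mul_mem ihx.2 ihy.2⟩
        | inv x _ ih => exact ⟨inv_mem ih.1, inv_mem ih.2⟩
      obtain ⟨x, rfl⟩ := QuotientGroup.mk_surjective a
      exact (h1 x (hg x.2)).2)
  have hv : ∀ {x} (hx : x ∈ Q), (if h : x ∈ Q then e (QuotientGroup.mk ⟨x, h⟩) else 0) = e (QuotientGroup.mk ⟨x, hx⟩) :=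
    fun hx => dif_pos hx
  refine ⟨fun x => if h : x ∈ Q then e (QuotientGroup.mk ⟨x, h⟩) else 0, es, hβ, hg, fun hx hy => ?_, fun hx => ?_,
    fun v => ?_, fun j => ?_⟩
  · rw [hv hx, hv hy, hv (mul_mem hx hy), ← e2]
    rfl
  · rw [hv hx, ← e3, e1.1.eq_iff]
    exact QuotientGroup.eq_one_iff (N := N) ⟨_, hx⟩
  · obtain ⟨a, rfl⟩ := e1.2 v
    obtain ⟨x, rfl⟩ := QuotientGroup.mk_surjective a
    exact ⟨x, x.2, hv x.2⟩
  · rw [hv (hβ j j.isLt)]
    exact e4 j

namespace VD

variable {z : G} {Q : Subgroup G} {β : ℕ → G} {vec : G → V} (H : VD z Q β vec)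

include H

theorem one : vec 1 = 0 := (H.ker (one_mem _)).2 (one_mem _)

theorem inv {x : G} (hx : x ∈ Q) : vec x⁻¹ = -vec x := by
  have h := H.add hx (inv_mem hx)
  rw [mul_inv_cancel, H.one] at h
  exact (neg_eq_of_add_eq_zero_right h.symm).symm

theorem pow {x : G} (hx : x ∈ Q) (n : ℕ) : vec (x ^ n) = n • vec x := by
  induction n with
  | zero => rw [pow_zero, zero_smul, H.one]
  | succ n ih => rw [pow_succ, H.add (pow_mem hx n) hx, ih, succ_nsmul]

theorem eq {x y : G} (hx : x ∈ Q) (hy : y ∈ Q) (h : vec x = vec y) : ∃ a ∈ zpowers z, x = y * a := by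
  refine ⟨y⁻¹ * x, (H.ker (mul_mem (inv_mem hy) hx)).1 ?_, by group⟩
  rw [H.add (inv_mem hy) hx, H.inv hy, h, neg_add_cancel]

/-- only the generators with nonzero coordinate are needed -/
theorem ind {K : Subgroup G} (hz : z ∈ K) {x : G} (hx : x ∈ Q) (h : ∀ j : Fin C.n, vec x j ≠ 0 → β j ∈ K) : x ∈ K := by
  classical
  have : NeZero C.p := ⟨by decide⟩
  have hZ : zpowers z ≤ K := zpowers_le.2 hz
  let W : AddSubmonoid V :=
    { carrier := {v | ∀ x ∈ Q, vec x = v → x ∈ K}
      zero_mem' := fun x hx e => hZ ((H.ker hx).1 e)
      add_mem' := by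
        intro u v hu hv x hx e
        obtain ⟨a, ha, ea⟩ := H.surj u
        obtain ⟨b, hb, eb⟩ := H.surj v
        obtain ⟨c, hc, rfl⟩ := H.eq hx (mul_mem ha hb) (by rw [e, H.add ha hb, ea, eb])
        exact mul_mem (mul_mem (hu a ha ea) (hv b hb eb)) (hZ hc) }
  have hW : vec x ∈ W := by
    rw [pi_eq_sum_univ' (vec x)]
    refine sum_mem fun j _ => ?_
    by_cases h0 : vec x j = 0
    · rw [h0, zero_smul]
      exact zero_mem _
    · rw [← ZMod.natCast_zmod_val (vec x j), Nat.cast_smul_eq_nsmul]
      refine nsmul_mem (fun y hy e => ?_) _
      obtain ⟨c, hc, rfl⟩ := H.eq hy (H.mem j j.isLt) (e.trans (H.bas j).symm)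
      exact mul_mem (h j h0) (hZ hc)
  exact hW x hx rfl

/-- the matrix is determined by its rows -/
theorem rep {g : G} (hg : ∀ x ∈ Q, g⁻¹ * x * g ∈ Q) {M : Matrix (Fin C.n) (Fin C.n) (ZMod C.p)}
    (h : ∀ j : Fin C.n, vec (g⁻¹ * β j * g) = M j) {x : G} (hx : x ∈ Q) : vec (g⁻¹ * x * g) = vec x ᵥ* M := by
  have h1 : ∀ x ∈ closure {g | ∃ j < 10, g = β j}, x ∈ Q ∧ vec (g⁻¹ * x * g) = vec x ᵥ* M := by
    intro x hx
    induction hx using closure_induction with
    | mem x hx =>
      obtain ⟨j, hj, rfl⟩ := hx
      exact ⟨H.mem j hj, by rw [H.bas ⟨j, hj⟩, Matrix.single_one_vecMul]; exact h ⟨j, hj⟩⟩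
    | one => exact ⟨one_mem _, by rw [mul_one, inv_mul_cancel, H.one, Matrix.zero_vecMul]⟩
    | mul x y _ _ ihx ihy =>
      refine ⟨mul_mem ihx.1 ihy.1, ?_⟩
      rw [show g⁻¹ * (x * y) * g = (g⁻¹ * x * g) * (g⁻¹ * y * g) by group, H.add (hg x ihx.1) (hg y ihy.1), ihx.2, ihy.2,
        H.add ihx.1 ihy.1, Matrix.add_vecMul]
    | inv x _ ih =>
      refine ⟨inv_mem ih.1, ?_⟩
      rw [show g⁻¹ * x⁻¹ * g = (g⁻¹ * x * g)⁻¹ by group, H.inv (hg x ih.1), ih.2, H.inv ih.1, Matrix.neg_vecMul]
  exact (h1 x (H.gen hx)).2

/-- an element commuting with the inverting involution fixes an element as soon as it fixes its class -/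
theorem split {t s x : G} (ht : ∀ x ∈ Q, t⁻¹ * x * t ∈ Q) (hi : ∀ j < 10, t⁻¹ * β j * t = (β j)⁻¹) (tz : Commute z t)
    (hs : ∀ x ∈ Q, s⁻¹ * x * s ∈ Q) (sz : Commute z s) (st : Commute s t) (hx : x ∈ Q) (h : vec (s⁻¹ * x * s) = vec x) :
    Commute s x := by
  have cZ : ∀ {g a}, Commute z g → a ∈ zpowers z → Commute a g := by
    rintro g _ hg ⟨k, rfl⟩
    exact hg.zpow_left k
  have h1 : vec (t⁻¹ * x * t) = vec x⁻¹ := by
    rw [H.rep ht (M := -1) (fun j => by
      rw [hi j j.isLt, H.inv (H.mem j j.isLt), H.bas j]
      funext k
      simp [Pi.single_apply, Matrix.one_apply, eq_comm]) hx, Matrix.vecMul_neg, Matrix.vecMul_one, H.inv hx]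
  obtain ⟨c, hc, e1⟩ := H.eq (hs x hx) hx h
  obtain ⟨d, hd, e2⟩ := H.eq (ht x hx) (inv_mem hx) h1
  have cx := H.es.cen c hc x hx
  have e3 : t⁻¹ * (s⁻¹ * x * s) * t = s⁻¹ * (t⁻¹ * x * t) * s := by
    rw [← mul_assoc, ← mul_assoc, ← st.inv_inv.eq, mul_assoc _ s t, st.eq]; group
  have e4 : t⁻¹ * (s⁻¹ * x * s) * t = x⁻¹ * d * c := by
    rw [e1, ← e2, mul_assoc t⁻¹, mul_assoc x, (cZ tz hc).eq]; group
  have e5 : s⁻¹ * (t⁻¹ * x * t) * s = x⁻¹ * d * c⁻¹ := by
    calc s⁻¹ * (t⁻¹ * x * t) * s = (s⁻¹ * x * s)⁻¹ * d := by
          rw [e2, mul_assoc s⁻¹, mul_assoc x⁻¹, (cZ sz hd).eq]; group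
      _ = x⁻¹ * d * c⁻¹ := by
          rw [e1, ← cx.eq, mul_inv_rev, mul_assoc, mul_assoc, (H.es.cen c hc d (H.es.le hd)).inv_left.eq]
  have e6 : c = c⁻¹ := mul_left_cancel (e4.symm.trans (e3.trans e5))
  have e7 : c = 1 := by
    have h3 := H.es.cub c (H.es.le hc)
    rw [pow_three', eq_inv_iff_mul_eq_one.1 e6, one_mul] at h3
    exact h3
  rw [e7, mul_one, mul_assoc, inv_mul_eq_iff_eq_mul] at e1
  exact e1.symm

end VD

end Cfsg.Agent.SB.F24.Md
end

-- part: SB/Mon/F24/Abs
section
set_option linter.all false
open scoped Cfsg.Agent.FastGrp

/-!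
# S5765, the row `Fi24'`: soundness of the tables of the linear model (helper96)
-/

set_option autoImplicit false
set_option maxRecDepth 100000

namespace Cfsg.Agent.SB.F24.Md

open Subgroup
open Matrix (vecMul_vecMul vecMul_one)
open scoped Matrix
open Cfsg.Agent.Lib.PackMat Cfsg.Agent.Lib.PackMatGroup Cfsg.Agent.Lib.PackMatMul Cfsg.Agent.Lib.PackMatLin
open Cfsg.Agent.Lib.PackMatOrbit (memB nodupB memB_spec nodupB_spec)

/-- entry of a list -/
def getA {α : Type} (d : α) (l : List α) (i : ℕ) : α :=
  List.rec (motive := fun _ => ℕ → α) (fun _ => d) (fun a _ ih i => Nat.rec a (fun j _ => ih j) i) l i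

theorem get_mem {L : List ℕ} {i : ℕ} (hi : i < L.length) : get L i ∈ L := by
  induction L generalizing i with
  | nil => simp at hi
  | cons a L ih =>
    rcases i with _ | i
    · exact List.mem_cons_self
    · exact List.mem_cons_of_mem _ (ih (by simpa using hi))

/-! ### checks -/

/-- an entry of the table of the Sylow subgroup: matrix, word, tag, conjugating word -/
noncomputable def tbE (E MG SL : List ℕ) (e : ℕ × List ℕ × ℕ × List ℕ) : Bool :=
  okW E.length e.2.1 && (Nat.beq (evL mu E e.2.1 c1) e.1 && (okW MG.length e.2.2.2 &&
    Nat.rec (Nat.beq e.1 c1) (fun k _ => Nat.rec (!Nat.beq (mu (mu e.1 e.1) e.1) c1) (fun k _ =>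
      Nat.blt k SL.length && force (evL mu MG e.2.2.2 c1) fun X => Nat.beq (mu e.1 X) (mu X (get SL k))) k) e.2.2.1))

/-- an entry of an affine table -/
noncomputable def affE (Cm Bm Km : ℕ) (CG rl : List ℕ) (R : ℕ) (e : List ℕ × ℕ) : Bool :=
  okW CG.length e.1 && (Nat.blt e.2 rl.length && force (rn CG e.1 (st R Bm)) fun u =>
    Nat.beq (st u Cm) (st (get rl e.2) Cm) && Nat.beq (st u Km) (st (get rl e.2) Km))

noncomputable def linB (ts : List (ℕ × List ℕ)) : Bool := okTs C ts && linC C ts 0 C.n

theorem linB_spec {ts : List (ℕ × List ℕ)} (h : linB ts = true) : linM C ts = 0 := by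
  rw [linB, Bool.and_eq_true] at h
  exact lin_eq_zero_of_check good (by decide) h.1 h.2

noncomputable def affC (M Cm Bm Dm Km Em : ℕ) (CG rl : List ℕ) (tab : List (List ℕ × ℕ)) (n : ℕ) : Bool :=
  allL (redC C) [Cm, Bm, Km] && (col5 Cm && (Nat.beq (mu (mu M M) M) c1 &&
    (linB [(1, [Cm, Bm]), (1, [Dm]), (2, [Dm, M]), (1, [Km]), (2, [])] &&
    (linB [(1, [Em]), (1, [M, Em]), (1, [M, M, Em]), (2, [Km])] &&
    (allL (fun A => Nat.beq (mu A M) (mu M A)) CG && (allL (okR C) rl &&
    allBelow (fun m => force (enc m) fun R => affE Cm Bm Km CG rl R (getA ([], 0) tab (m % n))) 243))))))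

noncomputable def fixC (M Cf Bf Df : ℕ) : Bool :=
  redC C Bf && (col5 Cf && linB [(1, [Cf, Bf]), (1, [Df]), (2, [M, Df]), (2, [])])

/-- the rows of `Bf` vanish or are fixed by `M` and moved to `R0` -/
noncomputable def rowC (MG : List ℕ) (M Bf R0 : ℕ) (ws : List (List ℕ)) : Bool :=
  allBelow (fun j => force (st (unitRow C 1 j) Bf) fun R => Nat.beq R 0 ||
    (Nat.beq (st R M) R && (okW MG.length (getA [] ws j) && Nat.beq (rn MG (getA [] ws j) R) R0))) 10

/-- the classes of the fixed vectors -/
noncomputable def clsC (MG : List ℕ) (Bf Fm : ℕ) (rl : List ℕ) (tab : List (List ℕ × ℕ)) : Bool :=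
  redC C Fm && allBelow (fun m => force (st (enc m) Bf) fun u => okW MG.length (getA ([], 0) tab m).1 &&
    (Nat.blt (getA ([], 0) tab m).2 rl.length && (Nat.beq (rn MG (getA ([], 0) tab m).1 u) (get rl (getA ([], 0) tab m).2) &&
      (Nat.ble (getA ([], 0) tab m).2 1 == Nat.beq (st u Fm) 0)))) 243

theorem id_aff {M Cm Bm Dm Km : ℕ} (h : linM C [(1, [Cm, Bm]), (1, [Dm]), (2, [Dm, M]), (1, [Km]), (2, [])] = 0) (v : V) :
    v = (v ᵥ* mat C Cm) ᵥ* mat C Bm + (v ᵥ* mat C Dm - (v ᵥ* mat C Dm) ᵥ* mat C M) + v ᵥ* mat C Km := by
  have h1 := congrArg (fun A => v ᵥ* A) h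
  simp only [linM, List.map_cons, List.map_nil, List.sum_cons, List.sum_nil, List.prod_cons, List.prod_nil, mul_one,
    Nat.cast_one, one_smul, two_eq, neg_smul, add_zero, Matrix.vecMul_add, Matrix.vecMul_neg, Matrix.vecMul_zero,
    vecMul_one] at h1
  rw [vecMul_vecMul, vecMul_vecMul, ← sub_eq_zero, ← neg_eq_zero, ← h1]
  abel

theorem id_ker {M Km Em : ℕ} (h : linM C [(1, [Em]), (1, [M, Em]), (1, [M, M, Em]), (2, [Km])] = 0) {v : V}
    (hv : v ᵥ* mat C M ᵥ* mat C M + v ᵥ* mat C M + v = 0) : v ᵥ* mat C Km = 0 := by
  have h1 := congrArg (fun A => v ᵥ* A) h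
  simp only [linM, List.map_cons, List.map_nil, List.sum_cons, List.sum_nil, List.prod_cons, List.prod_nil, mul_one,
    Nat.cast_one, one_smul, two_eq, neg_smul, add_zero, Matrix.vecMul_add, Matrix.vecMul_neg, Matrix.vecMul_zero,
    ← vecMul_vecMul] at h1
  have h2 := congrArg (fun u => u ᵥ* mat C Em) hv
  simp only [Matrix.add_vecMul, Matrix.zero_vecMul] at h2
  have h3 : ∀ a b c k : V, a + (b + (c + -k)) = 0 → c + b + a = 0 → k = 0 := by
    intro a b c k e1 e2
    calc k = (c + b + a) - (a + (b + (c + -k))) := by abel
      _ = 0 := by rw [e1, e2, sub_zero]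
  exact h3 _ _ _ _ h1 h2

theorem id_fix {M Cf Bf Df : ℕ} (h : linM C [(1, [Cf, Bf]), (1, [Df]), (2, [M, Df]), (2, [])] = 0) {v : V}
    (hv : v ᵥ* mat C M = v) : v = (v ᵥ* mat C Cf) ᵥ* mat C Bf := by
  have h1 := congrArg (fun A => v ᵥ* A) h
  simp only [linM, List.map_cons, List.map_nil, List.sum_cons, List.sum_nil, List.prod_cons, List.prod_nil, mul_one,
    Nat.cast_one, one_smul, two_eq, neg_smul, add_zero, Matrix.vecMul_add, Matrix.vecMul_neg, Matrix.vecMul_zero,
    vecMul_one, ← vecMul_vecMul, hv] at h1
  rw [← sub_eq_zero, ← neg_eq_zero, ← h1]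
  abel

namespace Mod

variable {G : Type} [Group G] {D : Mod G}

theorem forall₂_mem {LG : List G} {L : List ℕ} (h : List.Forall₂ D.Rep LG L) {g : G} (hg : g ∈ LG) :
    ∃ A ∈ L, D.Rep g A := by
  induction h with
  | nil => simp at hg
  | cons h _ ih =>
    rcases List.mem_cons.1 hg with rfl | hg
    · exact ⟨_, List.mem_cons_self, h⟩
    · obtain ⟨A, h1, h2⟩ := ih hg
      exact ⟨A, List.mem_cons_of_mem _ h1, h2⟩

theorem getD_mem {LG : List G} {L : List ℕ} (h : List.Forall₂ D.Rep LG L) {i : ℕ} (hi : i < L.length) :
    LG.getD i 1 ∈ LG := by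
  rw [← h.length_eq] at hi
  rw [List.getD_eq_getElem _ _ hi]
  exact List.getElem_mem hi

theorem pow_dec {s x : G} (hs : s ∈ D.S) (hx : x ∈ D.Q) (n : ℕ) : ∃ y ∈ D.Q, (s * x) ^ n = s ^ n * y := by
  induction n with
  | zero => exact ⟨1, one_mem _, by simp⟩
  | succ n ih =>
    obtain ⟨y, hy, e⟩ := ih
    exact ⟨s⁻¹ * y * s * x, mul_mem (D.nS hs hy) hx, by rw [pow_succ, e, pow_succ]; group⟩

theorem pow_eq_one {s x : G} (hs : s ∈ D.S) (hx : x ∈ D.Q) {n : ℕ} (h : (s * x) ^ n = 1) : s ^ n = 1 := by
  obtain ⟨y, hy, e⟩ := pow_dec hs hx n
  refine D.inf_eq (pow_mem hs n) ?_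
  rw [h, eq_comm, mul_eq_one_iff_eq_inv] at e
  rw [e]
  exact inv_mem hy

/-! ### the Sylow subgroup -/

theorem tb_spec {LE LG LS : List G} {E MG SL : List ℕ} (hE : List.Forall₂ D.Rep LE E) (hG : List.Forall₂ D.Rep LG MG)
    (hS : List.Forall₂ D.Rep LS SL) {e : ℕ × List ℕ × ℕ × List ℕ} (h : tbE E MG SL e = true) :
    D.Rep (evG LE e.2.1) e.1 ∧ ∀ g, D.Rep g e.1 → g = 1 ∨ g ^ 3 ≠ 1 ∨ ∃ c ∈ D.S, c⁻¹ * g * c ∈ LS := by
  obtain ⟨A, w, t, c⟩ := e
  simp only [tbE, Bool.and_eq_true] at h
  obtain ⟨h1, h2, h3, h4⟩ := h
  refine ⟨(rep_ev hE h1).of_beq h2, fun g hg => ?_⟩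
  rcases t with _ | _ | k
  · exact Or.inl (hg.eq' rep_one h4)
  · refine Or.inr (Or.inl fun h3 => ?_)
    have h5 : (!Nat.beq (mu (mu A A) A) c1) = true := h4
    have h6 := (hg.mul hg).mul hg
    rw [← pow_three', h3] at h6
    rw [h6.code rep_one, Nat.beq_refl] at h5
    exact absurd h5 (by decide)
  · have h5 : (Nat.blt k SL.length && Nat.beq (mu A (evL mu MG c c1)) (mu (evL mu MG c c1) (get SL k))) = true := h4
    rw [Bool.and_eq_true, Nat.blt_eq] at h5
    have hc := rep_ev hG h3
    have h6 := (hg.mul hc).eq' (hc.mul (rep_get hS h5.1)) h5.2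
    refine Or.inr (Or.inr ⟨_, hc.1, ?_⟩)
    rw [mul_assoc, h6, inv_mul_cancel_left]
    exact getD_mem hS h5.1

theorem syl [Finite G] {LE : List G} {E L : List ℕ} (hE : List.Forall₂ D.Rep LE E) (hlen : L.length = 243)
    (hnd : nodupB L = true) (h1 : memB c1 L = true) (h3 : allL (fun A => Nat.beq (mu (mu A A) A) c1) E = true)
    (hcl : allL (fun A => allL (fun B => force (mu A B) fun X => memB X L) E) L = true)
    (hw : ∀ A ∈ L, ∃ w, D.Rep (evG LE w) A) :
    (∀ s ∈ closure {g | g ∈ LE}, ∃ A ∈ L, D.Rep s A) ∧ ∀ B : Subgroup G, IsPGroup 3 B → (∀ b ∈ B, Commute D.z b) →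
      ∃ h ∈ D.S, ∀ b ∈ B, ∃ s ∈ closure {g | g ∈ LE}, ∃ x ∈ D.Q, h⁻¹ * b * h = s * x := by
  classical
  have : Fact (Nat.Prime 3) := ⟨Nat.prime_three⟩
  set K := closure {g | g ∈ LE} with hK
  have step : ∀ {x y : G}, y ∈ LE → (∃ A ∈ L, D.Rep x A) → ∃ A ∈ L, D.Rep (x * y) A := by
    rintro x y hy ⟨A, hA, hx⟩
    obtain ⟨B, hB, hy⟩ := forall₂_mem hE hy
    exact ⟨_, memB_spec.1 (allL_spec (allL_spec hcl A hA) B hB), hx.mul hy⟩
  have a1 : ∀ s ∈ K, ∃ A ∈ L, D.Rep s A := by
    intro s hs
    induction hs using closure_induction_right with
    | one => exact ⟨_, memB_spec.1 h1, rep_one⟩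
    | mul_right x _ y hy ih => exact step hy ih
    | mul_inv_cancel x _ y hy ih =>
      obtain ⟨B, hB, hb⟩ := forall₂_mem hE hy
      have e : y⁻¹ = y * y := by
        rw [inv_eq_iff_mul_eq_one, ← mul_assoc, ← pow_three']
        exact hb.cube (allL_spec h3 B hB)
      rw [e, ← mul_assoc]
      exact step hy (step hy ih)
  refine ⟨a1, fun B hB hc => ?_⟩
  have hKS : K ≤ D.S := fun s hs => (a1 s hs).choose_spec.2.1
  have cK : Nat.card K = 3 ^ 5 := by
    let f : K → {A // A ∈ L.toFinset} := fun s => ⟨(a1 s s.2).choose, List.mem_toFinset.2 (a1 s s.2).choose_spec.1⟩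
    have hf : ∀ s : K, D.Rep (s : G) (f s).1 := fun s => (a1 s s.2).choose_spec.2
    have b1 : Function.Bijective f := by
      refine ⟨fun s t e => Subtype.ext ((hf s).eq (e ▸ hf t)), fun A => ?_⟩
      obtain ⟨w, k⟩ := hw A.1 (List.mem_toFinset.1 A.2)
      exact ⟨⟨_, evG_mem K (fun g hg => subset_closure hg) w⟩, Subtype.ext ((hf _).code k)⟩
    rw [Nat.card_congr (Equiv.ofBijective f b1), Nat.card_eq_fintype_card, Fintype.card_coe,
      List.toFinset_card_of_nodup (nodupB_spec hnd), hlen]
    norm_num
  have cK' : Nat.card (K.subgroupOf D.S) = 3 ^ (Nat.card D.S).factorization 3 := by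
    rw [Nat.card_congr (subgroupOfEquivOfLe hKS).toEquiv, cK, D.card,
      show (27371520 : ℕ) = 3 ^ 5 * 112640 by norm_num, Nat.factorization_mul (by norm_num) (by norm_num),
      Finsupp.add_apply, Nat.prime_three.factorization_pow, Finsupp.single_eq_same,
      Nat.factorization_eq_zero_of_not_dvd (by norm_num)]
  let P' : Sylow 3 D.S := Sylow.ofCard _ cK'
  let B' : Subgroup D.S :=
    { carrier := {s | ∃ b ∈ B, ∃ x ∈ D.Q, b = s * x}
      one_mem' := ⟨1, one_mem _, 1, one_mem _, by simp⟩
      mul_mem' := by
        rintro s t ⟨b, hb, x, hx, e⟩ ⟨b', hb', x', hx', e'⟩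
        exact ⟨b * b', mul_mem hb hb', (t : G)⁻¹ * x * t * x', mul_mem (D.nS t.2 hx) hx', by
          rw [e, e', Subgroup.coe_mul]; group⟩
      inv_mem' := by
        rintro s ⟨b, hb, x, hx, e⟩
        exact ⟨b⁻¹, inv_mem hb, (s : G) * x⁻¹ * (s : G)⁻¹, D.norm' (D.comm s.2) (inv_mem hx), by
          rw [e, Subgroup.coe_inv]; group⟩ }
  have hB' : IsPGroup 3 B' := by
    rintro ⟨s, b, hb, x, hx, e⟩
    obtain ⟨k, hk⟩ := hB ⟨b, hb⟩
    refine ⟨k, Subtype.ext (Subtype.ext ?_)⟩
    have h4 : b ^ 3 ^ k = 1 := congrArg Subtype.val hk
    rw [e] at h4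
    exact pow_eq_one s.2 hx h4
  obtain ⟨P, hP⟩ := hB'.exists_le_sylow
  obtain ⟨g, hg⟩ := MulAction.exists_smul_eq D.S P P'
  refine ⟨(g : G)⁻¹, inv_mem g.2, fun b hb => ?_⟩
  obtain ⟨s, hs, x, hx, e⟩ := D.dec (hc b hb)
  have h5 : (⟨s, hs⟩ : D.S) ∈ P := hP ⟨b, hb, x, hx, e⟩
  have h6 : g * ⟨s, hs⟩ * g⁻¹ ∈ (P' : Subgroup D.S) := by
    rw [← hg, Sylow.coe_subgroup_smul]
    exact Subgroup.smul_mem_pointwise_smul _ (MulAut.conj g) _ h5
  refine ⟨g * s * (g : G)⁻¹, mem_subgroupOf.1 h6, g * x * (g : G)⁻¹, D.norm' (D.comm g.2) hx, ?_⟩
  rw [e]; group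

/-! ### cosets -/

/-- `s x` with vector `v` is conjugate in `C(z)` to `s x'` with vector `v'` -/
def Eqv (D : Mod G) (s : G) (v v' : V) : Prop :=
  ∀ x ∈ D.Q, D.vec x = v → ∃ g, Commute D.z g ∧ ∃ x' ∈ D.Q, D.vec x' = v' ∧ g⁻¹ * (s * x) * g = s * x'

theorem Eqv.trans {s : G} {u v w : V} (h : D.Eqv s u v) (k : D.Eqv s v w) : D.Eqv s u w := by
  intro x hx e
  obtain ⟨g, hg, x', hx', e', f⟩ := h x hx e
  obtain ⟨g', hg', x'', hx'', e'', f'⟩ := k x' hx' e'
  exact ⟨g * g', hg.mul_right hg', x'', hx'', e'', by rw [← f', ← f]; group⟩

theorem Rep.shift {s : G} {M : ℕ} (hs : D.Rep s M) {v v' : V} (d : V) (h : v = v' + (d - d ᵥ* mat C M)) :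
    D.Eqv s v v' := by
  intro x hx e
  obtain ⟨y, hy, f⟩ := D.surj d
  refine ⟨y⁻¹, D.cQ (inv_mem hy), s⁻¹ * y * s * x * y⁻¹, mul_mem (mul_mem (D.nS hs.1 hy) hx) (inv_mem hy), ?_, by group⟩
  rw [D.add (mul_mem (D.nS hs.1 hy) hx) (inv_mem hy), D.add (D.nS hs.1 hy) hx, hs.2.2 y hy, D.vec_inv hy, e, f, h]
  abel

theorem aff {s : G} {M Cm Bm Dm Km Em : ℕ} {LC : List G} {CG rl : List ℕ} {tab : List (List ℕ × ℕ)} {n : ℕ}
    (hs : D.Rep s M) (hC : List.Forall₂ D.Rep LC CG) (h : affC M Cm Bm Dm Km Em CG rl tab n = true) {x : G}
    (hx : x ∈ D.Q) (hw : (s * x) ^ 3 = 1) :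
    ∃ R ∈ rl, ∃ g, Commute D.z g ∧ ∃ x' ∈ D.Q, D.vec x' = rowVec C R ∧ g⁻¹ * (s * x) * g = s * x' := by
  simp only [affC, Bool.and_eq_true] at h
  obtain ⟨h1, h2, h3, h4, h5, h6, h7, h8⟩ := h
  have rC : RedG C Cm := redG_of_check gd (allL_spec h1 _ (by simp))
  have rB : RedG C Bm := redG_of_check gd (allL_spec h1 _ (by simp))
  have rK : RedG C Km := redG_of_check gd (allL_spec h1 _ (by simp))
  have s3 := hs.cube h3
  have i1 := id_aff (linB_spec h4)
  have hv : D.vec x ᵥ* mat C M ᵥ* mat C M + D.vec x ᵥ* mat C M + D.vec x = 0 := by
    have q1 := D.nS hs.1 hx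
    have q2 := D.nS hs.1 q1
    rw [← hs.2.2 x hx, ← hs.2.2 _ q1, ← D.add q2 q1, ← D.add (mul_mem q2 q1) hx, ← D.vec_one]
    congr 1
    rw [← hw, ← one_mul (s⁻¹ * (s⁻¹ * x * s) * s * (s⁻¹ * x * s) * x), ← s3, pow_three', pow_three']
    group
  have i2 := id_ker (linB_spec h5) hv
  obtain ⟨m, hm, o1, o2⟩ := enc_surj (col5_spec h2 (D.vec x))
  have h9 := allBelow_spec h8 m hm
  rw [force_eq] at h9
  generalize getA ([], 0) tab (m % n) = e at h9
  simp only [affE, force_eq, Bool.and_eq_true, Nat.blt_eq] at h9
  obtain ⟨k1, k2, k3, k4⟩ := h9
  obtain ⟨u1, u2⟩ := st_spec o1 rB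
  obtain ⟨c1, c2, c3⟩ := rep_rn hC k1 u1
  have cs : Commute s (evG LC e.1) := by
    have : evG LC e.1 ∈ centralizer {s} := by
      refine evG_mem _ (fun g hg => ?_) _
      obtain ⟨A, hA, hg⟩ := forall₂_mem hC hg
      exact mem_centralizer_singleton_iff.2 (hg.commute hs (allL_spec h6 A hA)).eq
    exact (mem_centralizer_singleton_iff.1 this).symm
  have oR := okR_spec (allL_spec h7 _ (get_mem k2))
  refine ⟨_, get_mem k2, ?_⟩
  have e1 : D.Eqv s (D.vec x) (rowVec C (st (enc m) Bm)) := by
    refine hs.shift (D.vec x ᵥ* mat C Dm) ?_
    rw [u2, o2]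
    conv_lhs => rw [i1 (D.vec x), i2, add_zero]
  have e2 : D.Eqv s (rowVec C (st (enc m) Bm)) (rowVec C (rn CG e.1 (st (enc m) Bm))) := by
    intro y hy f
    refine ⟨_, D.comm c1, _, D.nS c1 hy, c3 y hy f, ?_⟩
    rw [← mul_assoc, ← mul_assoc, ← mul_assoc, cs.inv_right.eq]
  have e3 : D.Eqv s (rowVec C (rn CG e.1 (st (enc m) Bm))) (rowVec C (get rl e.2)) := by
    set u := rowVec C (rn CG e.1 (st (enc m) Bm)) with hu
    set r := rowVec C (get rl e.2) with hr
    have f1 : (u - r) ᵥ* mat C Cm = 0 := by
      rw [Matrix.sub_vecMul, ← (st_spec c2 rC).2, ← (st_spec oR rC).2, Nat.eq_of_beq_eq_true k3, sub_self]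
    have f2 : (u - r) ᵥ* mat C Km = 0 := by
      rw [Matrix.sub_vecMul, ← (st_spec c2 rK).2, ← (st_spec oR rK).2, Nat.eq_of_beq_eq_true k4, sub_self]
    refine hs.shift ((u - r) ᵥ* mat C Dm) ?_
    have f3 := i1 (u - r)
    rw [f1, f2, Matrix.zero_vecMul, zero_add, add_zero] at f3
    rw [← f3, add_sub_cancel]
  exact (e1.trans (e2.trans e3)) x hx rfl

/-- no point in the coset has the vector `R` -/
def Dead (D : Mod G) (Pt : G → Prop) (s : G) (R : ℕ) : Prop := ∀ x ∈ D.Q, D.vec x = rowVec C R → ¬ Pt (s * x)

theorem dead_nine {Pt : G → Prop} (hc : ∀ {p}, Pt p → p ^ 3 = 1) {s q : G} {R : ℕ} (hs : s ∈ D.S) (hq : q ∈ D.Q)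
    (e : D.vec q = rowVec C R) (h : (s * q) ^ 3 ≠ 1) : D.Dead Pt s R := by
  intro x hx f hp
  obtain ⟨a, ha, rfl⟩ := D.vec_eq hx hq (f.trans e.symm)
  have h1 := hc hp
  rw [← mul_assoc, (D.cZ ((D.comm hs).mul_right (D.cQ hq)) ha).symm.mul_pow, D.es.cub a (D.es.le ha), mul_one] at h1
  exact h h1

theorem dead_ns {Pt : G → Prop} (hc : ∀ {p}, Pt p → ∀ g, Pt (g * p * g⁻¹)) {s q y : G} {R : ℕ} (hs : s ∈ D.S)
    (hq : q ∈ D.Q) (hy : y ∈ D.Q) (e : D.vec q = rowVec C R) (hsy : Commute s y) (hn : y * q ≠ q * y)
    (h : ¬ Pt (s * q)) : D.Dead Pt s R := by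
  intro x hx f hp
  obtain ⟨a, ha, rfl⟩ := D.vec_eq hx hq (f.trans e.symm)
  have h1 := D.es.com y hy q hq
  obtain ⟨g, hg⟩ := D.conj_Z (w := s * q) (D.cQ hy) (by
      have h2 : y * (s * q) * y⁻¹ * (s * q)⁻¹ = s * (y * q * y⁻¹ * q⁻¹) * s⁻¹ := by
        rw [← mul_assoc y, ← hsy.eq]; group
      rw [h2, ← (D.cZ (D.comm hs) h1).eq, mul_inv_cancel_right]
      exact h1) ((D.comm hs).mul_right (D.cQ hq))
    (fun k => hn (by rw [← mul_assoc, ← hsy.eq, mul_assoc, mul_assoc] at k; exact mul_left_cancel k)) ha
  apply h
  have h3 := hc hp g⁻¹
  rw [← mul_assoc s, ← hg] at h3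
  rwa [show g⁻¹ * (g * (s * q) * g⁻¹) * g⁻¹⁻¹ = s * q by group] at h3

/-- the points of a coset are conjugate to `s`, `s z`, `s z⁻¹` -/
theorem coset {Pt : G → Prop} (hc3 : ∀ {p}, Pt p → p ^ 3 = 1) (hc : ∀ {p}, Pt p → ∀ g, Pt (g * p * g⁻¹))
    {s : G} {M Cm Bm Dm Km Em : ℕ} {LC : List G} {CG : List ℕ} {R1 R2 R3 : ℕ} {tab : List (List ℕ × ℕ)} {n : ℕ}
    (hs : D.Rep s M) (hC : List.Forall₂ D.Rep LC CG) (h : affC M Cm Bm Dm Km Em CG [0, R1, R2, R3] tab n = true)
    (d1 : D.Dead Pt s R1) (d2 : D.Dead Pt s R2) (d3 : D.Dead Pt s R3) {x : G} (hx : x ∈ D.Q) (hp : Pt (s * x)) :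
    ∃ g, Commute D.z g ∧ ∃ w, Pt w ∧ g⁻¹ * (s * x) * g = w ∧ (w = s ∨ w = s * D.z ∨ w = s * D.z⁻¹) := by
  obtain ⟨R, hR, g, hg, x', hx', e, f⟩ := aff hs hC h hx (hc3 hp)
  have hp' : Pt (s * x') := by
    have := hc hp g⁻¹
    rwa [inv_inv, f] at this
  simp only [List.mem_cons, List.not_mem_nil, or_false] at hR
  rcases hR with rfl | rfl | rfl | rfl
  · refine ⟨g, hg, _, hp', f, ?_⟩
    rw [rowVec_zero] at e
    rcases D.mem_Z.1 ((D.ker hx').1 e) with k | k | k <;> rw [k]
    exacts [Or.inl (mul_one s), Or.inr (Or.inl rfl), Or.inr (Or.inr rfl)]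
  exacts [absurd hp' (d1 x' hx' e), absurd hp' (d2 x' hx' e), absurd hp' (d3 x' hx' e)]

/-! ### fixed vectors -/

theorem fix_dec {s : G} {M Cf Bf Df : ℕ} (hs : D.Rep s M) (h : fixC M Cf Bf Df = true) {x : G} (hx : x ∈ D.Q)
    (hc : Commute s x) : ∃ m < 243, OkR C (st (enc m) Bf) ∧ D.vec x = rowVec C (st (enc m) Bf) ∧
      D.vec x = rowVec C (enc m) ᵥ* mat C Bf := by
  simp only [fixC, Bool.and_eq_true] at h
  obtain ⟨h1, h2, h3⟩ := h
  have hv : D.vec x ᵥ* mat C M = D.vec x := by
    rw [← hs.2.2 x hx, mul_assoc, ← hc.eq, inv_mul_cancel_left]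
  obtain ⟨m, hm, o1, o2⟩ := enc_surj (col5_spec h2 (D.vec x))
  obtain ⟨u1, u2⟩ := st_spec o1 (redG_of_check gd h1)
  have e : D.vec x = rowVec C (enc m) ᵥ* mat C Bf := by rw [o2]; exact id_fix (linB_spec h3) hv
  exact ⟨m, hm, u1, e.trans u2.symm, e⟩

theorem fix_card [Finite G] {s w : G} {M Cf Bf Df : ℕ} (hs : D.Rep s M) (h : fixC M Cf Bf Df = true)
    (hw : ∀ x ∈ D.Q, Commute w x → Commute s x) : Nat.card ↥(D.Q ⊓ centralizer {w}) ≤ 3 ^ 8 := by
  have : Fact (Nat.Prime 3) := ⟨Nat.prime_three⟩
  choose σ h1 h2 using D.surj
  have k : ∀ x : ↥(D.Q ⊓ centralizer {w}), ∃ p : Fin 243 × zpowers D.z,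
      (x : G) = σ (rowVec C (st (enc p.1) Bf)) * p.2 := by
    rintro ⟨x, hx, hc⟩
    obtain ⟨m, hm, -, e, -⟩ := fix_dec hs h hx (hw x hx (mem_centralizer_singleton_iff.1 hc).symm)
    obtain ⟨a, ha, f⟩ := D.vec_eq hx (h1 _) (e.trans (h2 _).symm)
    exact ⟨(⟨m, hm⟩, ⟨a, ha⟩), f⟩
  choose f hf using k
  have hi : Function.Injective f := fun x y e => Subtype.ext (by rw [hf x, hf y, e])
  refine (Nat.card_le_card_of_injective f hi).trans ?_
  rw [Nat.card_prod, Nat.card_zpowers, orderOf_eq_prime D.z3 D.z1, Nat.card_eq_fintype_card, Fintype.card_fin]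
  norm_num

theorem fix_gen {s : G} {M Cf Bf Df R0 : ℕ} {LG : List G} {MG : List ℕ} {ws : List (List ℕ)} (hs : D.Rep s M)
    (hG : List.Forall₂ D.Rep LG MG) (h : fixC M Cf Bf Df = true) (h' : rowC MG M Bf R0 ws = true) {K : Subgroup G}
    (hz : D.z ∈ K) (hK : ∀ q ∈ D.Q, Commute s q → ∀ c ∈ D.S, D.vec (c⁻¹ * q * c) = rowVec C R0 → q ∈ K) {x : G}
    (hx : x ∈ D.Q) (hc : Commute s x) : x ∈ K := by
  have : NeZero C.p := ⟨by decide⟩
  have hZ : zpowers D.z ≤ K := zpowers_le.2 hz
  let W : AddSubmonoid V :=
    { carrier := {v | ∀ x ∈ D.Q, D.vec x = v → x ∈ K}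
      zero_mem' := fun x hx e => hZ ((D.ker hx).1 e)
      add_mem' := by
        intro u v hu hv x hx e
        obtain ⟨a, ha, ea⟩ := D.surj u
        obtain ⟨b, hb, eb⟩ := D.surj v
        obtain ⟨c, hc, rfl⟩ := D.vec_eq hx (mul_mem ha hb) (by rw [e, D.add ha hb, ea, eb])
        exact mul_mem (mul_mem (hu a ha ea) (hv b hb eb)) (hZ hc) }
  obtain ⟨m, -, -, -, e⟩ := fix_dec hs h hx hc
  have rB : RedG C Bf := by
    simp only [fixC, Bool.and_eq_true] at h
    exact redG_of_check gd h.1
  have hrow : ∀ j : Fin C.n, mat C Bf j ∈ W := by
    intro j q hq f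
    obtain ⟨u1, u2⟩ := unitRow_ok gd (c := 1) (by decide) j.isLt
    obtain ⟨u3, u4⟩ := st_spec u1 rB
    rw [u2, Nat.cast_one, one_smul, Matrix.single_one_vecMul] at u4
    have f' : D.vec q = rowVec C (st (unitRow C 1 j) Bf) := f.trans u4.symm
    have h1 := allBelow_spec h' j j.isLt
    simp only [force_eq, Bool.or_eq_true, Bool.and_eq_true] at h1
    rcases h1 with h1 | ⟨h1, h2, h3⟩
    · rw [Nat.eq_of_beq_eq_true h1, rowVec_zero] at f'
      exact hZ ((D.ker hq).1 f')
    · obtain ⟨c1, -, c3⟩ := rep_rn hG h2 u3
      exact hK q hq (hs.comm u3 h1 hq f') _ c1 (by rw [c3 q hq f', Nat.eq_of_beq_eq_true h3])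
  have hW : D.vec x ∈ W := by
    rw [e, Matrix.vecMul_eq_sum]
    refine sum_mem fun j _ => ?_
    rw [← ZMod.natCast_zmod_val (rowVec C (enc m) j), Nat.cast_smul_eq_nsmul]
    exact nsmul_mem (hrow j) _
  exact hW x hx rfl

theorem fix_cls {s : G} {M Cf Bf Df Fm : ℕ} {LG : List G} {MG rl : List ℕ} {tab : List (List ℕ × ℕ)} (hs : D.Rep s M)
    (hG : List.Forall₂ D.Rep LG MG) (h : fixC M Cf Bf Df = true) (h' : clsC MG Bf Fm rl tab = true) {x : G}
    (hx : x ∈ D.Q) (hc : Commute s x) : ∃ c ∈ D.S, ∃ k < rl.length, D.vec (c⁻¹ * x * c) = rowVec C (get rl k) ∧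
      (k ≤ 1 ↔ D.vec x ᵥ* mat C Fm = 0) := by
  obtain ⟨m, hm, u1, e, -⟩ := fix_dec hs h hx hc
  rw [clsC, Bool.and_eq_true] at h'
  have h1 := allBelow_spec h'.2 m hm
  rw [force_eq] at h1
  generalize getA ([], 0) tab m = t at h1
  simp only [Bool.and_eq_true, Nat.blt_eq, beq_iff_eq] at h1
  obtain ⟨k1, k2, k3, k4⟩ := h1
  obtain ⟨c1, -, c3⟩ := rep_rn hG k1 u1
  obtain ⟨v1, v2⟩ := st_spec u1 (redG_of_check gd h'.1)
  refine ⟨_, c1, _, k2, by rw [c3 x hx e, Nat.eq_of_beq_eq_true k3], ?_⟩
  rw [← Nat.ble_eq, k4, e, ← v2, Nat.beq_eq]
  refine ⟨fun k => by rw [k, rowVec_zero], fun k => ?_⟩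
  exact rowVec_injOn v1 (okR_spec (by decide +kernel)) (k.trans rowVec_zero.symm)

end Mod

end Cfsg.Agent.SB.F24.Md

private theorem dce_d5d0fd557063 : _root_.True := by
  try have : _root_.True := by simp only [_root_.Cfsg.Agent.SB.F24.Md.tbE.eq_1]
  try have : _root_.True := by simp only [_root_.Cfsg.Agent.SB.F24.Md.fixC.eq_1]
  try have : _root_.True := by simp only [_root_.Cfsg.Agent.SB.F24.Md.clsC.eq_1]
  try have : _root_.True := by simp only [_root_.Cfsg.Agent.SB.F24.Md.linB.eq_1]
  try have : _root_.True := by simp only [_root_.Cfsg.Agent.SB.F24.Md.affE.eq_1]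
  try have : _root_.True := by simp only [_root_.Cfsg.Agent.SB.F24.Md.affC.eq_1]
  exact _root_.True.intro
end

-- part: SB/Mon/F24/Dat
section
set_option linter.all false

/-- decoders of the packed data (elaboration time only) -/
private noncomputable def pk61d (b S i : Nat) : Nat := Nat.mod (Nat.shiftRight S (Nat.mul b i)) (Nat.shiftLeft (nat_lit 1) b)
private noncomputable def pk61f {α : Type} (t : Nat) (f : Nat → α) : α := Nat.rec (f Nat.zero) (fun k _ => f (Nat.succ k)) t
private noncomputable def pk61l {α : Type} (f : Nat → α) (s e : Nat) (tl : List α) : List α :=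
  pk61f e fun e => Nat.rec tl (fun k ih => List.cons (pk61f (Nat.sub e (Nat.succ k)) f) ih) (Nat.sub e s)

/-!
# S5765, the row `Fi24'`: the tables of the linear model (helper96; generated)
-/

set_option autoImplicit false
set_option maxRecDepth 100000

namespace Cfsg.Agent.SB.F24.Md

open Cfsg.Agent.Lib.PackMat Cfsg.Agent.Lib.PackMatGroup Cfsg.Agent.Lib.PackMatMul
open Cfsg.Agent.Lib.PackMatOrbit (memB nodupB)

def g0 : ℕ :=
  4203730336031677396989105882825350459859152168129056799351805311570611272989354375711921174797212319945974818821439896597650466897751428989596943826957518449235623536339759253203880007531936540711497626611371515857755407474379032857375558140729427988316692794303928472586256062210292859552875060508153599832791711136654564606786220708464651733967805958062082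

def g1 : ℕ :=
  8407461173187061615382295272444917164642951616695605399609631078936679372872015609213760511429819888126487306509549626773154373073383197280550536646193780579822813688618162959691048654096894307474992699665789645362503148242572291574840917015346108064870652563874790878681041224782649953524604743927607799485241003429255972295199470411839928637496993955971074

def g2 : ℕ :=
  4203730336031677396989105882825350459859152168129056799351805311570611272989354375711921174797212319945974818821439896597650466897751428989596943826957518449235623536339759253203880007531936540711497626611371515857755407474379032857375558302120045368748479647798876722774498207846547686224097558452797555785492191599660900516154050095764843990222907151220737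

def g3 : ℕ :=
  8407460922747582732613971495443362650469850400398889430170026210437995333630785736169139387567904590045901891193929342865040408096082758210201753620229359830897182463920632221729288737358844065551827754334673760901482816127565626198040970015425943053028989886086895076552124639034257109095133019325555649597669686044785001405038598859535366189236782035369985

def g4 : ℕ :=
  8407460922625208211973898807388933239823060325222072511868933059425562260440405580257488119471110571101024075705023800205016094295546742176579427228536021411653341444938455256110850352144477264199969171241255023771442888894016418075730957361314465415933748503175659212855238422015652885737921153816126628822220886288270057434028474722790386680777364522139649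

def MG : List ℕ := [g0, g1, g2, g3, g4]

def Wr : List ℕ := [2, 3, 1, 4, 2, 3, 4, 1, 2, 3, 0, 1, 4, 2, 3, 4, 1, 2, 3, 0, 1, 4, 2, 3, 4, 1, 2, 3, 0, 1, 4, 2, 3, 4, 1, 0]

def Mr : ℕ :=
  8408486973414925027717711059079125083868944407787584424230664347251593206032608950752085856882212189312346104030347265377098953429362089782774528384586133797066835310205782469880184881732095348883566068853850356863249190211752088940861860015592346068411343881084310170379857730793087244858767234090763230153033427377344138659364446257786653910016419459768321

theorem ev_r : okW MG.length Wr = true ∧ Nat.beq (evL mu MG Wr c1) Mr = true := by decide +kernel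

def Wt : List ℕ := [1, 2, 4, 1, 2, 4]

def Mt : ℕ :=
  4203730586593530811336857290618130950374890745260953796398859221164913668531251381364304925690565724904966246991092763592584065259058565974676516060002689738087648836071779956446503167200681468055559004852098536217329971199676127485819450279236107722467646744351465232423499569101420455905564380290059617079586309478731909110666298800617954296940814468648960

theorem ev_t : okW MG.length Wt = true ∧ Nat.beq (evL mu MG Wt c1) Mt = true := by decide +kernel

def Wa : List ℕ := [0, 1]

def Ma : ℕ :=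
  8407461173187061615382295272497962747189731583553427380077724926768236924956213375591817572724036706678755667494036527811337582994189032909322523876800246821819975173160529604576584210011375539297088726819913350938961248666183564094916039665500385562707350999763371311678591367194935559230550302280717377271855785076211593618285403040252084991748314085982209

theorem ev_a : okW MG.length Wa = true ∧ Nat.beq (evL mu MG Wa c1) Ma = true := by decide +kernel

def Wb : List ℕ := [0, 1, 0, 2, 1, 0, 4, 1, 0, 2, 1, 4]

def Mb : ℕ :=
  501123706825050238357089227614631778291876225372957798809442021077939212616810739152127554928591620826418501792250026727544027567983473955056623565618878466794944816817454793362445239067471232724775922013459195285393686007856513836605487425912962499494668009557897180567139139793590468630142517490433824999503893743949394828837457756560995867789623297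

theorem ev_b : okW MG.length Wb = true ∧ Nat.beq (evL mu MG Wb c1) Mb = true := by decide +kernel

def We0 : List ℕ := [1, 2, 4, 2, 3, 2, 1, 4, 2, 0, 1, 4, 2, 3, 0, 1, 2, 4, 3, 1, 4, 2, 0, 1, 4, 2, 3, 0, 1, 4, 3, 1]

def Me0 : ℕ :=
  4203730837155384222038453848062815621079012547600539419284045591203048422941414948080143549453664847508419752300928601477569310606992528930247695418035600828781915827393442948830065959163009296960149439466240934457073324840633554364591254017310282484184493962027174304238400344490908928415273521920887391956337790219320526917695989228259583323535798192570369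

theorem ev_e0 : okW MG.length We0 = true ∧ Nat.beq (evL mu MG We0 c1) Me0 = true := by decide +kernel

def We1 : List ℕ := [3, 4, 2, 3, 2, 1, 4, 2, 0, 1, 4, 2, 3, 0, 1, 2, 4, 3, 1, 4, 2, 0, 1, 4, 2, 3, 0, 1, 4, 2, 3, 2]

def Me1 : ℕ :=
  4203730336031677396989105882825350466184222583982513622867284896536777118287999680841362373450379758303172930321294700347874309722998340019450430167107399312433461856691736196830001177011556199259784993750996053865992276445215615599255372117496608100869876858504820513683097813673005524445784734625104137045661417344435062320280549785451269083022214689726466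

theorem ev_e1 : okW MG.length We1 = true ∧ Nat.beq (evL mu MG We1 c1) Me1 = true := by decide +kernel

def We2 : List ℕ := [4, 2, 3, 2, 1, 4, 2, 0, 1, 4, 2, 3, 0, 1, 2, 4, 3, 1, 4, 2, 0, 1, 4, 2, 3, 0, 1, 4, 3, 2]

def Me2 : ℕ :=
  4203730586593530814983902532711820326551989867684697645959087278447901709718619874151782368179682409407842767916452882318445360291799573656165292810491049237207463548024598606159760200566703958657083115653943781915273320188459736596655973484266683784382110325236372970275830487437029380098333853356886027215196269967487347798443513551242626633574235456413698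

theorem ev_e2 : okW MG.length We2 = true ∧ Nat.beq (evL mu MG We2 c1) Me2 = true := by decide +kernel

def We3 : List ℕ := [0, 1, 2, 4, 2, 3, 2, 1, 4, 2, 0, 1, 4, 2, 3, 0, 1, 2, 4, 3, 1, 4, 2, 0, 1, 4, 2, 3, 0, 1, 4, 3, 1, 0]

def Me3 : ℕ :=
  4203730837155384222038453848115861203625792514458361399752139438994669678206895518226912449722369144422762807134622504330280439012839714220043323020606695413014319839328433086792425407296529805526482130896471149515758505993875758097167092661393948366300266919798808499681077856270703246707514743149338861040631557517358046271757666679000035901519894377660417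

theorem ev_e3 : okW MG.length We3 = true ∧ Nat.beq (evL mu MG We3 c1) Me3 = true := by decide +kernel

def We4 : List ℕ := [2, 1, 2, 3]

def Me4 : ℕ :=
  2052602703170340427467837641596726201723738005865924416541043805825894489281853829041387249087615796133338355028140470335576479126907106387511754393600877804527710922231897519443731561810803019226178754991390075044115337701033615356701694903771326646196984634358314854148886761718950188683074560508745296146793210542505004205244144659578250275368095186946

theorem ev_e4 : okW MG.length We4 = true ∧ Nat.beq (evL mu MG We4 c1) Me4 = true := by decide +kernel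

def EC : List ℕ := [Me0, Me1, Me2, Me3, Me4]

noncomputable def TF : List (ℕ × List ℕ × ℕ × List ℕ) :=
  (by
  refine (?fq9001 : ((pk61l (fun i1 => (_root_.Prod.mk (pk61d (nat_lit 1189) (Nat.add (Nat.add 
    (nat_lit 0x400400800400800000000400800800000000400000400000400000000800400000800800000800000000000400400400800800400400400800800800400000000000800400800400000800000000000800800400800400400000000000400000800800800400800000000800a0000040000000020000000020040040020000040040000000000020000020000020000000040000000020040020020040020020020000000000020020020020040020020000000000040040000020000000020000000020040000000000000000000000040000000000000000000000000020040000000040040020040020020000000000020000040040040020040000000040050000010000000020000000020010000010010010010020000000010010020000010000000010000000020010010020000010020000000000020000010020000010010000000000010000010000020000000010000000020010000000000000000000000020000000000000000000000000010020000000020010000010020000000000010000010010020010020020000000000018000010000000008000000010008000008010010010008000000008008008000008000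00001000000001000801000800000800800000000001000001000800001000800000000000800001000000800000000800000001000800000000000000000001000800000000000000000000000001000000000001000800000801000000000000800000800801000801001000000000000c00000400000000800400400000000000400800400400000800000000000800000400000000400400400000000800800000400800400000400000000000800800400400000400000000000400000800000000400400400000000000400800400800000400000000000800800000800400800000400000000000000000000000000000000000400000000000000000000000000800a000000000000000000000000000004002000000000000000000000000000000002000000000000000000000000000004002000000000000000000000000000000002002000000000000000000000000000002000000000000000000000000000000004002000000000000000000000000004000000000000000000000000000000000000002000000000000000000000000004005000002000000001000000001002000001002002002001000000002002001000001000000002000000001002002001000001001000000000001000002001000002001000000000002000002000001000000001000000001002000000000000000000002001000000000000000000000000002000000000001002000002001000000000001000002002001002001001000000000001)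 (Nat.shiftLeft 
    (nat_lit 0x2000000002004000000000000000000000004000000000000000000000000002004000000002004000004002000000000002000004004002004002002000000000002000002000000002001001002001000000001002001002001002002000002000000000000002001001002001001002000000001002002000000002000001000001000000002001000001002000002000000000001001002001002001001001002002002001000000000002001002001000002000000000001001002001002002000000000001000001001001002001000000002002800001000000000801001000000000000800801001000000800000000000800000800000001001001000000000800800000800801000001000000000000800801000800001000000000001000000800000000801001000000000001000801000800000800000000000800800000801000800000800000000000000000000000000000001001000000000000000000000000000800400000800000000400000000800400800400000800800000000000800000400000400000000800000000800400400400800400400400000000000800400400400800400400000000000400800000400000000400000000800400000000000000000000000800000000000000000000000000400800000000400400800400800800000000000400000400400400800400000000800a0000020000000040020020000000040020020020020020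02004000000004000002000000002002002000000000004004002004000004000000000002004002002002002004002000000002000004000000002002002000000004002002002004004004002000000000004002004002000004000000000000000000000000000000000004004000000000000000000000000002001000000000000000000000000000001001000000000000000000000000000000001000000000000000000000000000001001000000000000000000000000000000001002000000000000000000000000000001000000000000000000000000000000000002000000000000000000000000001002000000000000000000000000000000002002000000000000000000000000001000000000000000000800000000000000000000000001000800000000000000800000000000000000000000000001000800000000000000000000000000000000001000000000000000000000000000800000000000000000000000000000000000000000001000000000000000000000000000801000000000000000000000000000000000800000000000000000000000000000000800000800000000800400400400800000000400800400800400800400000800000000000000800400) (nat_lit 8000))) (Nat.shiftLeft (Nat.add 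
    (nat_lit 0x1000000000000000000000000000000001000001000000001001001001000800000001001000800000001000001001000000000000001001001001000801001000000000800001000800800801000801000800000000000801001001000001000000000001001001000801001000001000801000001000000001000800800801001000801000000000000800800801000800000001001001000800000801000000000000800400000400000000800000000800400400400800400400400000000000800800000400000000400000000800400000800400400800400000000400400000800400400400800000000800800400000800000000400000000800400000000000000000000800400000000000000000000000000800000000000000400400400800400000000800800800400000400800000000000400000000400000000400200200400200000000400400200000000200000400400000000000000400200200400200400400000000200000200400200200400200400200000000000400400400400000400000000000200200400200200200000200400200000400000000200400400400200200200400000000000200200200400200000000400400400200000200400000000000200100000200000000100100100000000100100000200200100000100000000100000100000000200100100000000200100100100100100100200000000100100000200100200000200000000200000100000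0001001001000000001001000001002001000002000000001002002002001001001002000000000000000000000000000000000001000000000000000000000000002002000000000000000800000000000000000000000001000000000000000000800000000000000000000000000000800800000000000000000000000000000000801000000000000000000000000000800000000000000000000000000000000000000000800000000000000000000000000000000800000000000000000000000000000000000800000000000000000000000001001000000800000000800400400400800000000800800400000000400000400800000000000000800400400400800800800000000400000400800800800800400800400000000000800400400800000800000000000400400400800400400000400800400000800000000400800800800400400400800000000000800800800400800000000800800400800000800400000000000400200000200000000400000000200400000200200200200400000000400400400000200000000200000000200400200400000200400000000000200000200400000200200000000000400000200000400000) (Nat.shiftLeft (Nat.add 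
    (nat_lit 0x8004000000000000000000000000000000000004000000000000000000000000008004000000000000000008000000000000000000000000004000000000000000000000000000000000000000000000004000000000000000000000000000000004000000000000000000000000000000008008000000000000000000000000004000000004000000004004004004002000000002004002004004002004000004000000000000004004004004002002004000000002004002000000004000002000002000000002004000002004000004000000000004004004002002004004004002002004002000000000002004002004000004000000000002002004002004004000000000002000002002002004002000000004004000002000000002002002001002000000002002001000000002000001002000000000000002002002001002002002000000001000002001002002002001002001000000000001001001002000002000000000002002001002002002000002001002000002000000002001001001002002001002000000000002002002001002000000002002001002000002001000000000001000800000800000001000000000801000800801000800800800000000000801000000800000000800000000801000001000800801000800000001001000001000800800801000000000800800800001000000000800000000801000000000000000000001000800000000000000000000000001000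000000000001001001000801000000001001000801000001000800000000000800400000800000000400800800000000400400000800800400000800000000400000400000000800800800000000800400400400400400800400000000400400000800400800000400000000800000400000000400800800000000800800000800400800000800000000800400400400800800400800000000000000000000000000000000000400000000000000000000000000800a00000400000000200200200000000000200200400400000400000000000200000200000000400200200000000200200000200200400000200000000000200200400200000200000000000400000200000000200200200000000000200400200400000200000000000400400000400200400000200000000000000000000000000000000400400000000000000000000000000200000000100000000000000000000000000000100100000000000000000000000000000000000100000000000000000000000000200000000000000000100200000000000000000000000000100000000000000000000000000000000000000000000000200100000000000000000000000000200000000000000) (Nat.shiftLeft 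
    (nat_lit 0x200000200000000400400400000000000200400200200000200000000000400000200000000200400400000000400400000200400200000400000000000400400200200000400000000000200000400000000200400400000000000400200400200000200000000000200200000200400200000200000000000000000000000000000000000200000000000000000000000000400400000200000000200200200100200000000100200100200200100100000200000000000000200200200100200100200000000100200100000000100000100000100000000100200000200200000200000000000200200100200100200200200100100200100000000000100200100200000200000000000200200100200100100000000000100000200200200100200000000200280000080000000100100100000000100080080080080080100080000000100000080000000080100100000000000100100080100000080000000000080100080080080080080100000000080000100000000080100100000000080100100100080080100080000000000080100080100000100000000000000000000000000000000000100100000000000000000000000000080000000040000000000000000000) (nat_lit 8000))) (nat_lit 8000))) (nat_lit 16000))) i1) (_root_.Prod.mk ((fun g1 : Nat → Nat => pk61l (fun i2 => (pk61d (nat_lit 2) 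
    (nat_lit 0xfa50fa5fa0f50a50faf5a5e4f0a050e78d24fead95c840e4) i2)) (g1 i1) (g1 (Nat.succ i1)) List.nil) fun j => (pk61d (nat_lit 7) 
    (nat_lit 0x182c52991a03c70d182c509109e3660b14244070c14203040608080) j)) (_root_.Prod.mk (pk61d (nat_lit 3) 
    (nat_lit 0x15b6c91c92491d76bb6b492) i1) ((fun g1 : Nat → Nat => pk61l (fun i2 => (pk61d (nat_lit 3) 
    (nat_lit 0x8426a16a10a14e14d421429c6d421429c68888b8d18d421429c21a8428538436a10a14e35084d421a2214e16a350850a70b50850a70b6a10a14e14d421429c6d421429c68888b8d190a2e350850a7088426a14d421429c21b50850a71a8426a14c344429c2d46a10a14e16a10a14e17084d485172109a85421350a7084d4) i2)) (g1 i1) (g1 (Nat.succ i1)) List.nil) fun j => (pk61d (nat_lit 9) 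
    (nat_lit 0x542913b97c922f0a7e3bdced966b0166a74e23d127c39994b04e200d04e200d0440e00) j)))))) (nat_lit 0) (nat_lit 30) List.nil) : List (ℕ × List ℕ × ℕ × List ℕ))
    = ?xq9001 → (List (ℕ × List ℕ × ℕ × List ℕ))) ?hq9001; (case hq9001 => (set_option maxRecDepth 1000000 in conv => lhs; reduce)); intro _; exact ?xq9001 : List (ℕ × List ℕ × ℕ × List ℕ))

noncomputable def TR0 : List (ℕ × List ℕ × ℕ × List ℕ) :=
  (by
  refine (?fq9002 : ((pk61l (fun i1 => (_root_.Prod.mk (pk61d (nat_lit 1190) (Nat.add (Nat.add 
    (nat_lit 0x20010000000010020010010010010000020010020000020020000020020000000020020010010000020010000000000010010020020000000020000010000010020020010000000000020010010020020010010000020000000020000020010020000010020000000000020000004004004008008008004004000000008000008008000008008000004004004008000000004004000008000004004000000000000004004000008000004004008000000000000004000008008000008008000000008000004000004008008004004008000000004004008008000008004000000000008008000000008000008004004004000008000000008008000008008002000002001001002000000002000001002001001002002000000001002000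00100200200000000200200100100200000200100000000200100200000000100000000200000100000200100200200000000200200100100000200100000100200200100100200000000100100200200000200100000000000000000100100100000000200000200000000000100100100100000100140080000000080000080080080000080080000000040080000080040080000000040040040080040040040040000000080000080080000040080000040080080080080080000000080040000040000080000080000000000080000080000040000040040080000000040080080000080040040000000000000040000080000000080040000080080040040080000000000080040040020000000020010020020010010010000000000020000000020000010000000020010010010010010000020000000000020010020000010010020010000000010020020000000010010010010020020000020000000020000010000010020020010010020000000010010020020000020010000000000000010000020000000020010000020020010010020000000000020010010008000000008004008008004004004008000000004004008004004008000000008004004004004004000008000000008000008000004008004004000008004008008000000000008004004004008008000008000000008000008008004004000004008000000000000008008000008008000008000000004004008008000000004000008000000004000008000000008004000009000000000000000000000000000000001000000000000000000000000000000001000000000000000000000000000000001000000000000000000000000000000001000000000000000000000000000000001000000000000000000000000000000001000000000000000000000000000000001000000000000000000000000000000001000000000000000000000000000000001)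 (Nat.shiftLeft (Nat.add 
    (nat_lit 0x800800800400800400800800800400400800400000000000400800400800000800000000000000800800800400800000000800800400800000800400000000000400100200000000200000200200200000100000000000200200100000200200000000100100100200100100100100000000100200100000200000100200100000200100200100000000200000000100000200000200000000000200100000200200200000000100000000000100000200000200200100000000200100100200000000000200100100100100200200000000100000200040000080000000040000000040080040040040080080080000000000040040000040000000080000000040080000040040040040080000000080080000040080080040080000000040040080000040000000040000000040080000000000000000000040000000000000000000000000000000040000000000080080080040080000000080080040080000080040000000000040000020000000020010020020010010010010000000000020010000020000000000020010010010010010000020000000010010000010020000010000020010020000020010000000000010010010020020000020000000020000000010010000010010000010000000020000020010010020020010000000020010010020000000000020010010010010020020000000010000020008000004000000004000000004008000008004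004008004000000008008004000008000000004000000004008008004000008008000000000004000004008000008008000000000008000004000004000000008000000004008000000000000000000004000000000000000000000000000000004000000004008000008004000000000004000008008004008004004000000000006000000000000002001001002001000002000000001001000001002000002000002000000000001001002001000002000002000000001002000002000000001001002000000002000001000000002000000002001001002001001001000001002001000002000000001002002002001001001002000000001001002001002002000000000001000001001001002001000000002002400000400000000800000000800400800400000400400000000000800000800000400000000400000000800400800800800400800800000000000800800800800400400400000000000400400000800000000400000000800400000000000000000000400000000000000000000000000000000400000000400400800400800800000000000400000400400400800400000000800a0010000000010010020010010020020000000000020000000020000010000000000020020010000020) (Nat.shiftLeft 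
    (nat_lit 0x2000000000002001001001001002002000000001000002000400000800000000400000000800400400400400800800800000000000800400000400000000800000000800400000400400400400800000000400400000400800800400800000000800800800000400000000400000000800400000000000000000000400000000000000000000000000000000400000000000400400400800400000000800800800400000400800000000000400100000100000000200100100000000100100000100100200000100000000200000100000000100100100000000100200100100200200100200000000200200000100100200000200000000100000200000000100100100000000100100000100200100000200000000100200200200100100100200000000000000000000000000000000100000000000000000000000000000000180080000040000000000080080040080040080000000000040000000080080040080000040080040000000000040040040080080080040040000000000000000040080000080080080000000000080080080080080040040080080080000000080000040080080080080040000000040080040000000080080040080000040080000000000080080000000080080080000000040040000010010010020020020010010000000010020010000010000010020010010010020000000010010000020020000000010000000020000010010020020000010010020000000020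010000020020000020020000000020000000010010000010010000010000000020000020010010020020010000000000020000000020020000020020000010020000000020010010000000028000004000000004000000008004000008004004008004000000004004004000008000000004000000008004008004000008008000000000008000004008000008008000000000004000004000004000000008000000008004000000000000000000004000000000000000000000000000000004000000008004000004008000000000004000004004008004008008000000000006000002001001002000000002000002002002000001000000000002002000001002002000000002002001001002002000002000000000002001002002000000000001002002001002000002002000000002002001001000002000001001000001001000001000000002000002001001002002001000000000000000001001001001000001001000000002001001002002001002000800000800000000000800800400800000800000800000000800400000400000000800000000800800800400800000000000800400400400000800800400400000000800000400800400400800000000000000) (nat_lit 8000))) (nat_lit 8000))) (Nat.shiftLeft (Nat.add (Nat.add 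
    (nat_lit 0x2000002000000002001000002000000002000000002002002002001000000000002001001001000001001001001000000002000001002002002002000000000000002002002002001001002002002001001002001000000000001002001002000002000000000000001001001002001000000002002002001000001002000000000001000400400000000400800000800400800800000000000800800400000800800000000400800800000400000800400000000800800400800400400400400800800400800800800800800000000000800000400000800800400000000000400000800000000400800000400800800400400000000400000800000000800000400000800000000000800400400800000400000000000400400000000100100000200200200000000000200000200100100000000200000100200200000000100100100100200100100000000000200000000100200000000100200200000000200200100200200000200100000000000200100000200200200000000100000000000100000200000200200100000000000200000000200200000200200000100200000000200100100000000240000040000000080000000040080080040000040040000000000040000080000040000000040000000040080080080080040080080000000000040080080080040040040000000000080040000080000000040000000040080000000000000000000040000000000000000000000000000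0000400000000800800400800400400000000000400000800800800400800000000800a00000100100100000000000000200200200000100200100000000100200200100000200000000200200200000200000100100000000000200000200200100000000200200200100200100000200000000200100100100100100100000200200200000000100000000000100000200000200200100000000000000000100100100100000100100000000200100100200200100200040000080000000040080080000000080040080080080080080040000000040000040000000080080080000000000040080040040000040000000000080040080080040040040080000000080000040000000040080080000000040080080080040040080040000000000040080040080000080000000000000000000000000000000000040000000000000000000000000000000060020000000020020020020000020000020000000010000010000010020000000000010010000010010020000000000020000020010020000000020020020000020020010000000020010020010010020000020000000010010010020020010000010000010000000020020020000020000020010000000020010010) (Nat.shiftLeft 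
    (nat_lit 0x4000000000004008008004000008008000000008000000008004004008004000004008004008000004000000000008008000008004008000004000000000004004004008004000000008008008004000004008000000000004001002002001000002000002000000001000000002001001001000000000000001000000001000001000001002002002000000001001001001000001000000000001002000002002001000000000002002002002002001002001000001000002000000001002000001002002001001000000001000002000001002002001000002000000001001000001002000001001000000002000000400800800000000800800400400800400400000000000400000000400800800000000800800400400000800000800000000400000800000400800400400400000800000000000400400800000800400400800000000800000000400400000400400000400000000800000800400400800800400000000000000400400400000000800000800000000000400400400400000400600100000000100100200100100200000200000000100200100100200200000000000200200100000200200100000000100000200000100200100100000100100000200200000200000000200200100100000200100000000000000100000200000000100200000100200200100100000000100000200000200100200000100200000000000200200000000200200200000000100140040080080000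0800000000800000400800400000400800000000000800000800000000800400800800400400400000000000800000000800000400000000400000400000800400800800000000800400400400400400000800000400400000400400000400000000800000800400400800800400000000400400800800000000400000800000000400000800000000800400000a000000000000002001001001002000002000000001001000001001000002000002000000000001001001002000002000002000000001002000001000000001001002000000002000002000000002000000002001001001002001001000001002001000002000000001002002002001001001002000000002002001002001001000000000001000002002002001002000000002002400400400800000000400400000800400800800800000000400800400800000800800000800800000000800000400000800800400000000000000800000000800400800000800000800400000000400400400800800800400400000400400000400400000400000000800000800400400800800400000000800800000000800000800400400400000800000000800800000800800200000200000000000200200200100000) (nat_lit 8000))) (Nat.shiftLeft (Nat.add 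
    (nat_lit 0x10000000000020020000020010020000010000000010020000020010000000000010000020020010020010010000000000018000000008008008004000000000008008004000004000008004000000004008004004000000008004004008008008004008000000004004000004008004000000008000008008004000004004000000004008000008008004000000004004004000000004000004000000004008008004008004008000008000000008008008000000004004008008004004000008000000008000000001001001002002002001001000000000001000001002001000001001001001002000000001001000002001002002002000000001002001002002001002001000001000000001001000002002000002002000000002000002002001001000001002000000000000002002000002002000002000000001002000000002001001000000002002002000000002000002001001001800000800400400800000000800000000800000800000400000000000800000400800800000000800800400400800400400000000000400000000400400800000000000400000800800800800800000000800800400400000800800800400400000400800000000000000800800000800800000800000000000000800400400800800400800000000000400400400000000800000a0000020000000000010010010020020020020020000000020000010000000000020000000020010010010020000000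02002001000000001000001002001000000002001001000000002002000000000000002001001001002000001002001002000001000000000002002000002001002000001000000002002001002001001000000000001000002002002001002000000002002400800000000800000800800800000000400000000000800800400000800000000400400400800400400400400000000000400000400400800000400400400800000800000000000800800000400000800000800000000000800800400400000400800800000000000800000400400400000000800000000400400800800000000400000800000000400000800000000800400000a0000010000000010000000010020010020000010020000000000010000010000020000000010000000010020010010010020020020000000000010020020010020020020000000000020010000010000000020000000010020000000000000000000020010000000000000000000000000020000000000020020010020010010000000000010000020020020010020000000020028000000000000008004004008004004008000000004008008000000008008000008000000000004004008004004008004008000000000004004) (Nat.shiftLeft 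
    (nat_lit 0x2002000000002002002002000002001000000000002001002001001000000000000001001000001001002000000000002002001001001002001002001000001001002000000000000002002001001002000002000000001001001000000002002002002000000000002001001002000002000002000000001001002002000000001000002000000001000002000000002001000002000000000000000400000000000000000000000000800800000000000000400000000000000000000000000000000400000000000000000000000000000000800800000000000000000000000000400000000000000000000000000000000000000000800400000000000000000000000000800000000000000000000000000000000000800800000000000000000000000000400000000200000000200100100100200000000000200100100200000200200200000000000000200100100100200000200000000100100000100100000100100100100000000100000200000200000200000000000100100100200000100200100200000) (nat_lit 8000))) (nat_lit 16000))) (nat_lit 24000))) i1) (_root_.Prod.mk ((fun g1 : Nat → Nat => pk61l (fun i2 => (pk61d (nat_lit 3) 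
    (nat_lit 0x42432422448046044034042032022048e37228d36a24d290c65b31148c25928990461b110484209100602008124714304) i2)) (g1 i1) (g1 (Nat.succ i1)) List.nil) fun j => (pk61d (nat_lit 8) 
    (nat_lit 0x817d7975716d6965615d595653504d4a4744413e3b3835322f2c292623201d1a1714110e0b09070503010000) j)) (_root_.Prod.mk (pk61d (nat_lit 3) 
    (nat_lit 0xe425552484b2896514894514536e1250) i1) ((fun g1 : Nat → Nat => pk61l (fun i2 => (pk61d (nat_lit 3) 
    (nat_lit 0x8d111181c2116a109c45c6e108b5084e22e350868c4e34442e22d421c51171168c4d110b88b50871a2217116a10e24d11084e221c61a22109c4438e146344470a31a2238518d111185385190a31a22428c68c2918d111350c28c68c70a31a3117138422e428c68c70a31a3110d26888427110e221a) i2)) (g1 i1) (g1 (Nat.succ i1)) List.nil) fun j => (pk61d (nat_lit 9) 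
    (nat_lit 0x9c4be370884421faec7033978ab4d269348f47a1108843d1e8de6f32968b45a2693486431d0e85a230d0540a05028140000) j)))))) (nat_lit 0) (nat_lit 43) List.nil) : List (ℕ × List ℕ × ℕ × List ℕ))
    = ?xq9002 → (List (ℕ × List ℕ × ℕ × List ℕ))) ?hq9002; (case hq9002 => (set_option maxRecDepth 1000000 in conv => lhs; reduce)); intro _; exact ?xq9002 : List (ℕ × List ℕ × ℕ × List ℕ))

noncomputable def TR1 : List (ℕ × List ℕ × ℕ × List ℕ) :=
  (by
  refine (?fq9003 : ((pk61l (fun i1 => (_root_.Prod.mk (pk61d (nat_lit 1190) (Nat.add (Nat.add 
    (nat_lit 0x200000100100000200200100000000100200000000000200000200100200000200000000100100100200200200100100200200100100000100200000000000000200200000200200000200000000000200000000200200000200200000100200000000200100100000000280000040000000040080080000000080080000040080040000080000000040000080000000040080080000000080040080080080080080040000000080080000080080040000040000000040000040000000080080080000000080080000080040080000080000000080040040040080080040080000000000000000000000000000000080080000000000000000000000000040000020020010000000010000020010010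010020000000000020010010010010010020000010000020010000000000010020020020010010010000000000000020010020020020020000020000000000020020010000020010020000020000000020020000010010000010010000000010000020010010010010010020000010000000000010010020000010020020010000000020000000000004004000008008008000000000008008004004008004004008000004008008000000004004004004008000008004000000004008008000000008008004004000000000008004004008008000008004000000000008008004004000004008008000000000008000004004004000000008000000004008000000008004004000000008008008000000008000008004004006000001000000001000000002001001002000001002000000000002000001000002000000001000000002001001001001002002002000000000002002002001002002002000000000001001000001000000002000000002001000000000000000000002001000000000000000000000000002000000000001001002001002002000000000001000001001001002001000000002002800000400400400000000000000800000800800000400400000000400000800400000800000000800800800000000800400800000000400000400800800000000000400000000800000800000800000000800400400400400400800400400000400800800000000000800000400400400000000800000000000000800400400800800400800000000000400400400000000800000a000002000000000002002001002001002001002000000000002002002000000002000000002002002001002000000001002001002002001001000000001000000002002000001002000002000000000000002002002001002002002000002001002000002000000002001001001002002001002000000001002000002001000000000001000002002001002001001000000000001)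 (Nat.shiftLeft (Nat.add 
    (nat_lit 0x400400800000400000000800800800800000000000800400400800000800000800000000000000800400400800800400800000000000400400400000000800000800000200000000200100100200100000000000200100100200000100100200000000000000200100100200100000200000000100100000100200000100100100100000000100000100000200000200000000000100100200100000100200100200000100000000000200200000200100200000100000000200100000100200000000000100000100100200100200200000000000100000040080080000040000040080000000000040000080080040000040040080040040000000080040080040080080040080000000040040000080040080000040040000080080000000000040080000040040000080000000000080000000080080000040040000040040000000040000080040040040000040080000040040000000080000080000080080080000000000000080010020020000000020020010010020000020010000000020010020000020020000000020020010010000020010000000000020010010020010000000010000010000020000000000010020000020010010020000000020000020020010010000010020000000000000020020000020020000020000000000000000010010010010000010010000000020010010020020010020008008000004000000000008008004000008008008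00000000400400400400800400800000400800400000000000800000800800400000000400000000000000800000400800400000000800000000800800800800800400400800000800000000800800000400400000400400000000400000800400400400800000000800800800000000400400800800400400000800000000800100100200200000200000000200000000100200100100000000000100200000200000000200100200200100100100100000000000200100000200000000000000100200100000200200100000000200100100100100100000200200200100100000100200000000000000200200000200200000200000000000100000200000000200100000200200100100200000000000200100180000080000000000040040080040080080080080000000080000080000000000080000000080040040080040000000080080040000000040000080080040000000080040040000000040080000000000000080040040080040000040080040080000040000000000080080000080040080000040000000040040080040080080000000000040000040040040080040000000080090010010020000000010010000020000010010000000000000010010000000020020000020020000000) (Nat.shiftLeft 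
    (nat_lit 0x10000000000010010020000010020020010000000020000004000008000008000000000008008008004000004000000000004004004008000000008000008008008000004000000000008008004000008008000000004000004004000008004000000000004004004008004004004004008004004000004008008000000000008000004004004000000008000000000004000008000000008004000008008004004008000000000008004006000000000000002001001001002001002000000001002002000000001002000002000000000001001001002001002001002000000000001002002000000000001002002001000001001000000002000000002001001001002000001002001002000001000000000002002000002001002000001000000000002002002001002000000002002001002000002001000000000001000000400800800000000400400400400800800000800000000000400400800400800800000800400000000000800400000000800400400000000400400000000400400800800400800800400000000000400400000800800800000800400400000400800800000000000800000400400400000000800000000000800000000800800000800800000400800000000800400400000000a0000020000000000020020020010010020010020000000000020010010000000020000000020020020020010000000010020010020020010020000000010000000020020000010010000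020000000000000020020020020010020020000020010020000020000000020010010010020020010020000000020010000010020000000000010000010010020010020020000000000010004000000004000004000004008008000000000008004008004004000000000008008008008008004008004000000000008004000004004008000000008008008008004008008000000004008008004000008000008000000008004004008000000000004008008000008000004000000008004000008004008008004000008000000004004000004008000004004000000008000000002001001001002002000002000000002000002000002001001001002001000002000000001001002000001001001000000000001002002002002000002001002001000000001000002002002000002000000000001001001000000002002002002000000000002001001002000002000002000000001002000000002001001000000002002002000000002000002001001001800000000400400400000000400400000800800400800000000000400800400400400800000000800800000800800000000400000000400000400400400400000000800400000800800400400800000000800) (nat_lit 8000))) (nat_lit 8000))) (Nat.shiftLeft (Nat.add (Nat.add 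
    (nat_lit 0x1001001001002001001000000000001000000001000001000001002002001000000000001000001002002000000002000001002001000000001000000002002002002002001002001002001001002000000000001002002000002000001000000002001000002000001002000001001000000002000002000002002002000000000000002000800800000800800000000800000400800400800000800000000800800000000400400400800800800400400000000400800400000400000400800000800800000000000000800800000400400400800000000400400000800800800400400000400800000000000000800800000800800000800000000800800000000800000800400400400000800000000800800000800800200100000000100100200100100200100100000000000100200000100000000000000200200100000200200100000000100100000200100000200000200000200100200100100200000000200200100100000200100000000000200100100200000000000100200200000200000100000000200100000200200000000200200200000000100100200200100100000200000000200080080000000080080040040000080080040000000000080000040040040080000080040040080000000080000080080080000040000000000080080040000040080000000040080040000000040080080000000080080040040080080040040000040080000000000000080080000080080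0000800000000000000400400400000000800000800000000000400400400400000400600200100100000200100000000000100000100200100200200100000000200100000000100100200100100200000200000000100200100100200200000000200100200200200200000100000000000200200100000200200100200100100200000000000100200200000200000100000000200100000200200200100100000200000000200000200100200000100200000000000280040000080000000080080080000040040040000000000080040080080000080000000080040040040040040040080000000040040040080040080000040040000080080000000080000080000040040040000000000000080080040040000040080080000000000080000040040040000000080000000000000000040040040040000040040000000080040040080080040080010010000000010020000020010020010020000000010000010010010000000000010020020000010000020010000000010000020020000010020000020010010000020010010000000000000020000010000020020010000000020010010020000000000010020020000020000010000000020010000020010010020) (Nat.shiftLeft 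
    (nat_lit 0x8008008000000000004004000004000000008000000008004004004004004000008000004000004004008000000004008008000008004004000000000000000004004004000000008000008000000000004004004004000004006000002000000000001001001002000002000002000000001002000001000000002000000002001001001002000000000002001001002000002002001001000000002000002001001001002000000000000002001001001002002001001001002002002001000000000002001002001000002000000000000002002002001002000000002002001002000002001000000000001000000000800000000800800800800400000000000800400400400000400400800000000000000800800800800400000800000000400400000800800000400400400400000000800000400000800000800000000000800800800400000800400800400000400000000000400400000400800400000400000000800400000400800000000000400000400400800400800800000000000600200000000200200200200000200200100000000000200000200100100000000000100100000100100200000000000200100000100000100200200000100200000200200000000100000200100100200000200000000100100100100100000100000100200000000200000000100100100100000000000000100000200000000200100000200200100100200000000000200100180000040000000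04000000004008008008008004008008000000000004004000008000000004000000004008000004008008008004000000008008000008008008008004000000004004004000004000000008000000004008000000000000000000000008000000000000000000000000004008000000000008008008004008000000008008004008000008004000000000004002000000000000002001001002001002002000000001000001002001001002000002000000000001001002001002002002002000000002000002000000000002001002001002001001000000000002000000002001001002001002001001001002002002001000000000002001002001000002000000000002001000001002000000000001000001001002001002002000000000001000000400800800000400000800400000000000400000800800400000800000800000400000800800400000000400400800400400400400400000000800400000000800000800800800000400400000000400800000800400800800400400800000000000400800800000800000400000000800400000800000800000400000800000000000800400400800000400000000000400500200200100000200000200000000000) (nat_lit 8000))) (Nat.shiftLeft (Nat.add 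
    (nat_lit 0x1002000000001001002002000002001000000000002001001002000000000002001001001001002002000000001000002000800000400000000400400400000000400800400400800800400800000000400000800000000400400400000000000400400800800000800000000000400800800800800800800400000000400000400000000800400400000000800400400400800800800400000000000800400800400000800000000000000000000000000000000000000400000000000000000000000000800900100100200000000100100000200200000000100000000200000100100000200200000200200000000200000100200100200000200000000200200000000100000100100000100100000000000100100100200200200100100100000100200200100100200000000100100200200000200100000000000100200000000200100100000000200200200000000200000200100100180000000000000080080080040080040080000000040080040000000040080000080000000000080080040080040080040080000000000080080080000000000040080080080000040040000000080000000080080080040080000080040080040000040000000000040040000040080040000040000000000080080080040080000000080080040080000080040000000000040020000010020020010020010000000000020010000010010000020000000020020000010000000000020010020000020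0200200000000100100200200100100000000200200200200000100000100000000100000100000200100000000000100100100200000200200000000200200200000000200000200200000100200200100000000200000000200000100000200000000000200000000040040000080080080000000000080040000040000080080080000040080080000000040040040040080080000080000000000040040080040040040040000040000000080000040080080000080040000000000080000080000040000040040080000000040080080000080040040000000000080080000000080000080040040040000080000000080080000080080000000010000000000000000000000000000000010000000000000000000000000000000000010000000000000000000000000020020000000000000020020000000000000000000000000010000000000000000000000000000000000000000000000000020000000000000000000000000010020000000000000000000000000000000000010000000000000000000000000020028000004004004000000000000008004008004008000004000000004004008004000008000000008008008000004004004000000000008004008) (Nat.shiftLeft 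
    (nat_lit 0x1002002000000002002001001002002000002000000000002001002002002000000002002001001000002002001000000000002000001001001002001002002001001000000002001002000002001001002000000002000001000001002002001001002000000001001002002000002001000000000000000002001001002002001002000000000001001001000000002000002800000000800800800400000000000000800400400800400400400000000400800400400000000800400400800400000000400000000800000800800000800000000000800800400000400400400000000400800000800800400000000000400400400800000800800000000800800800000000800000800800800400400000800000000800000800400800000400800000000000900100200200000200000000200000200000000200100100000000200200000200000000200100200200100100100200000000100100200100100200000000200200000200100000200000000000200100100100100100000200100000100200200100) (nat_lit 8000))) (nat_lit 16000))) (nat_lit 24000))) i1) (_root_.Prod.mk ((fun g1 : Nat → Nat => pk61l (fun i2 => (pk61d (nat_lit 3) 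
    (nat_lit 0x11b0244046806d011201a4048408c80d902220344048810901920224091b91a8da9128d29198d99118d16d18916919098c98896899188d89108d06d08906909088c86c8888488) i2)) (g1 i1) (g1 (Nat.succ i1)) List.nil) fun j => (pk61d (nat_lit 8) 
    (nat_lit 0xbbb6b1aca7a29d98938e89847f7a75706c6864605c5854504c4844403c3834302c2824201c1814100c080400) j)) (_root_.Prod.mk (pk61d (nat_lit 3) 
    (nat_lit 0x54863b0a86484924931425c249aa131c) i1) ((fun g1 : Nat → Nat => pk61l (fun i2 => (pk61d (nat_lit 3) 
    (nat_lit 0x1388885c4438422d421c28870850a6a10a171a2217116a171421a3138d42110e221a85070850a6a108c2e428c68c69c21429a84230b81a2217116a171c21429a84285c0d11084e221c68885c45a85c51a22231b8422d421388871388885c45c2116a109c4438da2217116a171388870b81c2116a109c45c4d110b88b50b88b88885a31c2116a109c45c) i2)) (g1 i1) (g1 (Nat.succ i1)) List.nil) fun j => (pk61d (nat_lit 9) 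
    (nat_lit 0xb75bac5519f4fa5d2388bf5faf26fb7d9cbc562b158ac562b158ac5626d227e3f1f8e45e2f178bc5e2710c60301807c2400) j)))))) (nat_lit 0) (nat_lit 43) List.nil) : List (ℕ × List ℕ × ℕ × List ℕ))
    = ?xq9003 → (List (ℕ × List ℕ × ℕ × List ℕ))) ?hq9003; (case hq9003 => (set_option maxRecDepth 1000000 in conv => lhs; reduce)); intro _; exact ?xq9003 : List (ℕ × List ℕ × ℕ × List ℕ))

noncomputable def TR2 : List (ℕ × List ℕ × ℕ × List ℕ) :=
  (by
  refine (?fq9004 : ((pk61l (fun i1 => (_root_.Prod.mk (pk61d (nat_lit 1190) (Nat.add (Nat.add 
    (nat_lit 0x200100000200200000100100000000000000100100200100200200100100000000100200200000100000100200100200000000200100200000000100000100000000100100000200200000000100200000100100000000200000200000200200200000000000000200000080040040040080080000080000000000080040080000080040080080040000080000000040040080000080000040040000000000040000080040080040040040040000000080040080080080000080000000000040040040040040000040000040080000000080000000040040040040000000000080080000000080000080040040040000080000000080080000080080020000010000000010000000020010020020020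010020020000000000020010000020000000010000000020010000010020020020010000000010010000020020020020010000000020020010000010000000020000000020010000000000000000000000020000000000000000000000000010020000000000010010010020010000000020020020010000010020000000000010008000000004004004000000004004004008008000004008000000000004004004004008000000008008000008004008008008000000008004004008008000000000004004004000004004004008000000008000004004008000004004004000004000004008000000008000000004004004004000000000000000004004004000000008000008000000000004004004004000004005000002000000001001001000000002001002002002002001002000000001000001000000002001001000000000001002001001000002000000000002001002002001001002001000000002000001000000001001001000000002001001001002002002001000000000002001002001000002000000000000000000000000000000000001000000000000000000000000000000001800000800000000000800800400800800800800800000000400000400000000000800000000800800800400800000000800800400000000800000400800400000000800400800000000800800000000000000800800800400800000800400800400000400000000000400400000400800400000400000000800800400800400400000000000400000800800800400800000000800a001000000001001002001002001002000000000002000000002000002002000002002002000000002000000002002002001002002001001000000002001000001000000002002002000000002002001000000001000001002000000000001001001002000002002000000002002002000000002000002002000002002002000000000000002001002002001000002000000001001)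 (Nat.shiftLeft (Nat.add 
    (nat_lit 0x800400000000000400800000000800400800000000400000400000000400400000800800000800400800000400800000000000800800000000800800800000000400600100000200000000200200200000200000100100000000000200000200000200000000200100100100100100100000000000200000000100000100200100200100000200000000200200200000100100100000000000000200000200000100000100100200000000100200200000200100100000000000000000200100100200200100200000000000100100100000000200000200080080040000000040000080040040080000080000000040040080000040040080000040000080040000000080000000080040040080000000000000000080000040000080040040040000000000080080040000080040080040080000000080040080000000040000040000000040040000080080000080000040080080040000000080000000080000040000080000000000080010000020000020000000000020020010010010010010000000010020010020000000020000020020020000000010000000000020020010000020000000020010020000010000020010000000010010010020010010010010000020000010000010010020000000010020020000020010010000000000020010010020000000000020010010010010020020000000010000020008000008000000000004004008004000008000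00800000000400800000800000000800000000800400400800400000000000800400400800000400400400400000000800000800400800800800000000000000800400400800400800400400400800800800400000000000800400800400000800000000000000400400400800400000000800800800400000400800000000000400000100200200000000100100100100200100100000000000200000000100100200200000200100000000000200000100100200200000000000100200000000100200000200000100100100000000000100100000200200200000000200000100000100100200000000100200200000200100100000000000100200000000200100100000000200200200000000200000200100100180000040000000040080080000000000080080040080000040000000000040000080000000040080080000000040040000080080040000080000000000080040080080000080000000000040000040000000080080080000000000080040080040000040000000000040040000040080040000040000000000000000000000000000000040000000000000000000000000000000050020010010000000020010020010000010020000000000000020020000000010020000010010000020) (Nat.shiftLeft 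
    (nat_lit 0x10020020000000000010000010010010020010000000020024004008000004000008004000000004008004008000004000008000000000000000008008004000008004008000000004008004004004004000004008004000004000000008008004000000008008004000000004000008004004008000000008004008000000004000004000000004004000008008000004004008000004000000000004004008000004008008004000000008000000001002002000001000001002000000002002001002001001002002001002001001000000002001002001001000000001000000002000001001001000002001002001002001000000000001002000001001000002000000001002000000002001002000000001000001000000001001000002002000002000002002002000000000000002001002002001000002000000001001000800800000800800000000800000400000800800400000000000000800000000400400400800800800400400000000000400000400800400000400400000000800000000400000800800400400400800000000400400000800400000400800800400400800000000400400800800000800400000000000000800000000800800000800800000400800000000800400400000000a0020000010000000000020020010010000020010000000010020020000020010020000010020010000000000000020000020000010020010000000000000010020000010000010010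010000000020020020020020010010020010020000000020010020000000010000010000000010010000020020000020020010010000020000000020000020010020000010020000000000028008000000008008004004000008000008000000004000008000004008008000008004004008000000008000000008000008000004000000000008004004000004000000000004008004000004008008000000008008004004004000004008008004004008000000004004008008000008004000000000000000000004004004004000004004000000008004004008008004008002000000000000002002002002001001002000000001002001000000002002000002000000000002002002001001002001002000000000002001001000000000001002002002000002002000000002000000002002002002001000002001002001000001000000000001001000001002001000001000000000001001001002001000000002002002001000001002000000000001000000000800800800800800400400800000000800400000800000800800800800800000400000000000800800400000800800800000000400400400400800800800400400400800800000000800400800000400) (nat_lit 8000))) (nat_lit 8000))) (Nat.shiftLeft (Nat.add (Nat.add 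
    (nat_lit 0x2002001000000002000000001001000000001002000002001002001002000000001000001001001000000000001001002001002002002002000000001002002000001000002001001001002002000000002000001000001002002001000000000002001001000002000001000002000000000002001001002000001000000000001001400400400800000000800800000800000400400000000000000800400000400800000000800000400400800000800800000000400800000400400800800400400000800400000000000800800000000400400400000000400400400400400000400000400800000000800000000400400400400000000000000000800400400800800400800000000000400400400000000800000800100000000100000100000100200200200000000100100100100000100000000200200200200200100200100000000100000200100200000000200100100100000200000200100000000100200200100000200000200000000100100200200000000200000100000100200200100000000000200100100000100200000100100000000200000200000200200200000000000000280040040080000080000000040040000080040000040040000000080000080080000000080080080080000080040000000000080040080040040000000000040000040080040000000040000000000040040000040040080000040040040000040000040080000000080000000040040040040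0000000000800400400800000000000800400400400400800800000000400000800200000000000000200100100100200200200000000100000100200200200200000200000000000100100100200200200200200000000200000100000000000200100200100200100200000000000200000000200100100100200200100100100200200200100000000000200100200100000200000000000100200000200100000000000100000200200100200100100000000000180040000080000000040040080000000080040080000000080000040080080080080000080000000000040040040000040080040080000000080000000000000040080040000040080040000000080040040040080080000080040040040000040000040080000000080000000040040040040000000000040080000000080040040000000080080080000000080000080040040060000020000000000020020020010020020020020000000010000020000000000020000000020020020020010000000020020010000000020000020020010000000020010020000000010020000000000000020020020020010000020010020010000010000000000010010000010020010000010000000010010020) (Nat.shiftLeft 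
    (nat_lit 0x8008000000000004000000004000008000008000000008004008008004004004000004008008004004008000000004004008008000008004000000000004004008008000000004000008000000004000008000000008004000008000002002002002002001002001000000002001000002000002001001001002002001000002000002000000000001001001001002001001000000001001000000002002002002000002000001000000001000001000001002001001002002000000002000001000001002002001000000000002001001001002002001000002000000001001000001002000001001000000002000800800400400000800400000000000800400000400400000400400000000800400000000400400800400400800400400000000000400800000400000000000800000400000800400800800000000000800800400000800800400400400800800000000800000400000400800800400000000000800400400800400800000400800000000000800800000000800800800000000400500200200000200100000000000200200200200200000200000000100000000000000100100000200200200000000000200200100100200100100200100200200000000000100000000200000100200200000000100100100100000200000100000100100200000000100200200000200100100000000000000200000000200200000200200000100200000000200100100000000240040000000040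08000008004008000004000000000004004008000004000000004008008000004000008004000000000004000008008004000008008000004004008000000004000000000008000004000008008004000000004004008008000000008000004000004008008004000000000008004004008000004008008004000000008000000008000004000008000000000008002000000002001001001001001001001000000000002002000002000002000001001001000000000000002000002002000001001000000001000001000002002000000000001000001002001000002000000002002002000000002000001000001001002000000001002002000002001001000000000000000000001001001001000001001000000002001001002002001002000000000800000000800800800400800000000000800400400400000800800800000000000000800800800400800000800000000400400000800400000400400400400000000800000800000800000800000000000800800400800000800400800400000400000000000400400000400800400000400000000400800000800400000000000400000800800400800400400000000000400200000100000200200100000000100) (nat_lit 8000))) (Nat.shiftLeft (Nat.add 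
    (nat_lit 0x2001000000000001002001002000002000000000001002000002001000000000001000002002001002001001000000000001800000800800800000000800000000400800400000400800400000000000000800800400000000400000400800400800000800000000400400400000000400000000800400800800800800800400000000400400800400800400000000800400400800400800400000000000000800800800400000400400800000800800800000000000000800400800800400000800000000400400000200100100100200200000200000000100100000100100000100000200100000200000000100100200000000200100200000000200000100200000100000100000100000000000200200200200000200000000000100100100200200100000100000100000000200200200000200000200100000000000200000000200200000200200000100200000000200100100000000280000000040040040000000040040080080080080000040000000080000040040040080000000080080000080000040040000000000000080040000000080000000000040080040000040040080000000080000040040080000040080080040000040000040000000080080080000080000080040000000000000000040040040040000040040000000080040040080080040080020000020000000000010010010020010020010020000000000010020020000000020000000020010010010020000000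0100200100200100200100000000100000000200200000200200000200000000000000200100100100200100100000100200100000200000000100200200200100100100200000000100200000200100000000000100000200200100200100100000000000100000040080080000040000080040000000080080040080040040040040000080000040000080080040000000040080080000040080080000000000000080000000000080080040000080040040000000040080000080040080040040080080000000080000040000040080080040000000000080040040040040080000040000000000040040080000040080080040000000080010020020010000020000020000000020020020000010000010020000000000010000000010000010000010020020000000000020010020010010000000000010020000010000010020020000000020020020020020010020010010010020020000000020000010000010020020010000000000020010010020000020020020000000000000020010020020010000020000000010010000008004004004004004000008000000004004000004008000004000004004008008000008000000008000000004008004004000000000004) (Nat.shiftLeft 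
    (nat_lit 0x2000001000000001001001000000002002000001002001000001000000001000002000000001001001000000002001002002002002001002000000002002000002002001000002000000001000001000000002001001000000001001000001002001000002000000001002002002001001001002000000000000000000000000000000002002000000000000000000000000001000000400800800000000400400400400800000800400000000400800800000400800800000800400000000000800800800800800000800000000400000000000400000400800800000000400000000000400400000800800800000400000800800800000000400000000000400000800000800800400000000800800000000800000800400400400000800000000800800000800800200000000000000200200200100200200200000000100000200100200200200000200000000000200200100200200200200200000000100000100000000000200100200100100200200000000000200000000200200200100200100200200200100100) (nat_lit 8000))) (nat_lit 16000))) (nat_lit 24000))) i1) (_root_.Prod.mk ((fun g1 : Nat → Nat => pk61l (fun i2 => (pk61d (nat_lit 3) 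
    (nat_lit 0x1b44089101a44090902324088901a24091b5234a36948d991a31b46448c6916d232326364c8898d12da26244b48991b1234236848908d20da4246446c891111a21b4444886911212232436488890d12122448c0) i2)) (g1 i1) (g1 (Nat.succ i1)) List.nil) fun j => (pk61d (nat_lit 8) 
    (nat_lit 0xded8d2ccc6c0bab4afaaa5a09b96918c87827d78736e69645f5a55504b46413c37322d28231e19140f0a0500) j)) (_root_.Prod.mk (pk61d (nat_lit 3) 
    (nat_lit 0x10c24c24925d84ab0c24b9095116ec2e1) i1) ((fun g1 : Nat → Nat => pk61l (fun i2 => (pk61d (nat_lit 3) 
    (nat_lit 0x2d110b88b50870868885c45a84385a2217116a10e151171168c70845a84385165c2116a109c45c71a22230b50a21c2142e170845a84271170b4442e22d42e468888c61a84221c44350a6d110b88b50871385421a31344421388871c28c6888d428c68c2d388870b8e108b5087034442e22d421c8518d184b4442e22d421c) i2)) (g1 i1) (g1 (Nat.succ i1)) List.nil) fun j => (pk61d (nat_lit 9) 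
    (nat_lit 0xa84f67b2a954aa55188c46231188c46218fb73b9dcede66ae974a954aa5529f459e8f47a36974a251230ec5c1c0e0480000) j)))))) (nat_lit 0) (nat_lit 43) List.nil) : List (ℕ × List ℕ × ℕ × List ℕ))
    = ?xq9004 → (List (ℕ × List ℕ × ℕ × List ℕ))) ?hq9004; (case hq9004 => (set_option maxRecDepth 1000000 in conv => lhs; reduce)); intro _; exact ?xq9004 : List (ℕ × List ℕ × ℕ × List ℕ))

noncomputable def TR3 : List (ℕ × List ℕ × ℕ × List ℕ) :=
  (by
  refine (?fq9005 : ((pk61l (fun i1 => (_root_.Prod.mk (pk61d (nat_lit 1190) (Nat.add (Nat.add 
    (nat_lit 0x100100000000200000200200000200200000200100100100000000200100200100100100100200000000100100000200000100100000100100000100000000200000200100100200200100000000100200000000200100100000000200200200000000200000200100100180000000080080080040000000000040080040080000080000040000000040080040040000000080040040080000040080000000000000080040000040000000000040040080000080080040040000000040080000080080040000000080040040080040080040000000000000080080080040000040040080040080000040080000000000080080000000080080080000000040060020000000020020010010000020010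0000000000200100100200100000200000200100100200000000200000100200100100200200000000100200100200200000000000200000000200000100200200000000200200100100000100100000100100000100000000200000200100100200200100000000000000200100100200200100200000000000100100100000000200000240040000000040080000080080040080000000000080080040000040040080000000080080080040000000000000080040040080040040040000000040040080040000000080080000080040080040040000000080040040080000000080040040080040080040000000000000080080080040000040040080000000080080080000000040040080080040040000080000000080020010000020000000020020020000000020010020000000010000010020000020000000020010010010010010010010000000000020020000020000010010000020010020000000020010020000010010010000000000000020010000020020020000000010000000000010000020000020020010000000000000010010010000000020000020000000000010010010010000010018000004008008004008004000000004008000004008000004004000000008008000004000000000008004008004000008004000000004008004000004008000000000008000008008008000004000000004000004000008004000000008004004008004008004000000000000008008008004000004004000008000004000008000000000008004004008000004000000000004004001000002000002000000000002002000001002001002000000001000001002000000002000002002002000002002000000001002000002001002000000000002000002002001000002000000001001001002001001001001001000002002002000000001000000000001000002000002002001000000001001002002000000001000002000000001000002000000002001000002)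 (Nat.shiftLeft (Nat.add 
    (nat_lit 0x400000400800800800000000800000400800800800800400000000400800400000000800800000800800800000000000000800400800800400000800000000400600100100200000200000000100100100100000100100200000000100200200200000000200200200200000200200100000000000200000200100100000000100100200200200100200100000000000100100000100100200000100200200100000100000100000000200200200000200000200100000000100100200200000000100000200000000100000200000000200100000280000080000000000040040080040040080040080000000000040040040000000080000000080040040080040000000040080040080040080080000000040000000080080000080040000080000000000000080040040080040040040000040080040000080000000040080080080040040040080000000080040000040080000000000040000040040080040080080000000000060010000020000000010010020000010010010000000000010020020020020020020000020000000000010010020010020020020020000000010020000000020020000020020000020000000000020010010010020020000020010020020010000010000010000000020020020000020000020010000000020020000000020000020010010010000020000000020020000020020008000004000000004008008000000004008004004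00800800800400000000400000800000000400800800000000000400400800800000400000000000400800800800800800400800000000400000400000000800800800000000400800800800400400800400000000000400800400800000800000000000000000000000000000000000000400000000000000000000000000800a00200000100000000000200100200200100200000000000100000000100000100000000100000100000200100200200000000100100100100000200200100000200100000200200000000200000100200200100200100000000000000200100100200100200100000000000000200200200100000100100200000100200200100000000200000000200000100000200000000000280040000000040040080040080040000080000000040080040040040040080000080080080000000080000000000080000080000080040080000000080000080080000000000080000080000080080040000000040000040080000000080040040080040080040000000000000080080080040000040040040080080040000080000000040040000040080000040040000000080000020020000020020000000020000010010000020020010000000010020000000010010010020020020) (Nat.shiftLeft 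
    (nat_lit 0x20020020000000010010020020010010000020000000020004008008000008004000000000008004000000008004004000000004004000000000004004000008008008000000000008004000004000008008008004000004008000000008004004000000004008008000000004004004004004000008008008000000004000000000004000008000008008004000000004008000000008004004000000008008008000000008000008004004004002002001000000001000002001001000001001000000000001000002001001002000001000002001000000001002001002000001000002000000000000002002000001002000002000000000000002002001000002001002002002000000002000001002002002002001000000001002001000000002000002000001000002000000000002001001002000001000000000001001000800000000800400400400400400400800000000400400400800400800800000400400400000000000000800400800400800000400000000400400000400800400000000800000800400800400000800000000800800800000400000800800800000000400000000000400000800000800800400000000000000800400400800800400800000000000400400400000000800000a0000000000000020020020020010020020000000010000020010010010020000020000000000020020020010020020020020000000010000020000000000020010020010010020010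000000000020000000020020020020010010020020020010010020010000000000010020010020000020000000000020010000010020000000000010000010010020010020020000000000010000000008008004000008004008000000004004000008004000004000000008008004000000004000008004004008000008000000004004008000000008004004004008008008000000004004008000004000008004000000008008000000008000004008008008008004000000004008004000000008004004008000004000000000004004008000004008008004000000008001001001002000000002002000002002000000001000000001000001001001002000000002000001001002000001000000000002002002000002002001001001001000002000000001000002000000001001001000000001001001002002001000001000001000000002002002000002000002001000000000000001001001000000002000002000000000001001001001000001001400800400400000000800400800400800800400800000000400400000800000400800000400400000800000000800000400800400800400800000000000000800000400400000800800000000000400800800) (nat_lit 8000))) (nat_lit 8000))) (Nat.shiftLeft (Nat.add (Nat.add 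
    (nat_lit 0x1000000000001000001002002000000002002002002002001002001000000002001000002000002001001002000000001002002002000000000001002002001000002000002000000000001000002000000001002000001002002001001000000001000002000002000002002002000000000000002001002002001000002000000001001400800000000800000400400800000000400000000000800400800000800800000000400400400000000400400400800800000400800000000000400400000000800000000800000800800400400400800000000800800000800400800800400000400000400000000800800800000800000800400000000000000800400400800800400800000000000400400400000000800000900100200000100000200100000000000100200200200100100100000000000000000200200100000200100200000000100000200000100200200200200000200200000000000200000100000200200100000000100000200100200200000000200000100200200200200100000000100200100000000200200000100200200100000000200000000200000100000200000000000200000040080080000040000040080000000040000080080000040040000040080040040000000080040080040000040080000000000000080080000040040040040000080080000000000000040080000040040000080000000080080000000080000040080080080080040000000040080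0400000000800400800800400000800000000400400000400800000400400000000800000000200100100100100100000200000000200000200000100200100100100100200200000200000000200000200000000200100100000000200200200200000000000100200000100000000200000000200100200200100100000100100000100100000100000000200000200100100200200100000000000100000200000000200100000200200100100200000000000200100100040080000040040000080000000080080080080000040040000000000000000040080080000040000040080000000080080040080040040080080040040080040000000080080000040040080040040000000080040080040080080000000080000040080080080080040000000040080040000000080000040080000040040000000080000080000080080080000000000000080000020020020020020010010020000000000020010000010010010000020020000010000000000020020010010000020010000000010020020000010000010010020000000020000000020010020000010020010000000000020020000000020000010020020020020010000000010020010000000020020000000) (Nat.shiftLeft 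
    (nat_lit 0x4000000000004004008000004004004004000000004008000008004008000004000008000000004008000004008008004004000000004000008000008000004008008004000000008000000008000004000008000000000008000002002002002002001002001000000000002001000001001002000001002002001000002000002000000002002002000001000001002000000001002000000000002000002001001000001000000001000001000001002000001000002000000001002000001002002001001000000001000002000000001002000001001000000002000002000002002002000000000000002800800400400000800400000000000000800800000400400000400000000800400000000400400800400400800800000000000800000000800000400000000800800000400800000400000000000000800800400000800800400000400000800000000400800000400800800400400000000400000800000800000000800800800000000400400800800400400000800000000800000000100100100200100100100100000000000100000100100200000100000100000200000200000000000200200100100100100100000000100200200000000000100100200000100100100200000000200000200200200000100000200200200000000100000000000100000200000200200100000000000100000200000000200100000200200100100200000000000200100100000000080080040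00008008004000000004004000008004000008000008008004004000008004000000000008004000004004000004004000000000004000000008004008008004004008004000000004004008004004008000004000008000000004008000004008008004004000000004000008000008008004004000008000000008000008004008000004008000000000008002000001000002002001000000001001002001001001001001000000001001000000001002000002001002000001000000000001001002000001000000002000001001000002001000000000001002002000001000002001000001000002000000001002000001002002001001000000001000002000001001002000001000000000001001002000001002002001000000002000800800800000800000000000400400000800000800000800000000000400000000800400400400800800000800000000000800400800000800400800800800800000000000800400400400800400000800000000400400800000400800800400000400000400000000800800800000800000800400000000400800000000800400400000000800800800000000800000800400400400100000000100000100000100200200) (nat_lit 8000))) (Nat.shiftLeft (Nat.add 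
    (nat_lit 0x1000001000000001002002001002001002000002000001002002001000000002000000002000001000002000000000002400400400800000000800800000800400800800800000000800400400800400800000000800000400400800000000400000000000800400800000800000400400800400000000000800400800000000400400400000000400400400000000800800800800000000000800400400800000800000800000000000000000400400400400000400400000000800400400800800400800200000200200200000000200000000200200200100200200100100000000000200200100000000100000100200100000100100000000000100000100200200000000000200100000100000200100000000100100200100200100000000100100100000000100000100000000100200200100200100200000100200200100000200000000100100000100200000100100000000200080040040080000080000000040040080000080080040000000000000040080080000000080080080080000080000080000000040000040000040080000000040080000080000080040040000000000040040000040040080000040000000080080080080000000000080040040080000080000080000000000040000080000000080040000080080040040080000000000080040060000010000000010010010000000000020020010020000020000000000010000020000000010010010000000010010000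02002001000001000000000002001002002000001000000000001000001000000002001001000000000001002001002000001000000000002002000002001002000001000000000000000000000000000000001000000000000000000000000000000001800400000800000000400400800000800000400400000000000400000800800800800000800000000000400400000800000800000800000000000400000000400000400000400800800800000000800400400400800800000800400000000800800800800000000000800400400800000800000800000000000800000000800800000800800000400800000000800400400000000a0000000000000020020020010020000020000000010010000020010000020000020000000000020020010020000020000020000000020010000010000000010010020000000010000020000000020000000020020020010020020020000020010020000020000000020010010010020020010020000000020020010020010010000000000010000020020020010020000000020020000004008008000004000008004000000004000008008000004008000000008000004000008008004000000004000008008004000000008000) (Nat.shiftLeft 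
    (nat_lit 0x2000000002001001001001001001000000000002000000001000001002000001001001000000000000002002002000001002001000000001002002002002000000000001002001001002001000002000000002002002000002001001000001002002000000000002000001001001000000002000000000000001001001000000002000002000000000001001001001000001001400000400000000800800800000000400400000400400800000800000000800000400000000400800800000000400800400400800800800400000000800800000400400800000400000000400000800000000400800800000000800800000800400800000800000000800400400400800800400800000000000000000000000000000000400000000000000000000000000000000400100000000100000100000200100200000000000200100200100200000200000100200200100200100000000100200000100200000100100000000000100100100000000200200100100200200000100000000000200100200000000100100100000) (nat_lit 8000))) (nat_lit 16000))) (nat_lit 24000))) i1) (_root_.Prod.mk ((fun g1 : Nat → Nat => pk61l (fun i2 => (pk61d (nat_lit 3) 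
    (nat_lit 0x11a4406d22048c90236481222408d12036890224480d224091b4a46d191a46369191b2646898da2644898d22646d091a42369091b2246888da2244888d221b4889192236489112234486d12224486912246c091a023680912023480919023640911023440) i2)) (g1 i1) (g1 (Nat.succ i1)) List.nil) fun j => (pk61d (nat_lit 9) 
    (nat_lit 0x85c11faf677ba1c2da69b318cc05d2d15ca8512712c9045210fc78391b0cc602d1509c48210f06c30150903c18090300c00) j)) (_root_.Prod.mk (pk61d (nat_lit 3) 
    (nat_lit 0x5124a68990d84990c84d909861b09909) i1) ((fun g1 : Nat → Nat => pk61l (fun i2 => (pk61d (nat_lit 3) 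
    (nat_lit 0x8518d186146346169c2a10d18918d111350350a21c2142e270845a8438e108b50870a2d42110e221a8530e108b5087135084438886a14d11084e221c0d421384270850b8d110b88b5087086a10887110d429c2116a10e14534442e22d421c2d110b88b5087116a10887110d429a70845a84385161c2116a10e145a6a144384285c) i2)) (g1 i1) (g1 (Nat.succ i1)) List.nil) fun j => (pk61d (nat_lit 9) 
    (nat_lit 0xac5629d4ea753a9d439b4aa552a8cc2e16fb743a1d0e86d31d8eb851a8d46913f1b8dc6e2d96c90481a88c4623088000000) j)))))) (nat_lit 0) (nat_lit 43) List.nil) : List (ℕ × List ℕ × ℕ × List ℕ))
    = ?xq9005 → (List (ℕ × List ℕ × ℕ × List ℕ))) ?hq9005; (case hq9005 => (set_option maxRecDepth 1000000 in conv => lhs; reduce)); intro _; exact ?xq9005 : List (ℕ × List ℕ × ℕ × List ℕ))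

noncomputable def TR4 : List (ℕ × List ℕ × ℕ × List ℕ) :=
  (by
  refine (?fq9006 : ((pk61l (fun i1 => (_root_.Prod.mk (pk61d (nat_lit 1190) (Nat.add (Nat.add 
    (nat_lit 0x20010020010000000000010000010010010010010010010000010010000000000020000010020020010020010000000000000010010010000000010000010000000010020020010020010020000000020000010000020000000000020010010020000010000000000010018004000000004004008004008004004004000000000004008000008000008000008008008000000008000000004008004000004008004000000000008008004000000000004008004004000008008004000000004000004008000000004004004000000004000004000000004008008004008004008000000004008000004004000000008000008000008008008000000000000008000002001001001001001000002000000000002001002000001001002001001002002000002000000002000001002001000001002000000000002002001000000002002001002002001000002000000002001002002001001002002001001000001002000000000000002002000002002000002000000002001001002000000000002001001001001002002000000001000002000000800800400000000400000400800400400800000000000800400800800800400000000400400800400800400000800000000400800400400400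40040040040080040040080080000000080000080080080000000080000000000000040040040000000040000040000000040080080040080040080000080000080080080000000000000080040080080040000080000000040050010000000010020000020020010010020000000010000010010020000020000000020020020010000000000010020010020000020000010000000020000000020000000010000010010010020010010000000020010010020000000010010010000000010000010000000010020020010020010020000020020010010000020000000020000020010020000010020000000000024008008000008004000000000008000004004008008000000000004008000000000004004000008008008000000000008000008004004000000008004004000004000000000008008004000004008008000000004004004004008004004000004008008000000000008000004004004000000008000000008008000000008000008004004004000008000000008008000008008002000001002002001002001000000002002002002000002002000000000002002000001000000000002001002002001002000000000001000000001001000000000001002001002001000000001000000001000001000002001000000001001001000000001000001000000001002002001002001002000001001002000001000000000001001002000001002002001000000002000) (Nat.shiftLeft (Nat.add 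
    (nat_lit 0x8008008000008004004000004008008000000000008000004004004000000008000000008004004008000000000008004004004004008008000000004000008002001002000001002001000000000000002000002000001002001000000000000002002002002002001001002000000000002001000001001001000000001001001000000002002002002002002000001000000000002002001000002000000002002000001001000001001000000001000002001001001002001002000001002000000000002002000000002002002000000001001000000000800800400000800400800000000400800400400400400000400000800800400000000400000800400400000400400000000000400000800400000000400800800400000000000400400800000400000800400000000000800000000800800000400400000400400000000400000800400400400800000400800800400000000800000000800000400000800000000000a00200200000200000000000100100100000100200100200000000200000000000200100100100200200000200000000100100000100100000100000100000200200000000000200000100200100000200000000100100200000100000000200200200200000000000200100100200000200000200000000200200000000200000200100100100000200000000200200000200200040080040040000000080040080040040000000040000000080000040040000040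08000004004000008000000008008008008000004004000000000000000000008000004004008000008000000004008008000004000004008000008000000008008000004004000004004000000004000008004004004004008008004000008000000004004000004008000004004000000008001002000000002000001001002000002002000000001002000001001002002000000001001001000000001001002002002002000001000000002000002001001001000000001002002001001001001002000000002002000002001000000002002002002000000000002001001002000002000002000000000000001001001000000002000002000000000001001001001000001001800000000000000800800800800400000800000000400400000800800000800000800000000000800800800400000800000800000000800400000800000000400400800000000400000400000000800000000800800800800400800800000800400800000800000000800400400400800800400800000000400400800400800800000000000400000400400400800400000000800a0020000010000000000020010020000020020020000000010010020020000010000000010000010000) (Nat.shiftLeft 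
    (nat_lit 0x2002000000000000002001002002001000002000000001001000000000800800400000800800400000000400800400400400400000800800800400400000800400000000000000800800000400400000400000000800800000000000800400000800000800400000000400400800400400800800400400800000000000400800800000800000400000000800400000800800400800000400800000000000800800000000800800800000000400400200000100000200200100000000100200200000100200200000000000100100000000100200000200100200200000000000200200100000200200000000000200000100100200000100000000100200200000100000200100200100100200000000000100200200000200000100000000200100000200200000100200200100000000200000000200000100000200000000000200000000040040000040040080000000000080040000040000040080080080040040080000080000000040040040040000040040080000000040080080000000000040080040080080000080080000000080080080080000080040000000080080080080000000000080040040080000080000080000000080040040080000000000080040040040040080080000000040000080010010020000010000020010000000020000000020010010020000000000000000000020020010000020010020000000010010000020010000010000020020010000000000010020020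020000020020010000000010000020010000020000000020020000010010000010010000000010000020010010010000020000010000020000000000020010010020000010000000000010010004008000004004000008000000008004000008008000004004000000000000004008008000004000004008000000004000008008000004004000008000000008000000004000008008004008004004000000008004008004000008000000008008000004004000004004000000004000008004004004008000008008008000000000000008004008008004000008000000004004000002002002002002001001002000000001000002001002000000001002002000001000000000002002001002001002000000000001000000002000001000001000002001002000000002001002000001002001000000000000002000000002002000001001000001001000000001000002001001001002002001001000002000000002000002001002000001002000000000002000000400400400800400400400400000000800000800800000400800000000400000800000800000000000800800000400800400800000000400000000800000000000400400800000400400800000000800) (nat_lit 8000))) (nat_lit 8000))) (Nat.shiftLeft (Nat.add (Nat.add 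
    (nat_lit 0x1002001000002000001002000001000002000002000000000002002002001000001000000000001001001001000000002001000001002001001002000000002000002002002000000002000001000001001002000000001002002000002001001000000000001001002002000000001000002000000001000002000000002001000002400800400400000000800400400800000400800000000000000800400000400400000000400800000800800400400800000000400000400400800000000400800800400800800800000000800000000800800800400000000000000000000400400400800000800800000000800800800000000800000800800000000800800800000000400400800800400400000800000000800000100000000100000100000200100200200000000100100100100000200200000100200200100200100000000200200200200000200200000000000200000100200000000200100200000200200000100000000000200100200000000000100100100200000200200000000200200200000000200000200000200000100000200000000000200100100200000100000000000100180080080000080000000000040040080040080080080080000000040080000000080040040040080080000080000000080000080000080040040040000040080040000000040000080040080040000080000000040040080000040040040000040000040080000000080000000040040040040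0000000000000800000000800800000800800000400800000000800400400000000a00000200200200000000200000000000200000200000200100200000000000200200100000000100000100200100100200000000000200100200200100000000000100000000100000100200100000000100100200100200100000000000100100100200000200200000000200200200000000200000200000100200000100100000000200000200000200200200000000000000240080000000080000040040080000040000000000080080080000080080080000000040040040000000040040000080080040080000000000040080000080080000000000000040080000040040040080000000080080000080040040040000040000040080000000080000000040040040040000000000000000000040040040040000040040000000080040040080080040080000000020020020020020010020010000000010000020010020000000020010020020010000020000020000000010000000020010010010000000000010000000000010020010020020000000010000000010000010000010020020010010020000000000010020020000020000010000000020010000020020000020) (Nat.shiftLeft 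
    (nat_lit 0x4000008004000000000000004004000004008004004000000008004008004004008000000008004008000000004000004000000004004000008008000004008008004000008000000004004000004008000004004000000008002001002000001002001000000000001001001002002002001001000000000000002002002002002001001002000000001000002001002000000001002000001002000000002001001000002002000001000000000002002001001002000000002001002000000001000001000000001001000002002000002000000002002002000000001001002002001001000002000000002000000000000800800400000800400800000000400000800000400800800800000800800400000000400000800400400400800000000000800400400400800400800400000800000400000000400400800000400000800400000000400800000000800400800000000400000400000000400400000800800000000800000400000800000000000800400400800000400000000000400400000000100100000100100200000000000200000200100200000000200200100100200000200000000100100200000200200100000000000000100100200000000000100000100200200200200000000200200200200000200100100100000100000100200000000200000000100100100100000000000100100200200000000100000200000000100000200000000200100000280080000040000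00000008004008004000008004000000004008004000000004000000004000004000008004008000000000008004008004008000000004008000008008000004000000008000004008008004008004000000000000000004004004008000008008000000008008008000000008000008004004008000004000000000004004008000004008008004000000008000002002001000000001000001002001002000002000000001001001000002001000000001001002001002001001001000000000001002000002000000001000001000001002001000000002000002002002000000002000000000000000001001001002000002002000000002002002000000002000002001002002001000002000000001001000001002000001001000000002000400400000000400800000800800400000400000000000400400800000800800000000800800800400000000000800800400000400000800400000000000800400000000000000400800000400800400400000000800400400800000000000400400400800000800800000000800800800000000800000800800400800000400800000000000800800000000800800800000000400400000100100100200100100100100000) (nat_lit 8000))) (Nat.shiftLeft (Nat.add 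
    (nat_lit 0x1000001000000001002002001002001002000002001002000001002000000000002002000000002002002000000001001800400800000400800400000000000800000800800400000000400000000000000800800800800800400400800000000800400000800000800800800400800400000000000800000000400800800000400000000000800800400800800000000800000400800800800800400000000400800400000000800800800400400000800000000800000800400800000400800000000000800200200100000000100000100200100000100100000000000100000100200100000000100100200100200100200000000000200000000200000200200100200000200100200000000000200000200200200000000200000000000000200100100200100200100000000000000200200200100000100100000100200000100100000000200000200000200200200000000000000240080040040000000080040040080080080040080000000040040000040040040000000040080000080080040000040000000000040040080000080080040080040000040000080000000080000000080080080040000000000000000080040040080040080040000000000000080080080040000040040080080040040000080000000080000080040080000040080000000000080010000000010000010000020010020010000000000010000010010010020000010020020010020010000000000020010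0000100100000200000000100200100000000000200000000200200200000100000000000200100200000000200100100200100200100000000000000200200200100000100100100100200000100000000000100100200000100200200100000000200000000000040040000040040080000000000080080040040040080040080080040040080000080000000040040000080040000040040000000080000000040000000080000080000080040080080000000080080080080000080040080080040000040000040000000080080080000080000080040000000000040000080000000080040000080080040040080000000000080040040000000020020010000020020010000000010000020000010020010010020020010010000020010000000000010000010020010020020010000000010000000000010000000010000020020010000000010010020010010020010010020020000000020000010000010020020010000000000020010010020000000020020020000000010010020020010010000020000000020000004008000004004000008000000008000004008004008004008000000000000004008008000004000004008000000000004000008008004000) (Nat.shiftLeft 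
    (nat_lit 0x100200100100000000200100100200100000000100000000200000200200100100000000100200000200200100200000000000200200100000100100100100200000200000100200000000200000000200200200100000000000000000100100100000) (nat_lit 8000))) (nat_lit 16000))) (nat_lit 24000))) i1) (_root_.Prod.mk ((fun g1 : Nat → Nat => pk61l (fun i2 => (pk61d (nat_lit 3) 
    (nat_lit 0x246d224091b4891236910246d12048d22408da44812369132369112368912348911b48912369012368812348811b48812364812344811b44812244811a44812369191b44c8d226369132369091b4448d222369112364891a2446d122448911a4486d22448da02469011b48091b2048d1023688122440) i2)) (g1 i1) (g1 (Nat.succ i1)) List.nil) fun j => (pk61d (nat_lit 9) 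
    (nat_lit 0x2753093c7a2b0c81bede6eb71b6da6cb61aed66ab51a6d268c429f8ee7034988b654269187e38188a8461c0a8380e00) j)) (_root_.Prod.mk (pk61d (nat_lit 3) 
    (nat_lit 0x524ca492492492ac84c84c249509849) i1) ((fun g1 : Nat → Nat => pk61l (fun i2 => (pk61d (nat_lit 3) 
    (nat_lit 0x1a22109c4438d35084e109c2142e344421388871171110b46384270a70846270b5084438886a14e108b50871c2116a10e145b84270a70846270a6a10887110d429a31a31350b50a21c2142e270845a843851) i2)) (g1 i1) (g1 (Nat.succ i1)) List.nil) fun j => (pk61d (nat_lit 8) 
    (nat_lit 0xdacacacacab5a6a6a6a6a6a6a6a6a6a6a6a6a6998573666666554141412d2d2d2d2d2211111100000000) j)))))) (nat_lit 0) (nat_lit 41) List.nil) : List (ℕ × List ℕ × ℕ × List ℕ))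
    = ?xq9006 → (List (ℕ × List ℕ × ℕ × List ℕ))) ?hq9006; (case hq9006 => (set_option maxRecDepth 1000000 in conv => lhs; reduce)); intro _; exact ?xq9006 : List (ℕ × List ℕ × ℕ × List ℕ))

noncomputable def TR : List (ℕ × List ℕ × ℕ × List ℕ) := TR0 ++ TR1 ++ TR2 ++ TR3 ++ TR4

noncomputable def FL : List ℕ := TF.map Prod.fst

noncomputable def LL : List ℕ := (TF ++ TR).map Prod.fst

noncomputable def SL1 : List ℕ := [Mr, mu Mr Mr, Mt, mu Mt Mt]

noncomputable def SL2 : List ℕ := [Ma, mu Ma Ma, Mb, mu Mb Mb]

theorem tf_chk : allL (tbE EC MG SL1) TF = true := by decide +kernel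

theorem tr_chk : allL (tbE EC MG SL2) TR = true := by decide +kernel

theorem ll_len : LL.length = 243 := by decide +kernel

theorem ll_nd : nodupB LL = true := by decide +kernel

theorem ll_one : memB c1 LL = true := by decide +kernel

theorem ec_cube : allL (fun A => Nat.beq (mu (mu A A) A) c1) EC = true := by decide +kernel

theorem ll_cl : allL (fun A => allL (fun B => force (mu A B) fun X => memB X LL) EC) LL = true := by decide +kernel

theorem fl_meet : allL (fun A => allL (fun B => !(force (mu A B) (fun X => memB X FL) &&
    force (mu (mu A B) B) fun X => memB X FL)) FL) FL = true := by decide +kernel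

def v0 : ℕ := 281612415672320

def vA : ℕ := 19342813113834066795298816

def vC : ℕ := 324518592344052954451289611173888

def vD : ℕ := 324518553663149093547500642500608

theorem ec_v0 : okR C v0 = true ∧ allL (fun A => Nat.beq (st v0 A) v0) EC = true := by decide +kernel

def Cmr : ℕ :=
  890174523997805510182405032089529076025585767441994298817727931485951950209416786940290725988766203759851125721798108538126160016034888261423228710004130358517311856775900131091313981195929696601788750638939697137663494456646062512570530696474274387938102587627825499060411832196938744875567888193702182395603766945525700069756283912192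

def Bmr : ℕ :=
  61172327492847069472032393719205726809135813743440799050195397570919697796091958321786863938157971792315951195104435124212844285983687690775087933023367680216630813096468846648914865313759428350460554787042907752448565187308590261818227320720804698474631265010180306515225613741736646623765715904162240038836459055484112405328324414030787305799680

def Dmr : ℕ :=
  1026301351570233739499293428424157827113862320509474868877723027253195088580042366594351139249622820215252077628635264660948216292845912633824504613020539959669354085805636120007755506792585418131036718576796263231398042127631470045678444769538612068307518190091710765256503260060913242651131044624832472186500874657956561582424597313826954609913088704512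

def Kmr : ℕ := 0

def Emr : ℕ := 0

def Wcr0 : List ℕ := [2, 1, 4, 2, 3, 4, 3, 0, 1, 0]

def Mcr0 : ℕ :=
  122374527932382823406111472190719181302713208729899194262165842292128465551104495683618750888907809674541461800074189787395879311062493532552936571132739718638471790507780465600377391369669553070361065494885637025400631141746868991044181410141302453585485866436564339766390217626581706280089962783503440045254847802625301641247740886950737862467585

theorem ev_cr0 : okW MG.length Wcr0 = true ∧ Nat.beq (evL mu MG Wcr0 c1) Mcr0 = true := by decide +kernel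

def Wcr1 : List ℕ := [1]

def Mcr1 : ℕ :=
  8407461173187061615382295272444917164642951616695605399609631078936679372872015609213760511429819888126487306509549626773154373073383197280550536646193780579822813688618162959691048654096894307474992699665789645362503148242572291574840917015346108064870652563874790878681041224782649953524604743927607799485241003429255972295199470411839928637496993955971074

theorem ev_cr1 : okW MG.length Wcr1 = true ∧ Nat.beq (evL mu MG Wcr1 c1) Mcr1 = true := by decide +kernel

def Rr1 : ℕ := 4722366482869645213696

def Rr2 : ℕ := 79228167236630820463189164032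

def Rr3 : ℕ := 79228167236630820531908640768

noncomputable def tabr : List (List ℕ × ℕ) :=
  (by
  refine (?fq9007 : ((pk61l (fun i1 => (_root_.Prod.mk ((fun g1 : Nat → Nat => pk61l (fun i2 => (pk61d (nat_lit 1) 
    (nat_lit 0x1481100252020aa2909009434100052008052cc09004410444a050880200280aa502810029004a0220b5011260902809060002212a20448121208044002102a0040888044228806904200908a422aaa10052892414200842868a822a450620a048200110414048290404a2022a208045010200225515008a694a2248092588505110ab04a002a6400448884844620852400444a5120494406a4028154041010a20010025001450445440a100009004b0420a008240a0508105028100a8524108400008a0029208490028450804005043154) i2)) (g1 i1) (g1 (Nat.succ i1)) List.nil) fun j => (pk61d (nat_lit 11) 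
    (nat_lit 0xd15a033ce71cd197f2be4dc8d8e71a62dc518830c60fc0f7fefbdf3bdd78eee5d3b9b726e1dbcb6f6bad3da1b2f63ac457eaf15b6b355eaaf53aa5d41a794ca95523a3946287d069fb3c2744e49bd36e6accc98f2ee5b4b095329a4ec9791d20a3d4728d518a2dc528971121fc368650b61241d82b03e023ff7f2fd1f53e67bef69e8bcb78cefddc3b275ee9dcf396728e35c03776dedb5b2b5f6aed4da5b45682ce598327648c7589b1161cc317fafb5e4bb1712db5a0b29632bf57cad554aa0538a4d45a834f69d5362674ba95929a4e4848f11aa2e4528890d21742483d031fc3ec7ccf69e63be778ea9cb39470cdd9b235268cce193320638c217c2f05c0b49642b453ca594327a4d49712623a458889071f83d4750e41c23606b8cd18a3045c8af15a2ac5109c12c250478890fe1dc370670be154268430760d81b0310520a01181d0320440680d01000000000) j)) (pk61d (nat_lit 2) 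
    (nat_lit 0x29a57a695d75fea695e9a575d7f975fe5d7fbefa9a695e9a575d7fa9a57a695d75fe5d7f975fefbea575fe5d7fbefa95d7f975fefbea7efa9fbea69a54) i1))) (nat_lit 0) (nat_lit 243) List.nil) : List (List ℕ × ℕ))
    = ?xq9007 → (List (List ℕ × ℕ))) ?hq9007; (case hq9007 => (set_option maxRecDepth 1000000 in conv => lhs; reduce)); intro _; exact ?xq9007 : List (List ℕ × ℕ))

theorem aff_r : affC Mr Cmr Bmr Dmr Kmr Emr [Mcr0, Mcr1] [0, Rr1, Rr2, Rr3] tabr 243 = true := by
  decide +kernel

def Yr3 : ℕ := 19342813113834066795298816

theorem fx_r3 : okR C Yr3 = true ∧ Nat.beq (st Yr3 Mr) Yr3 = true := by decide +kernel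

def Cmt : ℕ :=
  890391851762456575998080983128503033399480799796061877677325653883807571066916134793040223577537482018904936261447026399110358705312899151869125793389718560405796706444145156088220499277790960992416581767720695002236842233358410179790585129994930181963281979728537866520915691005105066974010658545407635544032096539390980154640748773376

def Bmt : ℕ :=
  106688230926077668385277628651540453512809979930398733128207804996266192701319789592709133856501310447646522137046313951292738175744111528294741861973418222354743381585487413622973665609212427531540095632692291632813121756274091114018277163008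

def Dmt : ℕ :=
  250561853410701596557444684680192499717897785311216420812864347270580778321392742415787574542325817261745826142363876092571251397779738315411560659591229294800162239984987725623091077284460652656747845221036584235761688609209130549052573261106515325235914825717606482778998817404160341986420789510716531213220169795626420056714687996393544887750885376

def Kmt : ℕ :=
  2026130769634469938191654024419414415910083823461024777712585981969958768335173575183744751724658204911552319653578397489503347011809163898399117457561461945095159095864357560321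

def Emt : ℕ :=
  247330430957185977978794335406792354005982059389658874417503902782008945775470635858979307984108085440056792843737819267193903313764443631254988755444432730496185539537928192

def Wct0 : List ℕ := [0, 1, 2, 3, 2, 4, 1, 2, 4, 0, 1, 2, 4, 3, 2, 4, 2, 1, 0]

def Mct0 : ℕ :=
  8407460672063354797626147399702321640028686897010028963446804142392904175181974266574957722487072228706243917354095413432201308799829801919522144381882862739945611592057348900747198147013366980200322122896179818243243305042975995556407854688621627447611808583068401175155786730712841894244300822938853576739141354438964218421964679092880894228476677884739584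

theorem ev_ct0 : okW MG.length Wct0 = true ∧ Nat.beq (evL mu MG Wct0 c1) Mct0 = true := by decide +kernel

def Wct1 : List ℕ := [0, 1, 2, 4, 1, 0]

def Mct1 : ℕ :=
  8407461173187061615383185664349725200601649872961745446637104618435030877376356212842421599026235031256170970886581814789508626229621503311234872687575442653482608204945478787068303163859173990419684390307792316688584647221644866413761537569691707528974949910521101117953188648057938091255984670798168211184008553178471240326770285296435629277012039642910720

theorem ev_ct1 : okW MG.length Wct1 = true ∧ Nat.beq (evL mu MG Wct1 c1) Mct1 = true := by decide +kernel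

def Rt1 : ℕ := 19342813113834066795298816

def Rt2 : ℕ := 281474976710656

def Rt3 : ℕ := 19342813114115541772009472

noncomputable def tabt : List (List ℕ × ℕ) :=
  (by
  refine (?fq9008 : ((pk61l (fun i1 => (_root_.Prod.mk ((fun g1 : Nat → Nat => pk61l (fun i2 => (pk61d (nat_lit 1) 
    (nat_lit 0x785934c9087d84) i2)) (g1 i1) (g1 (Nat.succ i1)) List.nil) fun j => (pk61d (nat_lit 6) 
    (nat_lit 0xeb7db5cadaa892275a5d64d238c287143041040000) j)) (pk61d (nat_lit 2) 
    (nat_lit 0x3efbefbefbef94) i1))) (nat_lit 0) (nat_lit 27) List.nil) : List (List ℕ × ℕ))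
    = ?xq9008 → (List (List ℕ × ℕ))) ?hq9008; (case hq9008 => (set_option maxRecDepth 1000000 in conv => lhs; reduce)); intro _; exact ?xq9008 : List (List ℕ × ℕ))

theorem aff_t : affC Mt Cmt Bmt Dmt Kmt Emt [Mct0, Mct1] [0, Rt1, Rt2, Rt3] tabt 27 = true := by
  decide +kernel

def Yt2 : ℕ := 79228162516570180602757644290

theorem fx_t2 : okR C Yt2 = true ∧ Nat.beq (st Yt2 Mt) Yt2 = true := by decide +kernel

def Cma : ℕ :=
  14934650266808366570320408622852960646764416339241623174955739864945439442272853283374458818180585626517456590763142159644278959195559346786999593132571487878691051573787255048029756403121926601077904170450930553563261963736966623613759531555325678312206407662286761119388923778192697439124833224031746492783855650274369275759232312490474864640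

def Bma : ℕ :=
  61172327492847069472032393719205915310923471882217325366587371250159605651097135855099502667325691987303048948901531326240421180966212946186511307390667324848590736608633040708603370011091491576819849827191493341606965998538690408026023530580644386012017468914311039930640903485693253199994836416119047233725603797172221665999066239233898542268416

def Dma : ℕ :=
  106130026326194937354367640042757727786068619045150248042838647649174903789779248587208401129669694916214760549691781811566000221197479601700622820118188936490734422793996530902274107982974687481800817217142453768250367327259684573202505329928306548444163805949082064225846066745238253803268734504464223436916115382820686870347778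

def Kma : ℕ :=
  1524663471199330879709332085538015226220995304323285173124603243455339973953963235364983601536098504165019849974116172011863547760764417736704

def Ema : ℕ :=
  762331712880409966228628388074791572348852997702691279230180832697621056564457823697280224228477776478576870067362090070062211259533539409920

def Wca0 : List ℕ := [2, 3, 2, 1, 4, 3, 0, 1, 2, 4, 3, 2, 1, 4, 0, 1, 2]

def Mca0 : ℕ :=
  1026802597651583075965406141772763260204759093199924275773326082870067247984020813005548625944286527119199926888512583689213960616199476868906965528362058008537142823792594322238312935541915383823865346073698980121992374067933337520198797594114528071421520454682405508187776526470914832450557955922470327631091457770348566603731634551675218305145446072322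

theorem ev_ca0 : okW MG.length Wca0 = true ∧ Nat.beq (evL mu MG Wca0 c1) Mca0 = true := by decide +kernel

def Wca1 : List ℕ := [2, 4, 1, 2, 4, 0, 1, 2, 4, 0]

def Mca1 : ℕ :=
  8407460922625208211972118023791538359325418495258016366140948312276261836109613049453284915182441473383804003930368783890942214711059096063362644299924875515903082919086273338202324870422498566706200592324069526747016316892471025975082482790117009062351673950464741593882802951087572100124365891757659334069124386361605938612167919098931949850647030487064578

theorem ev_ca1 : okW MG.length Wca1 = true ∧ Nat.beq (evL mu MG Wca1 c1) Mca1 = true := by decide +kernel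

def Ra1 : ℕ := 281474976710656

def Ra2 : ℕ := 1152921504606846976

def Ra3 : ℕ := 68719480832

noncomputable def taba : List (List ℕ × ℕ) :=
  (by
  refine (?fq9009 : ((pk61l (fun i1 => (_root_.Prod.mk ((fun g1 : Nat → Nat => pk61l (fun i2 => (pk61d (nat_lit 1) 
    (nat_lit 0xbb3582a8003543addb0ad400036bd2b6b565920980002a9999ad31015a9599cc4bcd99532ba89a6aabdd6b56486ead5aea8d06aa0015a80) i2)) (g1 i1) (g1 (Nat.succ i1)) List.nil) fun j => (pk61d (nat_lit 9) 
    (nat_lit 0x379b8d8eab4d9eca63b1584bdde2e570b2572b151a651a7d3c9bcbe4f248fc6a2b0a80be5e8ee7439dc8dd693459ac45f2f16eb456a8d3c9a4aa351687419f0e87137998c05c2b14c9e47208f0763215890481d0d0440e01008000000) j)) (pk61d (nat_lit 2) 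
    (nat_lit 0x2aabfaaafeaabfaaafeaabfaaafeaabfaaafeaa94) i1))) (nat_lit 0) (nat_lit 81) List.nil) : List (List ℕ × ℕ))
    = ?xq9009 → (List (List ℕ × ℕ))) ?hq9009; (case hq9009 => (set_option maxRecDepth 1000000 in conv => lhs; reduce)); intro _; exact ?xq9009 : List (List ℕ × ℕ))

theorem aff_a : affC Ma Cma Bma Dma Kma Ema [Mca0, Mca1] [0, Ra1, Ra2, Ra3] taba 81 = true := by
  decide +kernel

def Ya1 : ℕ := 1152921504606846976

theorem fx_a1 : okR C Ya1 = true ∧ Nat.beq (st Ya1 Ma) Ya1 = true := by decide +kernel

def Ya2 : ℕ := 281474976710656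

theorem fx_a2 : okR C Ya2 = true ∧ Nat.beq (st Ya2 Ma) Ya2 = true := by decide +kernel

def Ya3 : ℕ := 16777217

theorem fx_a3 : okR C Ya3 = true ∧ Nat.beq (st Ya3 Ma) Ya3 = true := by decide +kernel

def Cmb : ℕ :=
  890391957892482900648811692989434636760735188456695612181065864064250531156495496871399846655459171399146526397189134898878091937128642713269092186443801838236242917294670111443796430601863222942901522467516167729452560660821238116075070591985898835050465086335153178318489968995826777159886390110939905018785392292859536055172971102208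

def Bmb : ℕ :=
  2052602703140467478998586856848315654227724641018949737755446054506390177740383461129365453411667033102985033329734208176861845341297374919827694328539582321341876555998458921138899089363144542650705814006400531473200241735525998947087696044954595747582891789708980155686382244779640799725703906457343631105148843548145085899927021261586336692432655089664

def Dmb : ℕ :=
  890174524010759254394072911664088778885289354594328314006656834197970051114341878407034913195002787216984012780894853964114102087927386178004213228419121235895107604436080044895795237493549591824187460659552095235685456960545217269052719871781369405112373466131482487263801739643069587981315527014032665438346319750245562942453964603392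

def Kmb : ℕ :=
  1346923629573134870316156892397338908503842113093889639438547167520643453677411893419488671293245930346261787019279044761854013211282723368053025943939837132889639080231175976136088346723437213948094431437395066880

def Emb : ℕ :=
  1346923549290230391197895971884992948448614534628081299421415205934987008027492269849608130021584548305323394535444190732371995864265714831486290391634260708108041822329233256978591003597963217364123205714736840704

def Wcb0 : List ℕ := [1, 2, 0, 1]

def Mcb0 : ℕ :=
  250561853410701596557444684673866657010266314037385988196838218665750508259537734397176817735996891458312531982809005649827018540489226162092813920489235182126463685378604426478779832922063911690909161376408960842545097462087115759323412565180536768294113119812126273942189670354122611675030048054204879024884196634006951931991421557476994893073088512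

theorem ev_cb0 : okW MG.length Wcb0 = true ∧ Nat.beq (evL mu MG Wcb0 c1) Mcb0 = true := by decide +kernel

def Wcb1 : List ℕ := [0, 1, 0]

def Mcb1 : ℕ :=
  8407461173187061615382295272497962747189731583553427380077724926768236924956213375591817572724036706678755667494036527811337582994189032909322523876800246821819975173160529604576584210011375539297088726819913350938961248666183564094916039665500385562707350999763371311678591367194935559230981766713966170255877832802349473449052533452607945568473049158647810

theorem ev_cb1 : okW MG.length Wcb1 = true ∧ Nat.beq (evL mu MG Wcb1 c1) Mcb1 = true := by decide +kernel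

def Rb1 : ℕ := 19342813113834066795298816

def Rb2 : ℕ := 19342813113834066812076034

def Rb3 : ℕ := 19342813113834066828853249

def tabb : List (List ℕ × ℕ) := [([], 0), ([], 1), ([0], 1), ([1, 0], 1), ([], 2), ([0], 3), ([1], 1), ([], 3), ([0], 2)]

theorem aff_b : affC Mb Cmb Bmb Dmb Kmb Emb [Mcb0, Mcb1] [0, Rb1, Rb2, Rb3] tabb 9 = true := by
  decide +kernel

def Yb1 : ℕ := 324597820511289585271752800337920

theorem fx_b1 : okR C Yb1 = true ∧ Nat.beq (st Yb1 Mb) Yb1 = true := by decide +kernel

def Cfr : ℕ :=
  29869300533834060931202532475341910150474913284376341991546923752504281487203011643996202885270017452248665506562823939811925851504957698638265662899725111540916494600950737728578718239664744582714100581320163588360452013734926900359610039873039612854719563137117715851226826737593175797299309903181864486750493944147911699297042273768707194880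

def Bfr : ℕ :=
  2052602703155402129265395223418636063622680923935919003870224171207813148669095807552592487980296993770769337076043407536881238310612179314397527698483669934242596921672981763616443083126375399503602195210713592054174997150123663797019118992124038365158730002255775093072824624068480914696778040130613977764495982681319762624712032032697465949766522241024

def Dfr : ℕ :=
  6325070415853456823515479584966165845298645305129441198653167438357198111499854803750223842825246911029853486340149880863197837152367178832344145197339688599280906456544395796589391502309849571501628523783248683831402908879806540587551729115394325421152875902624182476977089687575099990131519290291339307809125134592114688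

theorem fix_r : fixC Mr Cfr Bfr Dfr = true := by decide +kernel

def Cft : ℕ :=
  4203730336092849724481952952297382853579130186854269896167625003354463262553801675355296498507119193263172587094381858727808633527678016678383897095870589596513182566842184731778667094126955247184607884922175875277737234350971734016678949502668065757094796295414554810903311249652143979367049824067580570580853209678956541576610768752810272805575672373182464

def Bft : ℕ :=
  501123736690703726731622509994877174348859843241568456291976995662985047264142486271727434061842720210218785892465525057308241524823935258756494806310177405505725574738362401101962630500749249332760807968583025254400080326998264971602986586077611472306887748630163070024843972461269906291232718175603081707669701166354607867730686682007382279661289472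

def Dft : ℕ :=
  2693847259126664639258218287424939248592566336124031658680489986851790361325946076210988873780759769664415070577737864696420465909172196763548860493719710340846700809974964825016120529160469749241513601998352547840

theorem fix_t : fixC Mt Cft Bft Dft = true := by decide +kernel

def wsr : List (List ℕ) := [[], [], [], [], [], [3, 4, 1, 2, 3, 2, 4], [4, 0, 1, 2, 3, 2, 4], [2, 4, 1, 2, 3, 2, 4], [4, 1, 2, 3, 1, 4], [4, 1, 2, 3,
  2, 4]]

theorem row_r : rowC MG Mr Bfr v0 wsr = true := by decide +kernel

def Fmt : ℕ :=
  1013065384817234968656479961961348186196200260589303222951371913010568702113422838449601015980998188810252328388368854224387286876887760336214626174592746665641284945926193938432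

noncomputable def clt : List (List ℕ × ℕ) :=
  let y0 : List (List ℕ × ℕ) := (by
  refine (?fq9010 : (pk61l (fun i0 => (_root_.Prod.mk ((fun g0 : Nat → Nat => pk61l (fun i1 => (pk61d (nat_lit 3) 
    (nat_lit 0x118422d421085110b508) i1)) (g0 i0) (g0 (Nat.succ i0)) List.nil) fun j => (pk61d (nat_lit 5) 
    (nat_lit 0x6da0) j)) (nat_lit 3))) (nat_lit 0) (nat_lit 2) List.nil : List (List ℕ × ℕ))
    = ?xq9010 → (List (List ℕ × ℕ))) ?hq9010; (case hq9010 => (set_option maxRecDepth 1000000 in conv => lhs; reduce)); intro _; exact ?xq9010 : List (List ℕ × ℕ))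
  let y1 : List (List ℕ × ℕ) := (by
  refine (?fq9011 : (fun tl : List (List ℕ × ℕ) => pk61l (fun i0 => (_root_.Prod.mk ((fun g0 : Nat → Nat => pk61l (fun i1 => (pk61d (nat_lit 3) 
    (nat_lit 0x10a2216a10888510e10d420230845a3080d18422d421a8422d421310a22168884046109c2a10614434622210d42e220c2117111098422e108830844385106108b88830845c28886109a22220c2110e222270846344445a29c2118d111349c2118d111170846344429a30846344428b50846344429c2118d110a6a04e108c68888870846344428b8118422d420428885a84208c2116a108846108b44420284350b50810a21c2d420428885a30808c21384284046108b5085210d421c4418422e22218422e108886108870844184221c4418422e144184268c44184221c4442610887111127084634444d14e108c68889a70846344445a84231a22145a30846344428b84231a2214d04e108c68c4434e108c68888b90846344428b8887110d18990a221c45a8410e22216a14c26a10e221a3138442110e26088887084e22215183138422e14434626511110d460b88b44421c44350a70845a8c285351110a7118c10a10e15086117110e109c4626110e22e10a344421a85c4403110e350846264421c4c285a22109c4632210d421170a8d170846260846350845c68804230b508463) i1)) (g0 i0) (g0 (Nat.succ i0)) List.nil) fun j => (pk61d (nat_lit 11)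 
    (nat_lit 0x116224c3a85907a084017e6f99ed3cd780ecdd439b71ce05b7b5f69ecfd97b21622bfd77ae25a8b155b2a8534a313ea6e4c295523a3945a8850aa073f27a0ec9c836e6a0cc9882ee598ac9492744948d9051de38c658c215c27c4587c0da16c2904005c08c08000) j)) (pk61d (nat_lit 3) 
    (nat_lit 0x1b6db6db6db6db6db6db6db6db6db6db6db6db6e29148a29245148a4) i0))) (nat_lit 0) (nat_lit 74) tl)
    = ?xq9011 → (List (List ℕ × ℕ))) ?hq9011; (case hq9011 => (set_option maxRecDepth 1000000 in conv => lhs; reduce)); intro _; exact ?xq9011 y0 : List (List ℕ × ℕ))
  let y2 : List (List ℕ × ℕ) := (by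
  refine (?fq9012 : (fun tl : List (List ℕ × ℕ) => pk61l (fun i0 => (_root_.Prod.mk ((fun g0 : Nat → Nat => pk61l (fun i1 => (pk61d (nat_lit 3) 
    (nat_lit 0xa21a85c4434626438422237084614e220108c6a108c6a100a31a84231a84388c4c428885c4408510e10e220230845c28808c21171110346108b88810a22344444085110b8888423084d188810a21c68c44421a85a8418422d110830a21c2a10610886a108c2116a106108b50844c21384284184221a30830845a8428142118d110a2dc2118d11110e070870a8d11187084634444c384231a22268870846344445a0e108c68888b8e108c68c4432e108c68888b10a21c2e220230845c2110118422e220284350b88810a22346220230845c44421184268888850845c2888c428885c44430845a30830845a2210a10d421a84184221a8418422d421184221a84226108868884184221a30846109c2a10142118d110a2d070870a8d110b0a108c6888530e108c68889a2e108c68888b81c2118d11116e108c68888865c2118d11132e108c68888b40c6a108b8546088d421388c64421a85c4404e10a34442d429a8422d460c44388870a8d110871309a84285a22262221c4446a14d42110e264429c21c2a329c21a31a22151c2110d42e22014446a108c4e100c4e108b89c211713) i1)) (g0 i0) (g0 (Nat.succ i0)) List.nil) fun j => (pk61d (nat_lit 11) 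
    (nat_lit 0x115a21c3885505dff3f17c4f51e33b8752e69c637d6e2d91abb4a67ecc992b18616be974ad9594ae5542975109e13525b49c90119223428818fc1ec3bc744e29b9356674c79832e2580a814025e47c879001de37c678c115a28c490880ee1982d84c0720a80b800) j)) (pk61d (nat_lit 3) 
    (nat_lit 0x225236db6db6db6db6db6db6db6db6db6db6db6db6db7228a29148a4) i0))) (nat_lit 0) (nat_lit 74) tl)
    = ?xq9012 → (List (List ℕ × ℕ))) ?hq9012; (case hq9012 => (set_option maxRecDepth 1000000 in conv => lhs; reduce)); intro _; exact ?xq9012 y1 : List (List ℕ × ℕ))
  (by
  refine (?fq9013 : (fun tl : List (List ℕ × ℕ) => pk61l (fun i0 => (_root_.Prod.mk ((fun g0 : Nat → Nat => pk61l (fun i1 => (pk61d (nat_lit 3) 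
    (nat_lit 0x10a221a8c14442d189c2085084e22214c10a10e144350846308888c6a10d18886e10d42a32e108c4c14446a108b8886a151828c21c29c4444626510e10887118cb8888546a10510e221c2a310a2e161429a8c428b8d08518c428c6884614d04614e068c2984614d18614d130a2d185330a6a429a8598517216a16a16a330a70950b51a2e14d385a8cb8532e14d12e145a2e145c2e14d430a2e261429a8584614d410a2e310a31a08c29a2118530a16a30d185341185384c28b44c28b30a6a14d466145c26145c50b50b30a70c29a30c45c4d170a65c29c2e14d14616a32e145970a2e270a6a32a14d468885c45a84110b5190a22e270a2214d42117136a108c68885a8c270850a7110e15086887110d189c2018d421170850b5086a10d18886888982a270845a84388c60871a2216a10d184321a8427118d110b51910b88b50828888b8994442d111305111a84231344021421c2a350885a84346221c29c2116a221a31c21170868c4e22e344421385c45a84385385384350a71168885471a222313) i1)) (g0 i0) (g0 (Nat.succ i0)) List.nil) fun j => (pk61d (nat_lit 11) 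
    (nat_lit 0x202bfa7d4f69e23af748e69c0b6b6b4d2d9e333654c858d311612c057caef5d0b856e2d559ab195f2b8562aa550a9a528a314227c4e89ad30a584a09211fa3846089d0f216420829019fb3e67b0f31de3ac73ce41c13706c4d41a032e624c09772c85489d92a228404758d418c2f4580a51302143a0610a21081a02402e02c00000) j)) (pk61d (nat_lit 3) 
    (nat_lit 0x29244a48a36db6db6db6db69249249b6db6db6db6db492492492924924892921249248) i0))) (nat_lit 0) (nat_lit 93) tl)
    = ?xq9013 → (List (List ℕ × ℕ))) ?hq9013; (case hq9013 => (set_option maxRecDepth 1000000 in conv => lhs; reduce)); intro _; exact ?xq9013 y2 : List (List ℕ × ℕ))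

theorem cls_t : clsC MG Bft Fmt [0, v0, vA, vC, vD] clt = true := by decide +kernel

def Mu : ℕ :=
  4203730336031677396989105882825350459859152168129056799351805311570611272989354375711921174797212319945974818821439896597650466897751428989596943826957518449235623536339759253203880007531936540711497626611371515857755407474379032857375558302120045368748479647798876722774498207846547686224097558452797555785492191599666345034024785111180257983941815442604034

def Mv : ℕ :=
  2052602703170340427467837641596726201723738005865924416541043805825894489281853829041387249087615796133338355028140470335576479126907106387511754393600877804527710922231897519443731561810803019226178754991390075044115337701033615356701694903771326646196984634358314854148886761718950188683074560508745296146793210542505004205244144659578250275368095186946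

theorem ev_u : okW MG.length [0, 2] = true ∧ Nat.beq (evL mu MG [0, 2] c1) Mu = true := by decide +kernel

theorem ev_v : okW MG.length [2, 1, 2, 3] = true ∧ Nat.beq (evL mu MG [2, 1, 2, 3] c1) Mv = true := by decide +kernel

theorem uv_chk : Nat.beq (mu Mu Mu) c1 = true ∧ Nat.beq (mu (mu Mv Mv) Mv) c1 = true ∧
    Nat.beq (mu (mu (mu (mu (mu Mu Mv) (mu Mu Mv)) (mu Mu Mv)) (mu Mu Mv)) (mu Mu Mv)) c1 = true ∧ Nat.beq Mu c1 = false ∧
    Nat.beq (mu Mu Mr) (mu Mr Mu) = true ∧ Nat.beq (mu Mv Mr) (mu Mr Mv) = true ∧
    Nat.beq (st v0 Mu) v0 = true ∧ Nat.beq (st v0 Mv) v0 = true := by decide +kernel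

theorem cubes : Nat.beq (mu (mu Mr Mr) Mr) c1 = true ∧ Nat.beq (mu (mu Mt Mt) Mt) c1 = true ∧
    Nat.beq (mu (mu Ma Ma) Ma) c1 = true ∧ Nat.beq (mu (mu Mb Mb) Mb) c1 = true := by decide +kernel

theorem nz_vec : okR C vA = true ∧ okR C vC = true ∧ okR C vD = true ∧ v0 ≠ 0 ∧ vA ≠ 0 ∧ vC ≠ 0 ∧ vD ≠ 0 := by
  decide +kernel

end Cfsg.Agent.SB.F24.Md
end

-- part: SB/Mon/F24/Chk1
section
set_option linter.all false
open scoped Cfsg.Agent.FastGrp
/-!
# S5765, the row `Fi24'`: words and the action on `Q / Z` (helper96; generated)
-/

set_option autoImplicit false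
set_option maxRecDepth 100000

namespace Cfsg.Agent.SB.F24.Wd

section FastNet
open Cfsg.Agent.Lib.PermNet Cfsg.Agent.Lib.PermNetPt

/-- the stages of a network applied to a set of points, the last stage first -/
private noncomputable def fnApp (L : Net) (P : ℕ) : ℕ :=
  Net.rec (motive := fun _ => ℕ) P (fun M d _ ih => stage M d ih) L

private theorem fnApp_bit {N : ℕ} {L : Net} (h : L.ok N = true) (P p : ℕ) :
    (fnApp L P).testBit p = P.testBit (invPt L p) := by
  induction L generalizing p with
  | nil => rfl
  | cons M d L ih =>
    obtain ⟨h1, _, h3⟩ := Net.ok_cons h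
    show (stage M d (fnApp L P)).testBit p = P.testBit (stepK M d (invPt L) p)
    rw [testBit_stage h1, stagePerm_apply h1, ih h3, stepK_eq]

private theorem fnInv_lt {N : ℕ} {L : Net} (h : L.ok N = true) {p : ℕ} (hp : p < N) : invPt L p < N := by
  induction L generalizing p with
  | nil => exact hp
  | cons M d L ih =>
    obtain ⟨_, h2, h3⟩ := Net.ok_cons h
    show stepK M d (invPt L) p < N
    rw [stepK_eq]
    exact ih h3 (tau_lt h2 hp)

/-- `c 0`, …, `c (n - 1)` side by side in fields of `W` bits -/
private noncomputable def fnSt (W : ℕ) (c : ℕ → ℕ) (n : ℕ) : ℕ :=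
  Nat.rec (motive := fun _ => ℕ) 0 (fun b ih => Nat.lor ih (Nat.shiftLeft (c b) (Nat.mul W b))) n

private theorem fnSt_lt {W : ℕ} {c : ℕ → ℕ} {e : ℕ} (he : e ≤ W) (hc : ∀ b, c b < 2 ^ e) (n i : ℕ)
    (h : (fnSt W c n).testBit i = true) : i + W < W * n + e := by
  induction n with
  | zero => exact absurd h (by show ¬ (Nat.testBit 0 i = true); simp)
  | succ n ih =>
    have h' : ((fnSt W c n) ||| (c n <<< (W * n))).testBit i = true := h
    rw [Nat.testBit_or, Bool.or_eq_true, Nat.testBit_shiftLeft, Bool.and_eq_true, decide_eq_true_eq] at h'
    rw [Nat.mul_succ]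
    rcases h' with h' | ⟨h1, h2⟩
    · have := ih h'; omega
    · have : i - W * n < e := by
        by_contra hh
        rw [Nat.testBit_lt_two_pow (lt_of_lt_of_le (hc n) (Nat.pow_le_pow_right (by decide) (by omega)))] at h2
        exact absurd h2 (by simp)
      omega

private theorem fnSt_gather {W m : ℕ} (hW : 2 ^ W ≡ 2 [MOD m]) {c : ℕ → ℕ} (hc : ∀ b, c b < 2 ^ W) {r : ℕ} (hr : r < W)
    (v n : ℕ) (h : ∀ b < n, (c b).testBit r = v.testBit b) :
    ((fnSt W c n >>> r) &&& fnSt W (fun _ => 1) n) ≡ v % 2 ^ n [MOD m] := by
  induction n with
  | zero => show (0 >>> r &&& 0) ≡ _ [MOD m]; simp [Nat.mod_one]; rfl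
  | succ n ih =>
    have hS := fnSt_lt le_rfl hc n
    have hR := fnSt_lt (W := W) (c := fun _ => 1) (e := 1) (by omega) (fun _ => by decide) n
    have hG : (fnSt W c n >>> r) &&& fnSt W (fun _ => 1) n < 2 ^ (W * n) := by
      apply Nat.lt_pow_two_of_testBit
      intro i hi
      rw [Nat.testBit_and]
      cases hb : (fnSt W (fun _ => 1) n).testBit i
      · simp
      · have := hR i hb; omega
    have e : (fnSt W c (n + 1) >>> r) &&& fnSt W (fun _ => 1) (n + 1) =
        2 ^ (W * n) * (v.testBit n).toNat + ((fnSt W c n >>> r) &&& fnSt W (fun _ => 1) n) := by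
      rw [Nat.two_pow_add_eq_or_of_lt hG]
      show ((fnSt W c n ||| (c n <<< (W * n))) >>> r) &&& (fnSt W (fun _ => 1) n ||| (1 <<< (W * n))) = _
      apply Nat.eq_of_testBit_eq
      intro i
      rw [Nat.testBit_and, Nat.testBit_shiftRight, Nat.testBit_or, Nat.testBit_or, Nat.testBit_or, Nat.testBit_and,
        Nat.testBit_shiftRight, Nat.testBit_shiftLeft, Nat.one_shiftLeft, Nat.testBit_two_pow, Nat.testBit_two_pow_mul,
        Nat.testBit_bool_toNat]
      by_cases hi : W * n = i
      · have h1 : (fnSt W c n).testBit (r + i) = false := by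
          cases hb : (fnSt W c n).testBit (r + i)
          · rfl
          · have := hS _ hb; omega
        rw [h1, show r + i - W * n = r by omega, h n (Nat.lt_succ_self n)]
        simp [← hi]
      · cases hb : (fnSt W (fun _ => 1) n).testBit i
        · have : ¬ (i ≥ W * n ∧ i - W * n = 0) := by omega
          simp [hi]; omega
        · have := hR i hb
          have h1 : ¬ (r + i ≥ W * n) := by omega
          have h2 : ¬ (i ≥ W * n) := by omega
          simp [h1, h2]
    rw [e, Nat.mod_pow_succ, Nat.toNat_testBit, add_comm, pow_mul]
    exact (ih fun b hb => h b (by omega)).add ((hW.pow n).mul_right _)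

/-- bit plane `b` of the table of the inverse permutation of `L` -/
private noncomputable def fnPl (k N : ℕ) (L : Net) (b : ℕ) : ℕ :=
  fnApp L (Nat.land (plane k b) (Nat.sub (Nat.shiftLeft (nat_lit 1) N) (nat_lit 1)))

/-- the pieces `j` (1024 points) of all planes -/
private noncomputable def fnTab (k N : ℕ) (L : Net) (j : ℕ) : ℕ :=
  fnSt (nat_lit 1024) (fun b => Nat.land (Nat.shiftRight (fnPl k N L b) (Nat.mul (nat_lit 1024) j))
    (Nat.sub (Nat.shiftLeft (nat_lit 1) (nat_lit 1024)) (nat_lit 1))) k

private noncomputable def fnLook (k N : ℕ) (L : Net) (p : ℕ) : ℕ :=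
  force (Nat.shiftRight p (nat_lit 10)) fun j =>
    Nat.mod (Nat.land (Nat.shiftRight (fnTab k N L j) (Nat.land p (nat_lit 1023))) (fnSt (nat_lit 1024) (fun _ => 1) k))
      (nat_lit 2147483647)

private theorem fnLook_eq {k N : ℕ} (hk : k ≤ 30) (hN : N ≤ 2 ^ k) {L : Net} (h : L.ok N = true) {p : ℕ} (hp : p < N) :
    fnLook k N L p = invPt L p := by
  have hv := fnInv_lt h hp
  have hr : p &&& (2 ^ 10 - 1) = p % 2 ^ 10 := Nat.and_two_pow_sub_one_eq_mod p 10
  have hj : p >>> 10 = p / 2 ^ 10 := Nat.shiftRight_eq_div_pow p 10
  have key : ∀ W : ℕ, W = 1024 → 2 ^ W ≡ 2 [MOD 2147483647] →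
      ((fnSt W (fun b => (fnPl k N L b >>> (W * (p >>> 10))) &&& (1 <<< W - 1)) k >>> (p &&& (2 ^ 10 - 1))) &&&
        fnSt W (fun _ => 1) k) % 2147483647 = invPt L p := by
    intro W e hW
    have h1 := fnSt_gather hW (c := fun b => (fnPl k N L b >>> (W * (p >>> 10))) &&& (1 <<< W - 1))
      (fun b => by rw [Nat.one_shiftLeft, Nat.and_two_pow_sub_one_eq_mod]; exact Nat.mod_lt _ (Nat.two_pow_pos W))
      (r := p &&& (2 ^ 10 - 1)) (by omega) (invPt L p) k (fun b hb => by
        rw [Nat.one_shiftLeft, Nat.testBit_and, Nat.testBit_two_pow_sub_one, Nat.testBit_shiftRight,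
          show W * (p >>> 10) + (p &&& (2 ^ 10 - 1)) = p by rw [e]; omega, decide_eq_true (by omega), Bool.and_true]
        show (fnApp L (plane k b &&& (1 <<< N - 1))).testBit p = _
        rw [fnApp_bit h, Nat.one_shiftLeft, Nat.testBit_and, Nat.testBit_two_pow_sub_one, decide_eq_true hv,
          Bool.and_true, testBit_plane k b _ (by omega) hb])
    have h2 : 2 ^ k ≤ 2 ^ 30 := Nat.pow_le_pow_right (by decide) hk
    rw [Nat.mod_eq_of_lt (show invPt L p < 2 ^ k by omega)] at h1
    rw [show _ % 2147483647 = _ from h1, Nat.mod_eq_of_lt (by omega)]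
  delta fnLook
  rw [force_eq]
  exact key (nat_lit 1024) rfl (by decide +kernel)

private noncomputable def fnEv (k N : ℕ) (w : List Net) : ℕ → ℕ :=
  List.rec (motive := fun _ => ℕ → ℕ) (fun p => p) (fun L _ ih p => force (fnLook k N L p) ih) w

private theorem fnEv_eq {k N : ℕ} (hk : k ≤ 30) (hN : N ≤ 2 ^ k) {w : List Net} (h : WOk N w) {p : ℕ} (hp : p < N) :
    fnEv k N w p = winv w p := by
  induction w generalizing p with
  | nil => rfl
  | cons L w ih =>
    show force (fnLook k N L p) (fnEv k N w) = force (invPt L p) (winv w)
    rw [force_eq, force_eq, fnLook_eq hk hN (h L List.mem_cons_self) hp]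
    exact ih (fun K hK => h K (List.mem_cons_of_mem _ hK)) (fnInv_lt (h L List.mem_cons_self) hp)

/-- `winv` by table look-up -/
private noncomputable def fnInv (k N : ℕ) (w : List Net) (p : ℕ) : ℕ :=
  force p fun q => Bool.rec (winv w q) (fnEv k N w q) (Nat.ble (Nat.succ q) N)

private theorem fnInv_eq {k N : ℕ} (hk : k ≤ 30) (hN : N ≤ 2 ^ k) {w : List Net} (h : WOk N w) (p : ℕ) :
    winv w p = fnInv k N w p := by
  delta fnInv
  rw [force_eq]
  cases hb : Nat.ble (Nat.succ p) N
  · rfl
  · exact (fnEv_eq hk hN h (Nat.le_of_ble_eq_true hb)).symm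

private noncomputable def fnChk (w : List Net) (q p : ℕ) : Bool :=
  Nat.beq (fnInv (nat_lit 19) (nat_lit 327680) w p) q

open Cfsg.Agent.Fischer.Fi24RepDef in
private theorem fn_chk (l : List Cfsg.Spor.Fi24.Gen) (b : Bool) (q p : ℕ) :
    chkPt (nw l b) q p = fnChk (nw l b) q p := by
  delta fnChk
  rw [← fnInv_eq (by decide) (by decide) (wok l b)]; rfl

end FastNet

open Cfsg.Agent.Lib.PermNetPt Cfsg.Agent.Fischer.Fi24RepDef
open Cfsg.Agent.Fischer.Fi24Spider (gword)
open Cfsg.Agent.Lib.PackMat (allBelow dg)
open Cfsg.Agent.H834.U5 (gw5 u917 u11793 u11888)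
open Cfsg.Agent.LThreeFi24.TwinK (wx3)
open Cfsg.Agent.LThreeFi24.FiveConj (eqB)
open Cfsg.Agent.H842.FrameK (x5w)
open Cfsg.Agent.SB.F24.Md
open Cfsg.Spor.Fi24 (Gen)

/-- a word in the five generators of `2 × U₅(2)` -/
noncomputable def gew (w : List ℕ) : List Gen := List.rec [] (fun k _ ih => gw5.getD k [] ++ ih) w

def ddw : List (List Gen) := [[.l], [.a], u917 ++ Gen.b :: u917.reverse, u11793 ++ Gen.a :: u11793.reverse,
  u11888 ++ Gen.a :: u11888.reverse]

def tu : List (List Gen) := [
  [.c, .d, .e, .f, .b, .c, .d, .e, .a, .b, .c, .d, .h, .i, .g, .f, .e, .d, .h, .j, .g, .f, .e, .d, .c, .b, .a],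
  [.c, .d, .h, .i, .e, .d, .h, .f, .g, .c, .d, .e, .f, .b, .c, .d, .e, .a, .b, .c, .d, .h, .i, .d, .e, .b, .c, .d, .h, .j, .g, .f, .e, .d, .c, .b, .a,
    .k],
  [.h, .d, .e, .b, .c, .d, .h, .i, .f, .g, .e, .f, .d, .e, .c, .d, .h, .j, .g, .f, .e, .d, .c, .b],
  [.c, .d, .h, .i, .e, .d, .h, .f, .g, .e, .f, .c, .d, .e, .b, .c, .d, .h, .i, .f, .d, .e, .b, .c, .d, .h, .j, .g, .f, .e, .d, .c, .b],
  [.f, .b, .c, .d, .e, .a, .b, .c, .d, .h, .i, .f, .d, .e, .c, .d, .h, .e, .f, .g, .d, .e, .f, .c, .d, .e, .b, .c, .d, .h, .i, .f, .d, .e, .b, .c, .d,
    .h, .j, .g, .f, .e, .d, .c, .b],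
  [.h, .i, .d, .h, .e, .d],
  [.c, .d, .h, .i, .h, .f, .g, .e, .f, .d, .e, .b, .c, .d, .h, .j, .g, .f, .e, .d, .c, .b],
  [.e, .c, .d, .h, .i, .h, .f, .g, .e, .f, .c, .d, .e, .b, .c, .d, .h, .j, .g, .f, .e, .d, .c, .b],
  [.c, .d, .h, .i, .f, .g, .e, .f, .c, .d, .e, .b, .c, .d, .h, .j, .g, .f, .e, .d, .c, .b],
  [.e, .c, .d, .h, .i, .f, .g, .e, .f, .d, .e, .b, .c, .d, .h, .j, .g, .f, .e, .d, .c, .b]]

def tx : List Gen := [.k, .l, .a, .a, .a, .c, .a, .a, .a, .a]

def Hw : List (List ℕ) := [[], [3, 4, 2, 3, 4, 1, 0, 2, 1], [4, 3, 1, 4, 2, 0, 1, 4, 3, 2, 1, 0], [3, 2, 1, 2, 4, 3, 2, 0, 1, 2, 4, 1, 0, 2, 1], [3, 2, 1, 4, 3, 2, 0, 1, 2, 4, 3, 1, 0, 2, 1]]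

def Ep : List ℕ := [306929, 277670, 2460, 23298, 12252, 177, 3011, 438, 3010, 431]

def TPL : List (List ℕ) := [
  [0, 277670, 277638, 306929, 277583, 276547, 306897, 276579, 277615],
  [1, 23298, 23299, 2460, 24422, 24398, 2461, 24399, 24423],
  [917, 177, 68, 12252, 12177, 12218, 12278, 12285, 12253],
  [11793, 438, 3650, 3011, 3663, 11900, 3630, 12048, 1004],
  [11888, 431, 3651, 3010, 3662, 11805, 3631, 12060, 997]]

def tp (i a b : ℕ) : ℕ := (TPL.getD i []).getD (3 * a + b) 0

/-- the ten generators of `Q` -/
def bw (j : ℕ) : List Gen := ddw.getD (j / 2) [] ++ (tu.getD j [] ++ [tx.getD j .l] ++ (tu.getD j []).reverse)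

def qb (j : ℕ) : List Gen := bif Nat.blt j 10 then bw j else (bw (j - 10)).reverse

noncomputable def qw (l : List ℕ) : List Gen := List.rec [] (fun j _ ih => qb j ++ ih) l

noncomputable def hC (i : ℕ) : Bool :=
  chkPt (nw (gew (Hw.getD i [])) false) 0 (tp i 0 0) && (chkPt (nw (gew (Hw.getD i [])) false) 306929 (Ep.getD (2 * i) 0) &&
  (chkPt (nw (gew (Hw.getD i [])) false) 277670 (Ep.getD (2 * i + 1) 0) &&
  (chkPt (nw (tu.getD (2 * i) [] ++ gword (tx.getD (2 * i) .l)) false) 0 (Ep.getD (2 * i) 0) &&
  chkPt (nw (tu.getD (2 * i + 1) [] ++ gword (tx.getD (2 * i + 1) .l)) false) 0 (Ep.getD (2 * i + 1) 0))))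

noncomputable def tC (i : ℕ) : Bool :=
  allBelow (fun b => chkPt (nw (bw (2 * i + 1)) false) (tp i 0 b) (tp i 0 (b + 1))) 2 &&
  allBelow (fun a => allBelow (fun b => chkPt (nw (bw (2 * i)) false) (tp i a b) (tp i (a + 1) b)) 3) 2

theorem tp_inj : allBelow (fun i => allBelow (fun a => allBelow (fun b => allBelow (fun a' => allBelow (fun b' =>
    !Nat.beq (tp i a b) (tp i a' b') || (Nat.beq a a' && Nat.beq b b')) 3) 3) 3) 3) 5 = true := by decide +kernel

/-- row `j` of the matrix of the word `g` -/
noncomputable def rC (g : List Gen) (A j : ℕ) : Bool :=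
  allBelow (fun i => chkPt (nw (g.reverse ++ (bw j ++ g)) false) (tp i 0 0)
    (tp i (dg 12 A (j + 10 * (2 * i))) (dg 12 A (j + 10 * (2 * i + 1))))) 5

private noncomputable def hCF (i : ℕ) : Bool :=
  fnChk (nw (gew (Hw.getD i [])) false) 0 (tp i 0 0) && (fnChk (nw (gew (Hw.getD i [])) false) 306929 (Ep.getD (2 * i) 0) &&
  (fnChk (nw (gew (Hw.getD i [])) false) 277670 (Ep.getD (2 * i + 1) 0) &&
  (fnChk (nw (tu.getD (2 * i) [] ++ gword (tx.getD (2 * i) .l)) false) 0 (Ep.getD (2 * i) 0) &&
  fnChk (nw (tu.getD (2 * i + 1) [] ++ gword (tx.getD (2 * i + 1) .l)) false) 0 (Ep.getD (2 * i + 1) 0))))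

private noncomputable def tCF (i : ℕ) : Bool :=
  allBelow (fun b => fnChk (nw (bw (2 * i + 1)) false) (tp i 0 b) (tp i 0 (b + 1))) 2 &&
  allBelow (fun a => allBelow (fun b => fnChk (nw (bw (2 * i)) false) (tp i a b) (tp i (a + 1) b)) 3) 2

private noncomputable def rCF (g : List Gen) (A j : ℕ) : Bool :=
  allBelow (fun i => fnChk (nw (g.reverse ++ (bw j ++ g)) false) (tp i 0 0)
    (tp i (dg 12 A (j + 10 * (2 * i))) (dg 12 A (j + 10 * (2 * i + 1))))) 5

private theorem hC_eq : hC = hCF := by
  funext i; delta hC hCF; simp only [fn_chk]

private theorem tC_eq : tC = tCF := by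
  funext i; delta tC tCF; simp only [fn_chk]

private theorem rC_eq : rC = rCF := by
  funext g A j; delta rC rCF; simp only [fn_chk]

private theorem fn_all :
    (allBelow hCF 5 = true) ∧
    (allBelow tCF 5 = true) ∧
    (allBelow (rCF (gw5.getD 0 []) g0) 6 = true) ∧
    (allBelow (fun j => rCF (gw5.getD 0 []) g0 (j + 6)) 4 = true) ∧
    (allBelow (rCF (gw5.getD 1 []) g1) 6 = true) ∧
    (allBelow (fun j => rCF (gw5.getD 1 []) g1 (j + 6)) 4 = true) ∧
    (allBelow (rCF (gw5.getD 2 []) g2) 6 = true) ∧
    (allBelow (fun j => rCF (gw5.getD 2 []) g2 (j + 6)) 4 = true) ∧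
    (allBelow (rCF (gw5.getD 3 []) g3) 6 = true) ∧
    (allBelow (fun j => rCF (gw5.getD 3 []) g3 (j + 6)) 4 = true) ∧
    (allBelow (rCF (gw5.getD 4 []) g4) 6 = true) ∧
    (allBelow (fun j => rCF (gw5.getD 4 []) g4 (j + 6)) 4 = true) := by
  decide +kernel

theorem h_chk : allBelow hC 5 = true := by
  rw [hC_eq]; exact fn_all.1

theorem t_chk : allBelow tC 5 = true := by
  rw [tC_eq]; exact fn_all.2.1

theorem r_chk0a : allBelow (rC (gw5.getD 0 []) g0) 6 = true := by
  rw [rC_eq]; exact fn_all.2.2.1

theorem r_chk0b : allBelow (fun j => rC (gw5.getD 0 []) g0 (j + 6)) 4 = true := by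
  rw [rC_eq]; exact fn_all.2.2.2.1

theorem r_chk1a : allBelow (rC (gw5.getD 1 []) g1) 6 = true := by
  rw [rC_eq]; exact fn_all.2.2.2.2.1

theorem r_chk1b : allBelow (fun j => rC (gw5.getD 1 []) g1 (j + 6)) 4 = true := by
  rw [rC_eq]; exact fn_all.2.2.2.2.2.1

theorem r_chk2a : allBelow (rC (gw5.getD 2 []) g2) 6 = true := by
  rw [rC_eq]; exact fn_all.2.2.2.2.2.2.1

theorem r_chk2b : allBelow (fun j => rC (gw5.getD 2 []) g2 (j + 6)) 4 = true := by
  rw [rC_eq]; exact fn_all.2.2.2.2.2.2.2.1

theorem r_chk3a : allBelow (rC (gw5.getD 3 []) g3) 6 = true := by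
  rw [rC_eq]; exact fn_all.2.2.2.2.2.2.2.2.1

theorem r_chk3b : allBelow (fun j => rC (gw5.getD 3 []) g3 (j + 6)) 4 = true := by
  rw [rC_eq]; exact fn_all.2.2.2.2.2.2.2.2.2.1

theorem r_chk4a : allBelow (rC (gw5.getD 4 []) g4) 6 = true := by
  rw [rC_eq]; exact fn_all.2.2.2.2.2.2.2.2.2.2.1

theorem r_chk4b : allBelow (fun j => rC (gw5.getD 4 []) g4 (j + 6)) 4 = true := by
  rw [rC_eq]; exact fn_all.2.2.2.2.2.2.2.2.2.2.2

theorem red_MG : allL (Cfsg.Agent.Lib.PackMatMul.redC C) MG = true := by decide +kernel

end Cfsg.Agent.SB.F24.Wd
end
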